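import Cfsg.Agent.Lib.MaxSub.TPowSL.Transv

/-!
A group containing the slot transvections and the 3-cycles of the slots is good or contains the special
linear group.
-/

set_option autoImplicit false
set_option linter.unusedSectionVars false
set_option linter.style.haveILetI false

namespace CfsgLib.MaxSub.TPowSL

open Matrix CfsgLib.Aschbacher
open CfsgLib.Aschbacher.Orth (permMat_one permMat_mul_permMat)
open scoped MatrixGroups

variable {m t : ℕ} {F : Type*} [Field F]

/-- the operators invariant under the transvections of the slots -/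
def SlotInv (V : Submodule F (Op m t F)) : Prop :=
  ∀ (l : Fin t) (a b : Fin m) (h : a ≠ b) (c : F) (X : Op m t F), X ∈ V →
    ((slotGL l (el h c) : GL (Fin t → Fin m) F) : Op m t F) * X *
      (((slotGL l (el h c))⁻¹ : GL (Fin t → Fin m) F) : Op m t F) ∈ V

/-- all blocks diagonal and equal: scalar -/
theorem scalar_of_blocks [NeZero m] {β : Op m t F}
    (h : ∀ (l : Fin t) (X : Matrix (Fin m) (Fin m) F), Commute β (slot l X)) : ∃ c : F, β = c • 1 :=
  scalar_of_commute_slots β h

theorem up_single (a b : Fin m) :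
    up (Op m t F) (Matrix.single a b (1 : F)) = Matrix.single a b 1 := by
  refine Matrix.ext fun x y => ?_
  rw [up_apply, Matrix.single_apply, Matrix.single_apply]
  split <;> simp

/-- the difference under a transvection -/
theorem slotInv_diff {V : Submodule F (Op m (t + 1) F)} (hV : SlotInv V) (j : Fin (t + 1)) {a b : Fin m} (hab : a ≠ b)
    {X : Op m (t + 1) F} (hX : X ∈ V) : ∃ Y ∈ V, blk j Y =
      Matrix.single a b 1 * blk j X - blk j X * Matrix.single a b 1 -
        Matrix.single a b 1 * blk j X * Matrix.single a b 1 := by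
  refine ⟨_, sub_mem (hV j a b hab 1 X hX) hX, ?_⟩
  rw [blk_sub, blk_mul, blk_mul, blk_el, ← map_inv, el_inv, blk_el, one_smul, neg_one_smul, ← Matrix.single_neg]
  simp only [add_mul, mul_add, one_mul, mul_one, mul_neg]
  abel

theorem single_sandwich {R : Type*} [Ring R] (B : Matrix (Fin m) (Fin m) R) (a b c d : Fin m) :
    Matrix.single a b 1 * B * Matrix.single c d 1 = Matrix.single a d (B b c) := by
  refine Matrix.ext fun x y => ?_
  rcases eq_or_ne y d with rfl | hy
  · rw [Matrix.mul_single_apply_same, mul_one]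
    rcases eq_or_ne x a with rfl | hx
    · rw [Matrix.single_mul_apply_same, one_mul, Matrix.single_apply_same]
    · rw [Matrix.single_mul_apply_of_ne _ _ _ _ _ hx, Matrix.single_apply_of_ne]
      exact fun h => hx h.1.symm
  · rw [Matrix.mul_single_apply_of_ne _ _ _ _ _ hy, Matrix.single_apply_of_ne]
    exact fun h => hy h.2.symm

/-- an invariant subspace with a non-scalar contains a tensor of ones and off-diagonal units -/
theorem exists_unit_tensor (hm : 3 ≤ m) : ∀ {t : ℕ} (V : Submodule F (Op m t F)), SlotInv V →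
    (∃ β ∈ V, ∀ c : F, β ≠ c • 1) → ∃ f : Fin t → Matrix (Fin m) (Fin m) F,
      (∀ l, f l = 1 ∨ ∃ u v, u ≠ v ∧ f l = Matrix.single u v 1) ∧
      (∃ l u v, u ≠ v ∧ f l = Matrix.single u v 1) ∧ pureMat f ∈ V
  | 0, V, _, ⟨β, _, hns⟩ => by
    haveI : NeZero m := ⟨by omega⟩
    obtain ⟨c, hc⟩ := scalar_of_blocks (β := β) fun l => l.elim0
    exact absurd hc (hns c)
  | t + 1, V, hV, ⟨β, hβ, hns⟩ => by
    haveI : NeZero m := ⟨by omega⟩
    obtain ⟨j, hj⟩ : ∃ j, ∃ X, ¬ Commute β (slot j X) := by
      by_contra hno
      push Not at hno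
      obtain ⟨c, hc⟩ := scalar_of_blocks hno
      exact hns c hc
    set B := blk j β with hB
    obtain ⟨p, q, hpq, y, hy, Y, hY, eY⟩ : ∃ p q, p ≠ q ∧ ∃ y : Op m t F, y ≠ 0 ∧ ∃ Y ∈ V,
        blk j Y = Matrix.single p q y := by
      by_cases hoff : ∃ u v, u ≠ v ∧ B u v ≠ 0
      · obtain ⟨c, a, hca, hne⟩ := hoff
        obtain ⟨b, hba, hbc⟩ : ∃ b, b ≠ a ∧ b ≠ c := by
          by_contra hno
          push Not at hno
          have := Finset.card_le_card (s := Finset.univ) (t := {a, c}) fun b _ => by
            rcases eq_or_ne b a with rfl | hc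
            · simp
            · simp [hno b hc]
          have h2 : ({a, c} : Finset (Fin m)).card ≤ 2 := Finset.card_le_two
          simp at this
          omega
        obtain ⟨Y₁, hY₁, e₁⟩ := slotInv_diff hV j hba.symm hβ
        obtain ⟨Y₂, hY₂, e₂⟩ := slotInv_diff hV j hca.symm hY₁
        obtain ⟨Y₃, hY₃, e₃⟩ := slotInv_diff hV j hbc hY₂
        refine ⟨a, c, hca.symm, B c a, hne, Y₃, hY₃, ?_⟩
        rw [← hB] at e₁
        have n1 : Matrix.single a c (1 : Op m t F) * Matrix.single a b 1 = 0 :=
          Matrix.single_mul_single_of_ne _ _ _ _ hca _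
        have n2 : Matrix.single a b (1 : Op m t F) * Matrix.single a c 1 = 0 :=
          Matrix.single_mul_single_of_ne _ _ _ _ hba _
        have e₂' : blk j Y₂ = -(Matrix.single a b (B c a) + Matrix.single a c (B b a)) := by
          rw [e₂, e₁]
          simp only [mul_sub, sub_mul, ← mul_assoc, n1, zero_mul]
          simp only [mul_assoc, n2, mul_zero]
          simp only [← mul_assoc, single_sandwich]
          abel
        rw [e₃, e₂']
        simp only [mul_neg, neg_mul, mul_add, add_mul]
        simp only [Matrix.single_mul_single_of_ne _ _ _ _ hca, Matrix.single_mul_single_same,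
          Matrix.single_mul_single_of_ne _ _ _ _ hbc.symm, mul_one, zero_mul, add_zero, zero_add, neg_zero, zero_sub,
          sub_zero, neg_neg]
      · push Not at hoff
        obtain ⟨a, b, hab⟩ : ∃ a b, B a a ≠ B b b := by
          by_contra hno
          push Not at hno
          obtain ⟨X, hX⟩ := hj
          refine hX (blk_injective j ?_)
          rw [blk_mul, blk_mul, blk_slot_up, ← hB]
          refine Matrix.ext fun u v => ?_
          rw [Matrix.mul_apply, Matrix.mul_apply, Finset.sum_eq_single u (fun z _ hz => by rw [hoff u z (Ne.symm hz), zero_mul])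
            (by simp), Finset.sum_eq_single v (fun z _ hz => by rw [hoff z v hz, mul_zero]) (by simp), hno u v, up_apply,
            mul_smul_comm, mul_one, smul_mul_assoc, one_mul]
        have hne : a ≠ b := fun e => hab (e ▸ rfl)
        obtain ⟨Y₁, hY₁, e₁⟩ := slotInv_diff hV j hne hβ
        refine ⟨a, b, hne, B b b - B a a, sub_ne_zero.2 hab.symm, Y₁, hY₁, ?_⟩
        rw [e₁, ← hB, single_sandwich, hoff b a hne.symm]
        refine Matrix.ext fun u v => ?_
        simp only [Matrix.sub_apply, Matrix.single_zero, Matrix.zero_apply, sub_zero]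
        rcases eq_or_ne u a with rfl | hu
        · rw [Matrix.single_mul_apply_same, one_mul]
          rcases eq_or_ne v b with rfl | hv
          · rw [Matrix.mul_single_apply_same, mul_one, Matrix.single_apply_same]
          · rw [Matrix.mul_single_apply_of_ne _ _ _ _ _ hv, sub_zero, Matrix.single_apply, if_neg (fun h : u = u ∧ b = v => hv h.2.symm),
              hoff b v (Ne.symm hv)]
        · rw [Matrix.single_mul_apply_of_ne _ _ _ _ _ hu, Matrix.single_apply, if_neg (fun h : a = u ∧ b = v => hu h.1.symm)]
          rcases eq_or_ne v b with rfl | hv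
          · rw [Matrix.mul_single_apply_same, mul_one, hoff u a hu, sub_zero]
          · rw [Matrix.mul_single_apply_of_ne _ _ _ _ _ hv, sub_zero]
    let V' : Submodule F (Op m t F) :=
      { carrier := {z | ∃ Y ∈ V, blk j Y = Matrix.single p q z}
        zero_mem' := ⟨0, zero_mem _, by rw [blk_zero, Matrix.single_zero]⟩
        add_mem' := by
          rintro z z' ⟨Y, hY, e⟩ ⟨Y', hY', e'⟩
          exact ⟨Y + Y', add_mem hY hY', by rw [blk_add, e, e', Matrix.single_add]⟩
        smul_mem' := by
          rintro c z ⟨Y, hY, e⟩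
          exact ⟨c • Y, V.smul_mem c hY, by rw [blk_smul, e, Matrix.smul_single]⟩ }
    have hV' : SlotInv V' := by
      rintro l a b h c X ⟨Y, hY, e⟩
      refine ⟨_, hV (j.succAbove l) a b h c Y hY, ?_⟩
      rw [blk_mul, blk_mul, e, ← map_inv, slotGL_val, slotGL_val, blk_slot_other, blk_slot_other, ← map_inv,
        slotGL_val, slotGL_val]
      refine Matrix.ext fun u v => ?_
      rw [Matrix.mul_diagonal, Matrix.diagonal_mul, Matrix.single_apply, Matrix.single_apply]
      split <;> simp
    have hyV : y ∈ V' := ⟨Y, hY, eY⟩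
    have build : ∀ f : Fin t → Matrix (Fin m) (Fin m) F, pureMat f ∈ V' →
        pureMat (Fin.insertNth (α := fun _ => Matrix (Fin m) (Fin m) F) j (Matrix.single p q 1) f) ∈ V := by
      rintro f ⟨Z, hZ, eZ⟩
      have e : pureMat (Fin.insertNth (α := fun _ => Matrix (Fin m) (Fin m) F) j (Matrix.single p q 1) f) = Z := by
        refine blk_injective j (Matrix.ext fun u v => ?_)
        rw [blk_pureMat, eZ, Matrix.single_apply]
        simp only [Fin.insertNth_apply_same, Fin.insertNth_apply_succAbove, Matrix.single_apply]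
        split <;> simp
      rw [e]; exact hZ
    have facts : ∀ f : Fin t → Matrix (Fin m) (Fin m) F, (∀ l, f l = 1 ∨ ∃ u v, u ≠ v ∧ f l = Matrix.single u v 1) →
        ∀ l, Fin.insertNth (α := fun _ => Matrix (Fin m) (Fin m) F) j (Matrix.single p q 1) f l = 1 ∨
          ∃ u v, u ≠ v ∧ Fin.insertNth (α := fun _ => Matrix (Fin m) (Fin m) F) j (Matrix.single p q 1) f l =
            Matrix.single u v 1 := fun f hf l => by
      rcases eq_or_ne l j with rfl | hl
      · exact Or.inr ⟨p, q, hpq, Fin.insertNth_apply_same _ _ _⟩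
      · obtain ⟨l', rfl⟩ := Fin.exists_succAbove_eq hl
        simpa using hf l'
    by_cases hsc : ∃ c : F, y = c • 1
    · obtain ⟨c, rfl⟩ := hsc
      have hc : c ≠ 0 := fun e => hy (by rw [e, zero_smul])
      have h1 : pureMat (fun _ : Fin t => (1 : Matrix (Fin m) (Fin m) F)) ∈ V' := by
        have := V'.smul_mem c⁻¹ hyV
        rwa [smul_smul, inv_mul_cancel₀ hc, one_smul, ← pureMat_one] at this
      exact ⟨_, facts _ (fun _ => Or.inl rfl), ⟨j, p, q, hpq, Fin.insertNth_apply_same _ _ _⟩, build _ h1⟩
    · push Not at hsc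
      obtain ⟨f, hf, -, hfV⟩ := exists_unit_tensor hm V' hV' ⟨y, hyV, hsc⟩
      exact ⟨_, facts _ hf, ⟨j, p, q, hpq, Fin.insertNth_apply_same _ _ _⟩, build _ hfV⟩

theorem prod_update (f : Fin t → Matrix (Fin m) (Fin m) F) (k : Fin t) (X : Matrix (Fin m) (Fin m) F)
    (r s : Fin t → Fin m) : (pureMat (Function.update f k X) : Op m t F) r s =
      X (r k) (s k) * ∏ l ∈ Finset.univ.erase k, f l (r l) (s l) := by
  simp only [pureMat, Matrix.of_apply]
  rw [← Finset.mul_prod_erase _ _ (Finset.mem_univ k), Function.update_self]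
  congr 1
  exact Finset.prod_congr rfl fun l hl => by rw [Function.update_of_ne (Finset.ne_of_mem_erase hl)]

theorem pure_update_linear (f : Fin t → Matrix (Fin m) (Fin m) F) (k : Fin t) (X Y : Matrix (Fin m) (Fin m) F) :
    (pureMat (Function.update f k (X + Y)) : Op m t F) =
      pureMat (Function.update f k X) + pureMat (Function.update f k Y) := by
  refine Matrix.ext fun r s => ?_
  rw [Matrix.add_apply, prod_update, prod_update, prod_update, Matrix.add_apply, add_mul]

theorem pure_update_smul (f : Fin t → Matrix (Fin m) (Fin m) F) (k : Fin t) (c : F) (X : Matrix (Fin m) (Fin m) F) :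
    (pureMat (Function.update f k (c • X)) : Op m t F) = c • pureMat (Function.update f k X) := by
  refine Matrix.ext fun r s => ?_
  rw [Matrix.smul_apply, prod_update, prod_update, Matrix.smul_apply, smul_eq_mul, smul_eq_mul, mul_assoc]

theorem pureMat_conj_slot (f : Fin t → Matrix (Fin m) (Fin m) F) (k : Fin t) (x : GL (Fin m) F) :
    ((slotGL k x : GL (Fin t → Fin m) F) : Op m t F) * pureMat f * (((slotGL k x)⁻¹ : GL (Fin t → Fin m) F) : Op m t F) =
      pureMat (Function.update f k ((x : Matrix (Fin m) (Fin m) F) * f k * ((x⁻¹ : GL (Fin m) F) : Matrix (Fin m) (Fin m) F))) := by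
  rw [← map_inv, slotGL_val, slotGL_val, slot_def, slot_def, pureMat_mul, pureMat_mul]
  congr 1
  funext l
  rcases eq_or_ne l k with rfl | h
  · simp
  · simp [Function.update_of_ne h]

/-- the off-diagonal units of a slot move onto each other -/
theorem unit_orbit (hm : 3 ≤ m) {V : Submodule F (Op m t F)} (hV : SlotInv V) {f : Fin t → Matrix (Fin m) (Fin m) F}
    {k : Fin t} {u v : Fin m} (huv : u ≠ v) (h : pureMat (Function.update f k (Matrix.single u v 1)) ∈ V)
    {u' v' : Fin m} (huv' : u' ≠ v') : pureMat (Function.update f k (Matrix.single u' v' 1)) ∈ V := by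
  let P : Fin m → Fin m → Prop := fun a b => pureMat (Function.update f k (Matrix.single a b (1 : F))) ∈ V
  have col : ∀ a b c, a ≠ b → c ≠ a → c ≠ b → P a b → P a c := by
    intro a b c hab hca hcb hP
    have e := sub_mem (hV k b c hcb.symm 1 _ hP) hP
    rw [pureMat_conj_slot, Function.update_idem, Function.update_self, el_inv, el_val, el_val] at e
    have e' : Matrix.transvection b c (1 : F) * Matrix.single a b 1 * Matrix.transvection b c (-1) =
        Matrix.single a b 1 + (-1 : F) • Matrix.single a c 1 := by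
      rw [Matrix.transvection, Matrix.transvection, add_mul, one_mul, Matrix.single_mul_single_of_ne _ _ _ _ hca, add_zero,
        mul_add, mul_one, Matrix.single_mul_single_same, one_mul, Matrix.smul_single, smul_eq_mul, mul_one]
    rw [e', pure_update_linear, pure_update_smul, add_sub_cancel_left, neg_one_smul, neg_mem_iff] at e
    exact e
  have row : ∀ a b c, a ≠ b → c ≠ a → c ≠ b → P a b → P c b := by
    intro a b c hab hca hcb hP
    have e := sub_mem (hV k c a hca 1 _ hP) hP
    rw [pureMat_conj_slot, Function.update_idem, Function.update_self, el_inv, el_val, el_val] at e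
    have e' : Matrix.transvection c a (1 : F) * Matrix.single a b 1 * Matrix.transvection c a (-1) =
        Matrix.single a b 1 + Matrix.single c b 1 := by
      rw [Matrix.transvection, Matrix.transvection, add_mul, one_mul, Matrix.single_mul_single_same, one_mul, mul_add,
        mul_one, add_mul, Matrix.single_mul_single_of_ne _ _ _ _ hcb.symm, Matrix.single_mul_single_of_ne _ _ _ _ hcb.symm,
        add_zero, add_zero]
    rw [e', pure_update_linear, add_sub_cancel_left] at e
    exact e
  rcases eq_or_ne u' v with rfl | h1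
  · obtain ⟨w, hwu, hwv⟩ : ∃ w, w ≠ u ∧ w ≠ u' := by
      by_contra hno
      push Not at hno
      have := Finset.card_le_card (s := Finset.univ) (t := {u, u'}) fun w _ => by
        rcases eq_or_ne w u with rfl | hc
        · simp
        · simp [hno w hc]
      have h2 : ({u, u'} : Finset (Fin m)).card ≤ 2 := Finset.card_le_two
      simp at this
      omega
    have h3 : P u' w := row u w u' hwu.symm huv.symm hwv.symm (col u u' w huv hwu hwv h)
    rcases eq_or_ne v' w with rfl | h4
    · exact h3
    · exact col u' w v' hwv.symm huv'.symm h4 h3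
  · have h3 : P u' v := by
      rcases eq_or_ne u' u with rfl | h2
      · exact h
      · exact row u v u' huv h2 h1 h
    rcases eq_or_ne v' v with rfl | h4
    · exact h3
    · exact col u' v v' h1 huv'.symm h4 h3

/-- an invariant algebra with a non-scalar contains a whole slot -/
theorem exists_slot (hm : 3 ≤ m) (Z : Submodule F (Op m t F)) (hone : (1 : Op m t F) ∈ Z)
    (hmul : ∀ x y, x ∈ Z → y ∈ Z → x * y ∈ Z) (hV : SlotInv Z) (hns : ∃ β ∈ Z, ∀ c : F, β ≠ c • 1) :
    ∃ l : Fin t, ∀ X, slot l X ∈ Z := by
  classical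
  obtain ⟨f, hf, ⟨l, u₀, v₀, huv₀, hl⟩, hfZ⟩ := exists_unit_tensor hm Z hV hns
  set S := Finset.univ.filter fun k => f k ≠ 1 with hS
  have hoff : ∀ (g : Fin t → Matrix (Fin m) (Fin m) F) (K : Finset (Fin t)), K ⊆ S → (∀ k, k ∉ K → g k = f k) →
      (∀ k ∈ K, ∃ a b, a ≠ b ∧ g k = Matrix.single a b 1) → pureMat g ∈ Z := by
    intro g K
    induction K using Finset.induction_on generalizing g with
    | empty => intro _ h _; rw [show g = f from funext fun k => h k (by simp)]; exact hfZ
    | insert k K hk ih =>
      intro hsub hout hin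
      obtain ⟨a, b, hab, hg⟩ := hin k (Finset.mem_insert_self k K)
      have hkS : f k ≠ 1 := by simpa [hS] using hsub (Finset.mem_insert_self k K)
      obtain ⟨u, v, huv, hfk⟩ := (hf k).resolve_left hkS
      have h1 := ih (Function.update g k (f k)) (fun z hz => hsub (Finset.mem_insert_of_mem hz))
        (fun z hz => by
          rcases eq_or_ne z k with rfl | h
          · simp
          · rw [Function.update_of_ne h]; exact hout z (by simp [h, hz]))
        (fun z hz => by
          rw [Function.update_of_ne (fun h : z = k => hk (h ▸ hz))]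
          exact hin z (Finset.mem_insert_of_mem hz))
      rw [hfk] at h1
      have := unit_orbit hm hV huv h1 hab
      rwa [← hg, Function.update_eq_self] at this
  have hsingles : ∀ g : Fin t → Matrix (Fin m) (Fin m) F, (∀ k, k ∉ S → g k = 1) →
      (∀ k ∈ S, ∃ a b, g k = Matrix.single a b 1) → pureMat g ∈ Z := by
    intro g hout hin
    choose a b hab using hin
    have hx : ∀ k (hk : k ∈ S), ∃ x, x ≠ a k hk ∧ x ≠ b k hk := fun k hk => by
      by_contra hno
      push Not at hno
      have := Finset.card_le_card (s := Finset.univ) (t := {a k hk, b k hk}) fun w _ => by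
        rcases eq_or_ne w (a k hk) with rfl | hc
        · simp
        · simp [hno w hc]
      have h2 : ({a k hk, b k hk} : Finset (Fin m)).card ≤ 2 := Finset.card_le_two
      simp at this
      omega
    choose x hxa hxb using hx
    let g₁ : Fin t → Matrix (Fin m) (Fin m) F := fun k => if hk : k ∈ S then Matrix.single (a k hk) (x k hk) 1 else f k
    let g₂ : Fin t → Matrix (Fin m) (Fin m) F := fun k => if hk : k ∈ S then Matrix.single (x k hk) (b k hk) 1 else f k
    have h1 := hoff g₁ S (subset_refl _) (fun k hk => dif_neg hk) (fun k hk => ⟨_, _, (hxa k hk).symm, dif_pos hk⟩)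
    have h2 := hoff g₂ S (subset_refl _) (fun k hk => dif_neg hk) (fun k hk => ⟨_, _, hxb k hk, dif_pos hk⟩)
    have := hmul _ _ h1 h2
    rw [pureMat_mul] at this
    convert this using 2
    funext k
    by_cases hk : k ∈ S
    · simp [g₁, g₂, hk, hab k hk]
    · have : f k = 1 := by simpa [hS] using hk
      simp [g₁, g₂, hk, hout k hk, this]
  have hall : ∀ (K : Finset (Fin t)) (g : Fin t → Matrix (Fin m) (Fin m) F), (∀ k, k ∉ S → g k = 1) →
      (∀ k ∈ S, k ∉ K → ∃ a b, g k = Matrix.single a b 1) → pureMat g ∈ Z := by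
    intro K
    induction K using Finset.induction_on with
    | empty => exact fun g h1 h2 => hsingles g h1 fun k hk => h2 k hk (by simp)
    | insert k K hk ih =>
      intro g hout hin
      by_cases hkS : k ∈ S
      · let M : Submodule F (Matrix (Fin m) (Fin m) F) :=
          { carrier := {X | pureMat (Function.update g k X) ∈ Z}
            zero_mem' := by
              show pureMat (Function.update g k 0) ∈ Z
              rw [show (0 : Matrix (Fin m) (Fin m) F) = (0 : F) • 0 by rw [zero_smul], pure_update_smul, zero_smul]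
              exact zero_mem _
            add_mem' := fun {X Y} hX hY => by
              show pureMat (Function.update g k (X + Y)) ∈ Z
              rw [pure_update_linear]; exact add_mem hX hY
            smul_mem' := fun c X hX => by
              show pureMat (Function.update g k (c • X)) ∈ Z
              rw [pure_update_smul]; exact Z.smul_mem c hX }
        have hM : ∀ a b, Matrix.single a b (1 : F) ∈ M := fun a b => ih _
          (fun z hz => by rw [Function.update_of_ne (fun h : z = k => hz (h ▸ hkS))]; exact hout z hz)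
          (fun z hz hzK => by
            rcases eq_or_ne z k with rfl | h
            · exact ⟨a, b, Function.update_self _ _ _⟩
            · rw [Function.update_of_ne h]; exact hin z hz (by simp [h, hzK]))
        have : g k ∈ M := by
          rw [Matrix.matrix_eq_sum_single (g k)]
          refine sum_mem fun a _ => sum_mem fun b _ => ?_
          rw [show Matrix.single a b (g k a b) = g k a b • Matrix.single a b (1 : F) by
            rw [Matrix.smul_single, smul_eq_mul, mul_one]]
          exact M.smul_mem _ (hM a b)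
        have h' : pureMat (Function.update g k (g k)) ∈ Z := this
        rwa [Function.update_eq_self] at h'
      · exact ih g hout fun z hz hzK => hin z hz (by simp [hzK]; rintro rfl; exact hkS hz)
  refine ⟨l, fun X => ?_⟩
  have hlS : l ∈ S := by
    simp only [hS, Finset.mem_filter, Finset.mem_univ, true_and, hl]
    intro e
    have := congrFun (congrFun e u₀) u₀
    simp [huv₀.symm] at this
  rw [slot_def]
  refine hall S _ (fun k hk => ?_) (fun k hk hk' => absurd hk hk')
  rw [Function.update_of_ne (fun h : k = l => hk (h ▸ hlS))]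

section Root

variable {M : Subgroup (GL (Fin (t + 1) → Fin m) F)}

/-- a transvection over the other slots -/
def RootAt (M : Subgroup (GL (Fin (t + 1) → Fin m) F)) (i : Fin (t + 1)) (a b : Fin m) (β : Op m t F) : Prop :=
  ∃ g ∈ M, blk i (g : Op m (t + 1) F) = 1 + Matrix.single a b β

theorem RootAt.inv_blk {g : GL (Fin (t + 1) → Fin m) F} {i : Fin (t + 1)} {a b : Fin m} {β : Op m t F} (hab : a ≠ b)
    (e : blk i (g : Op m (t + 1) F) = 1 + Matrix.single a b β) :
    blk i ((g⁻¹ : GL (Fin (t + 1) → Fin m) F) : Op m (t + 1) F) = 1 - Matrix.single a b β := by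
  have e1 : blk i (g : Op m (t + 1) F) * (1 - Matrix.single a b β) = 1 := by
    rw [e, add_mul, one_mul, mul_sub, mul_one, Matrix.single_mul_single_of_ne _ _ _ _ (Ne.symm hab)]
    abel
  calc blk i ((g⁻¹ : GL (Fin (t + 1) → Fin m) F) : Op m (t + 1) F)
      = blk i ((g⁻¹ : GL (Fin (t + 1) → Fin m) F) : Op m (t + 1) F) *
          (blk i (g : Op m (t + 1) F) * (1 - Matrix.single a b β)) := by rw [e1, mul_one]
    _ = _ := by rw [← mul_assoc, ← blk_mul, ← Units.val_mul, inv_mul_cancel, Units.val_one, blk_one, one_mul]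

theorem RootAt.neg {i : Fin (t + 1)} {a b : Fin m} {β : Op m t F} (hab : a ≠ b) (h : RootAt M i a b β) :
    RootAt M i a b (-β) := by
  obtain ⟨g, hg, e⟩ := h
  exact ⟨g⁻¹, inv_mem hg, by rw [RootAt.inv_blk hab e, ← Matrix.single_neg, sub_eq_add_neg]⟩

theorem RootAt.comm {i : Fin (t + 1)} {a b c : Fin m} {β β' : Op m t F} (hab : a ≠ b) (hbc : b ≠ c) (hac : a ≠ c)
    (h : RootAt M i a b β) (h' : RootAt M i b c β') : RootAt M i a c (β * β') := by
  obtain ⟨g, hg, e⟩ := h
  obtain ⟨g', hg', e'⟩ := h'
  refine ⟨g * g' * g⁻¹ * g'⁻¹, mul_mem (mul_mem (mul_mem hg hg') (inv_mem hg)) (inv_mem hg'), ?_⟩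
  rw [Units.val_mul, Units.val_mul, Units.val_mul, blk_mul, blk_mul, blk_mul, RootAt.inv_blk hab e,
    RootAt.inv_blk hbc e', e, e']
  simp only [add_mul, mul_add, sub_mul, mul_sub, mul_one, one_mul, Matrix.single_mul_single_same,
    Matrix.single_mul_single_of_ne _ _ _ _ (Ne.symm hab), Matrix.single_mul_single_of_ne _ _ _ _ (Ne.symm hbc),
    Matrix.single_mul_single_of_ne _ _ _ _ (Ne.symm hac), mul_zero, zero_mul]
  abel

variable (hel : ∀ (l : Fin (t + 1)) (a b : Fin m) (h : a ≠ b) (c : F), slotGL l (el h c) ∈ M)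

include hel

theorem rootAt_scalar (i : Fin (t + 1)) {a b : Fin m} (hab : a ≠ b) (c : F) : RootAt M i a b (c • 1) :=
  ⟨_, hel i a b hab c, blk_el i hab c⟩

theorem RootAt.spread (hm : 3 ≤ m) {i : Fin (t + 1)} {a b : Fin m} {β : Op m t F} (hab : a ≠ b) (h : RootAt M i a b β)
    {u v : Fin m} (huv : u ≠ v) : RootAt M i u v β := by
  have one : ∀ {p q : Fin m}, p ≠ q → RootAt M i p q (1 : Op m t F) := fun {p q} hpq => by
    simpa using rootAt_scalar hel i hpq 1
  have col : ∀ p q r, p ≠ q → r ≠ p → r ≠ q → RootAt M i p q β → RootAt M i p r β := fun p q r hpq hrp hrq hP => by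
    simpa using RootAt.comm hpq hrq.symm hrp.symm hP (one hrq.symm)
  have row : ∀ p q r, p ≠ q → r ≠ p → r ≠ q → RootAt M i p q β → RootAt M i r q β := fun p q r hpq hrp hrq hP => by
    simpa using RootAt.comm hrp hpq hrq (one hrp) hP
  rcases eq_or_ne u b with rfl | h1
  · obtain ⟨w, hwa, hwu⟩ : ∃ w, w ≠ a ∧ w ≠ u := by
      by_contra hno
      push Not at hno
      have := Finset.card_le_card (s := Finset.univ) (t := {a, u}) fun w _ => by
        rcases eq_or_ne w a with rfl | hc
        · simp
        · simp [hno w hc]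
      have h2 : ({a, u} : Finset (Fin m)).card ≤ 2 := Finset.card_le_two
      simp at this
      omega
    have h3 : RootAt M i u w β := row a w u hwa.symm hab.symm hwu.symm (col a u w hab hwa hwu h)
    rcases eq_or_ne v w with rfl | h4
    · exact h3
    · exact col u w v hwu.symm huv.symm h4 h3
  · have h3 : RootAt M i u b β := by
      rcases eq_or_ne u a with rfl | h2
      · exact h
      · exact row a b u hab h2 h1 h
    rcases eq_or_ne v b with rfl | h4
    · exact h3
    · exact col u b v h1 huv.symm h4 h3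

omit hel in
/-- the root coordinates at a slot -/
def coords (M : Subgroup (GL (Fin (t + 1) → Fin m) F))
    (hel : ∀ (l : Fin (t + 1)) (a b : Fin m) (h : a ≠ b) (c : F), slotGL l (el h c) ∈ M) (hm : 3 ≤ m)
    (i : Fin (t + 1)) : Submodule F (Op m t F) where
  carrier := {β | ∀ a b, a ≠ b → RootAt M i a b β}
  zero_mem' := fun a b hab => by simpa using rootAt_scalar hel i hab 0
  add_mem' := fun {β β'} h h' a b hab => by
    obtain ⟨g, hg, e⟩ := h a b hab
    obtain ⟨g', hg', e'⟩ := h' a b hab
    refine ⟨g * g', mul_mem hg hg', ?_⟩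
    rw [Units.val_mul, blk_mul, e, e', add_mul, one_mul, mul_add, mul_one,
      Matrix.single_mul_single_of_ne _ _ _ _ (Ne.symm hab), add_zero, Matrix.single_add]
    abel
  smul_mem' := fun c β h a b hab => by
    obtain ⟨w, hwa, hwb⟩ : ∃ w, w ≠ a ∧ w ≠ b := by
      by_contra hno
      push Not at hno
      have := Finset.card_le_card (s := Finset.univ) (t := {a, b}) fun w _ => by
        rcases eq_or_ne w a with rfl | hc
        · simp
        · simp [hno w hc]
      have h2 : ({a, b} : Finset (Fin m)).card ≤ 2 := Finset.card_le_two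
      simp at this
      omega
    simpa using RootAt.comm hwa.symm hwb hab (rootAt_scalar hel i hwa.symm c) (h w b hwb)

theorem coords_mul (hm : 3 ≤ m) (i : Fin (t + 1)) {x y : Op m t F} (hx : x ∈ coords M hel hm i)
    (hy : y ∈ coords M hel hm i) : x * y ∈ coords M hel hm i := fun a b hab => by
  obtain ⟨w, hwa, hwb⟩ : ∃ w, w ≠ a ∧ w ≠ b := by
    by_contra hno
    push Not at hno
    have := Finset.card_le_card (s := Finset.univ) (t := {a, b}) fun w _ => by
      rcases eq_or_ne w a with rfl | hc
      · simp
      · simp [hno w hc]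
    have h2 : ({a, b} : Finset (Fin m)).card ≤ 2 := Finset.card_le_two
    simp at this
    omega
  exact RootAt.comm hwa.symm hwb hab (hx a w hwa.symm) (hy w b hwb)

theorem coords_inv (hm : 3 ≤ m) (i : Fin (t + 1)) : SlotInv (coords M hel hm i) := by
  intro l a b h c X hX p q hpq
  obtain ⟨g, hg, e⟩ := hX p q hpq
  set s := slotGL (i.succAbove l) (el (F := F) h c) with hs
  refine ⟨s * g * s⁻¹, mul_mem (mul_mem (hel _ _ _ _ _) hg) (inv_mem (hel _ _ _ _ _)), ?_⟩
  rw [Units.val_mul, Units.val_mul, blk_mul, blk_mul, e, hs, ← map_inv, slotGL_val, slotGL_val, blk_slot_other,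
    blk_slot_other, ← map_inv, slotGL_val, slotGL_val, mul_add, add_mul, mul_one, Matrix.diagonal_mul_diagonal]
  congr 1
  · rw [← Matrix.diagonal_one]
    congr 1
    funext z
    rw [← map_mul, ← Units.val_mul, mul_inv_cancel, Units.val_one, map_one]
  · refine Matrix.ext fun u v => ?_
    rw [Matrix.mul_diagonal, Matrix.diagonal_mul, Matrix.single_apply, Matrix.single_apply]
    split <;> simp

/-- two slots linked by a transvection of their product -/
theorem coords_slot_iff (hm : 3 ≤ m) (i : Fin (t + 1)) (k : Fin t) {c d : Fin m} :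
    slot k (Matrix.single c d (1 : F)) ∈ coords M hel hm i ↔ ∃ a b, a ≠ b ∧ ∃ g ∈ M,
      (g : Op m (t + 1) F) = 1 + slot i (Matrix.single a b 1) * slot (i.succAbove k) (Matrix.single c d 1) := by
  have key : ∀ a b, blk i (1 + slot i (Matrix.single a b 1) * slot (i.succAbove k) (Matrix.single c d (1 : F))) =
      1 + Matrix.single a b (slot k (Matrix.single c d 1)) := fun a b => by
    rw [blk_add, blk_one, blk_mul, blk_slot_up, blk_slot_other, up_single]
    congr 1
    refine Matrix.ext fun u v => ?_
    rw [Matrix.mul_diagonal, Matrix.single_apply, Matrix.single_apply]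
    split <;> simp
  constructor
  · intro h
    let a : Fin m := ⟨0, by omega⟩
    let b : Fin m := ⟨1, by omega⟩
    have hab : a ≠ b := by simp [a, b, Fin.ext_iff]
    obtain ⟨g, hg, e⟩ := h a b hab
    exact ⟨a, b, hab, g, hg, blk_injective i (by rw [e, key])⟩
  · rintro ⟨a, b, hab, g, hg, e⟩ u v huv
    exact RootAt.spread hel hm hab ⟨g, hg, by rw [e, key]⟩ huv

end Root

/-- linked slots -/
def Link (M : Subgroup (GL (Fin t → Fin m) F)) (i k : Fin t) : Prop :=
  ∃ a b c d : Fin m, a ≠ b ∧ c ≠ d ∧ ∃ g ∈ M,
    (g : Op m t F) = 1 + slot i (Matrix.single a b (1 : F)) * slot k (Matrix.single c d 1)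

theorem Link.symm {M : Subgroup (GL (Fin t → Fin m) F)} {i k : Fin t} (hik : i ≠ k) (h : Link M i k) : Link M k i := by
  obtain ⟨a, b, c, d, hab, hcd, g, hg, e⟩ := h
  exact ⟨c, d, a, b, hcd, hab, g, hg, by rw [e, slot_comm hik]⟩

theorem perm_slot (σ : Equiv.Perm (Fin t)) (i : Fin t) (X : Matrix (Fin m) (Fin m) F) :
    ((perm σ : GL (Fin t → Fin m) F) : Op m t F) * slot i X * (((perm σ)⁻¹ : GL (Fin t → Fin m) F) : Op m t F) =
      slot (σ i) X := by
  have e : permMat σ * slot i X = slot (σ i) X * permMat σ := by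
    rw [slot_def, slot_def, ← pureMat_mul_permMat σ]
    congr 2
    funext j
    rcases eq_or_ne j (σ i) with rfl | h
    · simp
    · rw [Function.update_of_ne h, Function.update_of_ne]
      intro e
      exact h (by rw [← e, Equiv.apply_symm_apply])
  rw [perm_val, e, mul_assoc, ← perm_val, ← Units.val_mul, mul_inv_cancel, Units.val_one, mul_one]

theorem Link.perm {M : Subgroup (GL (Fin t → Fin m) F)} {i k : Fin t} (h : Link M i k) {σ : Equiv.Perm (Fin t)}
    (hσ : TPowSL.perm σ ∈ M) : Link M (σ i) (σ k) := by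
  obtain ⟨a, b, c, d, hab, hcd, g, hg, e⟩ := h
  refine ⟨a, b, c, d, hab, hcd, TPowSL.perm σ * g * (TPowSL.perm σ)⁻¹, mul_mem (mul_mem hσ hg) (inv_mem hσ), ?_⟩
  rw [Units.val_mul, Units.val_mul, e, mul_add, add_mul, mul_one, ← Units.val_mul, mul_inv_cancel, Units.val_one,
    ← perm_slot σ i (Matrix.single a b 1), ← perm_slot σ k (Matrix.single c d 1)]
  congr 1
  simp only [mul_assoc]
  rw [← mul_assoc (((TPowSL.perm σ)⁻¹ : GL (Fin t → Fin m) F) : Op m t F), ← Units.val_mul, inv_mul_cancel,
    Units.val_one, one_mul]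

/-- 3-cycles join the linked slots -/
theorem Link.all {M : Subgroup (GL (Fin t → Fin m) F)}
    (hcyc : ∀ i j k : Fin t, i ≠ j → i ≠ k → j ≠ k →
      TPowSL.perm (Equiv.swap i j * Equiv.swap j k) ∈ M)
    {i k : Fin t} (hik : i ≠ k) (h : Link M i k) {p q : Fin t} (hpq : p ≠ q) : Link M p q := by
  have step : ∀ {a b c : Fin t}, a ≠ b → c ≠ a → c ≠ b → Link M a b → Link M b c ∧ Link M c a := by
    intro a b c hab hca hcb hl
    -- the cycle `a ↦ b ↦ c ↦ a`
    have hσ := hcyc a b c hab hca.symm hcb.symm
    have ea : (Equiv.swap a b * Equiv.swap b c) a = b := by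
      rw [Equiv.Perm.mul_apply, Equiv.swap_apply_of_ne_of_ne hab hca.symm, Equiv.swap_apply_left]
    have eb : (Equiv.swap a b * Equiv.swap b c) b = c := by
      rw [Equiv.Perm.mul_apply, Equiv.swap_apply_left, Equiv.swap_apply_of_ne_of_ne hca hcb]
    have ec : (Equiv.swap a b * Equiv.swap b c) c = a := by
      rw [Equiv.Perm.mul_apply, Equiv.swap_apply_right, Equiv.swap_apply_right]
    have h1 := hl.perm hσ
    rw [ea, eb] at h1
    have h2 := h1.perm hσ
    rw [eb, ec] at h2
    exact ⟨h1, h2⟩
  have left : ∀ {a b c : Fin t}, a ≠ b → c ≠ b → Link M a b → Link M c b := by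
    intro a b c hab hcb hl
    rcases eq_or_ne c a with rfl | hca
    · exact hl
    · exact (step hab hca hcb hl).1.symm hcb.symm
  rcases eq_or_ne p k with rfl | hpk
  · -- `q ≠ p`
    exact (left hik hpq.symm h).symm hpq.symm
  · have h1 : Link M p k := left hik hpk h
    exact (left (Ne.symm hpk) hpq.symm (h1.symm hpk)).symm hpq.symm

/-- good, or everything -/
theorem good_or_top (hm : 3 ≤ m) {M : Subgroup (GL (Fin (t + 1) → Fin m) F)}
    (hel : ∀ (l : Fin (t + 1)) (a b : Fin m) (h : a ≠ b) (c : F), slotGL l (el h c) ∈ M)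
    (hsl : ∀ (l : Fin (t + 1)) (x : GL (Fin m) F), (x : Matrix (Fin m) (Fin m) F).det = 1 → slotGL l x ∈ M)
    (hcyc : ∀ i j k : Fin (t + 1), i ≠ j → i ≠ k → j ≠ k →
      TPowSL.perm (Equiv.swap i j * Equiv.swap j k) ∈ M) :
    Good M ∨ Cfsg.Geo.specialLinear (Fin (t + 1) → Fin m) F ≤ M := by
  classical
  haveI : NeZero m := ⟨by omega⟩
  by_cases hgood : ∀ i, ∀ β ∈ coords M hel hm i, ∃ c : F, β = c • 1
  · refine Or.inl fun i => ⟨fun x hx => ?_, fun a b hab β g hg e => ?_⟩
    · let u : GL (Fin m) F := Matrix.nonsingInvUnit x (by rw [hx]; exact isUnit_one)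
      refine ⟨blkU i (slotGL i u), ⟨_, hsl i u hx, rfl⟩, ?_⟩
      rw [blkU_val, slotGL_val, blk_slot_up]
      rfl
    · obtain ⟨y, hy, rfl⟩ := hg
      exact hgood i β fun u v huv => RootAt.spread hel hm hab ⟨y, hy, e⟩ huv
  right
  push Not at hgood
  obtain ⟨i₀, β, hβ, hns⟩ := hgood
  obtain ⟨l₀, hl₀⟩ := exists_slot hm (coords M hel hm i₀)
    (fun a b hab => by simpa using rootAt_scalar hel i₀ hab 1)
    (fun x y => coords_mul hel hm i₀) (coords_inv hel hm i₀) ⟨β, hβ, hns⟩
  let p₀ : Fin m := ⟨0, by omega⟩
  let p₁ : Fin m := ⟨1, by omega⟩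
  have h01 : p₀ ≠ p₁ := by simp [p₀, p₁, Fin.ext_iff]
  have hlink : ∀ p q : Fin (t + 1), p ≠ q → Link M p q := by
    intro p q hpq
    obtain ⟨a, b, hab, g, hg, e⟩ := (coords_slot_iff hel hm i₀ l₀).1 (hl₀ (Matrix.single p₀ p₁ 1))
    exact Link.all hcyc (Fin.succAbove_ne i₀ l₀).symm ⟨a, b, p₀, p₁, hab, h01, g, hg, e⟩ hpq
  -- every slot is in every coordinate algebra
  have hall : ∀ (i : Fin (t + 1)) (k : Fin t) (X : Matrix (Fin m) (Fin m) F), slot k X ∈ coords M hel hm i := by
    intro i k
    obtain ⟨a, b, c, d, hab, hcd, g, hg, e⟩ := hlink i (i.succAbove k) (Fin.succAbove_ne i k).symm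
    have h1 : slot k (Matrix.single c d (1 : F)) ∈ coords M hel hm i :=
      (coords_slot_iff hel hm i k).2 ⟨a, b, hab, g, hg, e⟩
    have horb : ∀ {u v : Fin m}, u ≠ v → slot k (Matrix.single u v (1 : F)) ∈ coords M hel hm i := fun {u v} huv => by
      rw [slot_def] at h1 ⊢
      exact unit_orbit hm (coords_inv hel hm i) hcd h1 huv
    intro X
    rw [Matrix.matrix_eq_sum_single X]
    let Q : Submodule F (Matrix (Fin m) (Fin m) F) :=
      { carrier := {Y | slot k Y ∈ coords M hel hm i}
        zero_mem' := by
          show slot k 0 ∈ coords M hel hm i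
          rw [slot_def, show (0 : Matrix (Fin m) (Fin m) F) = (0 : F) • 0 by rw [zero_smul], pure_update_smul, zero_smul]
          exact zero_mem _
        add_mem' := fun {Y Y'} hY hY' => by
          show slot k (Y + Y') ∈ coords M hel hm i
          rw [slot_def, pure_update_linear, ← slot_def, ← slot_def]; exact add_mem hY hY'
        smul_mem' := fun c Y hY => by
          show slot k (c • Y) ∈ coords M hel hm i
          rw [slot_def, pure_update_smul, ← slot_def]; exact Submodule.smul_mem _ c hY }
    refine Q.sum_mem fun u _ => Q.sum_mem fun v _ => ?_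
    rw [show Matrix.single u v (X u v) = X u v • Matrix.single u v (1 : F) by rw [Matrix.smul_single, smul_eq_mul, mul_one]]
    refine Q.smul_mem _ ?_
    show slot k _ ∈ coords M hel hm i
    rcases eq_or_ne u v with rfl | huv
    · obtain ⟨w, hwu⟩ : ∃ w, w ≠ u := ⟨if u = p₀ then p₁ else p₀, by split_ifs with h <;> simp_all [Ne, eq_comm]⟩
      have := coords_mul hel hm i (horb hwu.symm) (horb hwu)
      rwa [← map_mul, Matrix.single_mul_single_same, one_mul] at this
    · exact horb huv
  refine specialLinear_le_of_hasTv fun r s hrs c => ⟨by simp [hrs], ?_⟩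
  obtain ⟨i, hi⟩ : ∃ i, r i ≠ s i := Function.ne_iff.1 hrs
  -- the matrix unit of the other slots
  have hpure : ∀ (K : Finset (Fin t)) (f : Fin t → Matrix (Fin m) (Fin m) F),
      pureMat (fun k => if k ∈ K then f k else 1) ∈ coords M hel hm i := by
    intro K f
    induction K using Finset.induction_on with
    | empty =>
      rw [show (fun k => if k ∈ (∅ : Finset (Fin t)) then f k else 1) = fun _ => (1 : Matrix (Fin m) (Fin m) F) by simp,
        pureMat_one]
      exact fun a b hab => by simpa using rootAt_scalar hel i hab 1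
    | insert k K hk ih =>
      have := coords_mul hel hm i (hall i k (f k)) ih
      rw [slot_def, pureMat_mul] at this
      convert this using 2
      funext z
      rcases eq_or_ne z k with rfl | hz
      · simp [hk]
      · simp [hz]
  have hE : pureMat (fun k => Matrix.single (r (i.succAbove k)) (s (i.succAbove k)) (1 : F)) ∈ coords M hel hm i := by
    simpa using hpure Finset.univ fun k => Matrix.single (r (i.succAbove k)) (s (i.succAbove k)) (1 : F)
  obtain ⟨g, hg, e⟩ := Submodule.smul_mem _ c hE (r i) (s i) hi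
  refine ⟨g, hg, blk_injective i ?_⟩
  rw [e]
  refine Matrix.ext fun a b => Matrix.ext fun p q => ?_
  rw [blk_apply, tvMat]
  simp only [Matrix.add_apply, Matrix.vecMulVec_apply]
  congr 1
  · rw [Matrix.one_apply, Matrix.one_apply]
    simp only [insertNth_inj]
    by_cases h : a = b
    · subst h; simp [Matrix.one_apply]
    · simp [h]
  · rw [Matrix.single_apply, Pi.single_apply, Pi.single_apply]
    have hr : (Fin.insertNth i a p : Fin (t + 1) → Fin m) = r ↔ a = r i ∧ p = fun k => r (i.succAbove k) := by
      rw [← insertNth_inj (i := i), show Fin.insertNth i (r i) (fun k => r (i.succAbove k)) = r from Fin.insertNth_self_removeNth i r]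
    have hs : (Fin.insertNth i b q : Fin (t + 1) → Fin m) = s ↔ b = s i ∧ q = fun k => s (i.succAbove k) := by
      rw [← insertNth_inj (i := i), show Fin.insertNth i (s i) (fun k => s (i.succAbove k)) = s from Fin.insertNth_self_removeNth i s]
    simp only [hr, hs]
    by_cases h : r i = a ∧ s i = b
    · obtain ⟨rfl, rfl⟩ := h
      simp only [and_self, true_and, if_true, Matrix.smul_apply, pureMat, Matrix.of_apply, smul_eq_mul]
      by_cases hp : p = fun k => r (i.succAbove k)
      · by_cases hq : q = fun k => s (i.succAbove k)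
        · subst hp hq; simp
        · rw [if_neg hq, mul_zero, mul_eq_zero]
          right
          obtain ⟨k, hk⟩ := Function.ne_iff.1 hq
          exact Finset.prod_eq_zero (Finset.mem_univ k) (by rw [Matrix.single_apply, if_neg (fun h => hk h.2.symm)])
      · rw [if_neg hp, zero_mul, mul_eq_zero]
        right
        obtain ⟨k, hk⟩ := Function.ne_iff.1 hp
        exact Finset.prod_eq_zero (Finset.mem_univ k) (by rw [Matrix.single_apply, if_neg (fun h => hk h.1.symm)])
    · rw [if_neg h, Matrix.zero_apply]
      rcases not_and_or.1 h with h | h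
      · rw [if_neg (fun h' => h h'.1.symm), zero_mul]
      · rw [if_neg (fun h' : b = s i ∧ _ => h h'.1.symm), mul_zero]

end CfsgLib.MaxSub.TPowSL
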