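import Cfsg.Agent.Lib.MaxSub.TPowSL.Even
import Cfsg.Agent.Lib.MaxSub.TPowSL.Full
import Cfsg.Agent.Lib.MaxSub.TPow.Transport

/-!
The stabiliser of a tensor power is maximal in the special linear group.
-/

set_option autoImplicit false
set_option linter.unusedSectionVars false
set_option linter.style.haveILetI false

namespace CfsgLib.MaxSub.TPowSL

open Matrix CfsgLib.Aschbacher
open CfsgLib.Aschbacher.Orth (permMat_one permMat_mul_permMat)
open scoped MatrixGroups

variable {m : ℕ} {F : Type*} [Field F]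

/-- one slot: every element is a tensor -/
theorem hp_zero : HP m 0 F := by
  intro H g _ _
  let R : GL (Fin (0 + 1) → Fin m) F ≃* GL (Fin m) F :=
    Cfsg.Geo.glReindex (Equiv.funUnique (Fin 1) (Fin m))
  refine pure_mem_W (f := fun _ => R g) (Matrix.ext fun p q => ?_)
  simp only [pureMat, Matrix.of_apply]
  show (g : Op m 1 F) p q = ∏ x : Fin 1, ((R g : GL (Fin m) F) : Matrix (Fin m) (Fin m) F) (p x) (q x)
  rw [Fin.prod_univ_one]
  show (g : Op m 1 F) p q = Matrix.reindex _ _ (g : Op m 1 F) (p 0) (q 0)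
  rw [Matrix.reindex_apply, Matrix.submatrix_apply]
  have e : ∀ r : Fin 1 → Fin m, (Equiv.funUnique (Fin 1) (Fin m)).symm (r 0) = r := fun r =>
    funext fun l => by fin_cases l; rfl
  exact congrArg₂ (fun u v => (g : Op m 1 F) u v) (e p).symm (e q).symm

variable [Fintype F]

/-- good groups lie in the stabiliser -/
theorem Good.le_W (hm : 3 ≤ m) {t : ℕ} (IH : HP m t F) {H : Subgroup (GL (Fin (t + 2) → Fin m) F)} (hH : Good H) :
    H ≤ W m (t + 2) F := by
  by_cases h2 : (2 : F) = 0
  · exact hH.le_W_even hm IH h2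
  · exact hH.le_W_odd hm IH h2

theorem hp_all (hm : 3 ≤ m) : ∀ t, HP m t F
  | 0 => hp_zero
  | t + 1 => fun H g hH hH' => by
    let p₀ : Fin m := ⟨0, by omega⟩
    let p₁ : Fin m := ⟨1, by omega⟩
    have h01 : p₀ ≠ p₁ := by simp [p₀, p₁, Fin.ext_iff]
    refine hH.mapW hm (hp_all hm t) hH' (isRoot_el (0 : Fin (t + 2)) h01) (hH'.le_W hm (hp_all hm t) ?_)
    exact ⟨_, hH.el_mem 0 h01 1, rfl⟩

theorem det_el_GL {t : ℕ} (l : Fin t) {a b : Fin m} (hm : 3 ≤ m) (h : a ≠ b) (c : F) :
    Matrix.GeneralLinearGroup.det (slotGL l (el h c) : GL (Fin t → Fin m) F) = 1 := by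
  obtain ⟨w, hwa, hwb⟩ : ∃ w, w ≠ a ∧ w ≠ b := by
    by_contra hno
    push Not at hno
    have := Finset.card_le_card (s := Finset.univ) (t := {a, b}) fun w _ => by
      rcases eq_or_ne w a with rfl | hc
      · simp
      · simp [hno w hc]
    have h2 : ({a, b} : Finset (Fin m)).card ≤ 2 := Finset.card_le_two
    simp at this
    omega
  have e : el hwa.symm c * el hwb 1 * (el hwa.symm c)⁻¹ * (el hwb 1)⁻¹ = el h c := by
    refine mul_inv_eq_iff_eq_mul.2 (mul_inv_eq_iff_eq_mul.2 (Units.ext ?_))
    simp only [Units.val_mul, el_val, Matrix.transvection, Matrix.mul_add, Matrix.add_mul, Matrix.mul_one,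
      Matrix.one_mul, Matrix.single_mul_single_same, Matrix.single_mul_single_of_ne _ _ _ _ hwa,
      Matrix.single_mul_single_of_ne _ _ _ _ (Ne.symm hwb), Matrix.single_mul_single_of_ne _ _ _ _ (Ne.symm h)]
    simp [Matrix.single_mul_single_of_ne _ _ _ _ (Ne.symm h), Ne.symm h]
    abel
  rw [← e, map_mul, map_mul, map_mul, map_inv, map_inv, map_mul, map_mul, map_mul, map_inv, map_inv]
  rw [mul_right_comm (Matrix.GeneralLinearGroup.det (slotGL l (el hwa.symm c))), mul_inv_cancel, one_mul, mul_inv_cancel]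

theorem perm_mul {t : ℕ} (σ τ : Equiv.Perm (Fin t)) :
    (perm (σ * τ) : GL (Fin t → Fin m) F) = perm σ * perm τ :=
  Units.ext (by rw [Units.val_mul, perm_val, perm_val, perm_val, permMat_mul_permMat])

theorem det_cycle {t : ℕ} {i j k : Fin t} (hij : i ≠ j) (hik : i ≠ k) (hjk : j ≠ k) :
    Matrix.GeneralLinearGroup.det (perm (Equiv.swap i j * Equiv.swap j k) : GL (Fin t → Fin m) F) = 1 := by
  let P : Equiv.Perm (Fin t) →* GL (Fin t → Fin m) F :=
    { toFun := perm, map_one' := Units.ext (by rw [perm_val, permMat_one, Units.val_one]), map_mul' := perm_mul }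
  have e : Equiv.swap j k = Equiv.swap i j * Equiv.swap i k * (Equiv.swap i j)⁻¹ := by
    rw [← Equiv.swap_apply_apply, Equiv.swap_apply_left, Equiv.swap_apply_of_ne_of_ne hik.symm hjk.symm]
  have e' : Equiv.swap i j * Equiv.swap j k = Equiv.swap i j * (Equiv.swap i j * Equiv.swap i k * (Equiv.swap i j)⁻¹) := by
    rw [e]
  show (Matrix.GeneralLinearGroup.det.comp P) (Equiv.swap i j * Equiv.swap j k) = 1
  have hc : IsConj (Equiv.swap i j) (Equiv.swap j k) := by
    rw [isConj_iff]
    exact ⟨Equiv.swap i k, by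
      rw [← Equiv.swap_apply_apply, Equiv.swap_apply_left, Equiv.swap_apply_of_ne_of_ne hij.symm hjk, Equiv.swap_comm]⟩
  obtain ⟨c, hc⟩ := isConj_iff.1 hc
  rw [← hc, map_mul, map_mul, map_mul, mul_comm ((Matrix.GeneralLinearGroup.det.comp P) c), mul_assoc
    ((Matrix.GeneralLinearGroup.det.comp P) (Equiv.swap i j)), ← map_mul _ c, mul_inv_cancel, map_one, mul_one,
    ← map_mul, Equiv.swap_mul_self, map_one]

/-- maximality in the standard coordinates -/
theorem base (hm : 3 ≤ m) (t : ℕ) :
    Cfsg.Geo.IsMaximalIn (Cfsg.Geo.specialLinear (Fin (t + 2) → Fin m) F)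
      (W m (t + 2) F ⊓ Cfsg.Geo.specialLinear (Fin (t + 2) → Fin m) F) := by
  refine ⟨lt_of_le_not_ge inf_le_right fun hle => ?_, fun M hBM hMS => ?_⟩
  · let x : Fin m := ⟨1, by omega⟩
    let z : Fin m := ⟨0, by omega⟩
    have hxz : x ≠ z := by simp [x, z, Fin.ext_iff]
    let i : Fin (t + 2) := ⟨0, by omega⟩
    let j : Fin (t + 2) := ⟨1, by omega⟩
    have hij : i ≠ j := by simp [i, j, Fin.ext_iff]
    let c : Fin (t + 2) → Fin m := fun _ => z
    let s := Function.update c i x
    let r := Function.update c j x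
    let q := Function.update s j x
    have hcs : c ≠ s := fun e => hxz (by have := congrFun e i; simp [c, s] at this; exact this.symm)
    have hqs : q ≠ s := fun e => hxz (by have := congrFun e j; simp [q, s, c, hij.symm] at this; exact this)
    have htv : (Pi.single s 1 : (Fin (t + 2) → Fin m) → F) ⬝ᵥ Pi.single c 1 = 0 := by simp [hcs.symm]
    obtain ⟨l, hl⟩ := CfsgLib.MaxSub.TPow.wreath_exchange (hle (tvGL_mem_specialLinear _ _ htv)).1 j
    have hent : ∀ a b, (tvGL (Pi.single c 1) (Pi.single s 1) htv : Op m (t + 2) F) a b =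
        (if a = b then 1 else 0) + if a = c ∧ b = s then 1 else 0 := fun a b => by
      show tvMat (Pi.single c (1 : F)) (Pi.single s 1) a b = _
      rw [tvMat, Matrix.add_apply, Matrix.one_apply, Matrix.vecMulVec_apply, Pi.single_apply, Pi.single_apply]
      by_cases ha : a = c <;> by_cases hb : b = s <;> simp [ha, hb]
    have h := hl c s r r
    have e1 : Function.update s j (r j) = q := by simp [r, q]
    have e2 : Function.update r j (s j) = c := by simp [r, s, c, hij.symm]
    have hrc : r ≠ c := fun e => hxz (by have := congrFun e j; simp [r, c] at this; exact this)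
    simp only [e1, e2, hent, if_neg hcs, and_self, if_true, zero_add, if_neg (fun h : r = c ∧ r = s => hrc h.1),
      add_zero, mul_one] at h
    have hq : Function.update c l (r l) = q := by
      by_contra hne
      rw [if_neg hne, if_neg (fun h : _ ∧ q = s => hqs h.2), add_zero, zero_mul] at h
      exact one_ne_zero h
    by_cases hli : l = i
    · have := congrFun hq j
      rw [hli] at this
      simp [q, c, hij.symm] at this
      exact hxz this.symm
    · have := congrFun hq i
      simp [q, s, c, Ne.symm hli, hij] at this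
      exact hxz this.symm
  · have hel : ∀ (l : Fin (t + 2)) (a b : Fin m) (h : a ≠ b) (c : F), slotGL l (el h c) ∈ M := fun l a b h c =>
      hBM ⟨slotGL_mem_W l _, MonoidHom.mem_ker.2 (det_el_GL l hm h c)⟩
    have hsl : ∀ (l : Fin (t + 2)) (x : GL (Fin m) F), (x : Matrix (Fin m) (Fin m) F).det = 1 → slotGL l x ∈ M := by
      intro l x hx
      have hle : Cfsg.Geo.specialLinear (Fin m) F ≤ M.comap (slotGL l) :=
        specialLinear_le_of_hasTv fun a b hab c => ⟨by simp [hab], el hab c, hel l a b hab c, by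
          rw [el_val, Matrix.transvection, tvMat]
          congr 1
          refine Matrix.ext fun u v => ?_
          rw [Matrix.single_apply, Matrix.vecMulVec_apply, Pi.single_apply, Pi.single_apply]
          rcases eq_or_ne u a with rfl | ha <;> rcases eq_or_ne v b with rfl | hb <;>
            simp [*, Ne.symm]⟩
      exact hle (MonoidHom.mem_ker.2 (Units.ext hx))
    rcases good_or_top hm hel hsl (fun i j k hij hik hjk =>
      hBM ⟨perm_mem_W _, MonoidHom.mem_ker.2 (det_cycle hij hik hjk)⟩) with hgood | htop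
    · exact Or.inl (le_antisymm (le_inf (hgood.le_W hm (hp_all hm t)) hMS) hBM)
    · exact Or.inr (le_antisymm hMS htop)

theorem map_specialLinear_glReindex {ι κ : Type} [Fintype ι] [DecidableEq ι] [Fintype κ] [DecidableEq κ] (e : κ ≃ ι) :
    (Cfsg.Geo.specialLinear κ F).map (Cfsg.Geo.glReindex (F := F) e).toMonoidHom = Cfsg.Geo.specialLinear ι F := by
  have hdet : ∀ g : GL κ F, Matrix.GeneralLinearGroup.det (Cfsg.Geo.glReindex e g) = Matrix.GeneralLinearGroup.det g :=
    fun g => Units.ext (Matrix.det_reindex_self e (g : Matrix κ κ F))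
  refine le_antisymm ?_ fun y hy => ⟨(Cfsg.Geo.glReindex e).symm y, ?_, MulEquiv.apply_symm_apply _ y⟩
  · rintro _ ⟨g, hg, rfl⟩
    exact MonoidHom.mem_ker.2 ((hdet g).trans (MonoidHom.mem_ker.1 hg))
  · refine MonoidHom.mem_ker.2 ?_
    rw [← hdet, MulEquiv.apply_symm_apply]
    exact MonoidHom.mem_ker.1 hy

end CfsgLib.MaxSub.TPowSL
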