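import Cfsg.Agent.Lib.Aschbacher.OrthWreath
import Cfsg.Agent.Lib.MaxSub.Transvection

/-!
Tensor powers of a vector space: operators in blocks with respect to one slot.
-/

set_option autoImplicit false
set_option linter.unusedSectionVars false
set_option linter.style.haveILetI false

namespace CfsgLib.MaxSub.TPowSL

open Matrix CfsgLib.Aschbacher
open CfsgLib.Aschbacher.Orth (permMat_one permMat_mul_permMat)
open scoped MatrixGroups

variable {m t : ℕ} {F : Type*} [Field F]

/-- the operators on the tensor power -/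
abbrev Op (m t : ℕ) (F : Type*) := Matrix (Fin t → Fin m) (Fin t → Fin m) F

/-- the coordinates at a slot and away from it -/
def splitEquiv (i : Fin (t + 1)) : Fin m × (Fin t → Fin m) ≃ (Fin (t + 1) → Fin m) :=
  Fin.insertNthEquiv (fun _ => Fin m) i

theorem splitEquiv_apply (i : Fin (t + 1)) (a : Fin m) (p : Fin t → Fin m) :
    splitEquiv i (a, p) = Fin.insertNth i a p := rfl

/-- an operator in blocks with respect to a slot -/
def blk (i : Fin (t + 1)) (X : Op m (t + 1) F) : Matrix (Fin m) (Fin m) (Op m t F) :=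
  Matrix.of fun a b => Matrix.of fun p q => X (Fin.insertNth i a p) (Fin.insertNth i b q)

theorem blk_apply (i : Fin (t + 1)) (X : Op m (t + 1) F) (a b : Fin m) (p q : Fin t → Fin m) :
    blk i X a b p q = X (Fin.insertNth i a p) (Fin.insertNth i b q) := rfl

theorem blk_injective (i : Fin (t + 1)) : Function.Injective (blk (F := F) (m := m) i) := by
  intro X Y h
  ext r s
  obtain ⟨⟨a, p⟩, rfl⟩ := (splitEquiv i).surjective r
  obtain ⟨⟨b, q⟩, rfl⟩ := (splitEquiv i).surjective s
  exact congrFun (congrFun (congrFun (congrFun h a) b) p) q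

theorem blk_mul (i : Fin (t + 1)) (X Y : Op m (t + 1) F) : blk i (X * Y) = blk i X * blk i Y := by
  ext a b p q
  rw [blk_apply, Matrix.mul_apply, ← (splitEquiv i).sum_comp, Fintype.sum_prod_type,
    Matrix.mul_apply, Matrix.sum_apply]
  rfl

theorem blk_add (i : Fin (t + 1)) (X Y : Op m (t + 1) F) : blk i (X + Y) = blk i X + blk i Y := rfl

theorem blk_sub (i : Fin (t + 1)) (X Y : Op m (t + 1) F) : blk i (X - Y) = blk i X - blk i Y := rfl

theorem blk_smul (i : Fin (t + 1)) (c : F) (X : Op m (t + 1) F) : blk i (c • X) = c • blk i X := rfl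

theorem blk_zero (i : Fin (t + 1)) : blk (m := m) (F := F) i 0 = 0 := rfl

theorem insertNth_inj {i : Fin (t + 1)} {a b : Fin m} {p q : Fin t → Fin m} :
    Fin.insertNth i a p = (Fin.insertNth i b q : Fin (t + 1) → Fin m) ↔ a = b ∧ p = q := by
  rw [← splitEquiv_apply, ← splitEquiv_apply, (splitEquiv i).injective.eq_iff, Prod.mk.injEq]

theorem blk_one (i : Fin (t + 1)) : blk (m := m) (F := F) i 1 = 1 := by
  ext a b p q
  rw [blk_apply, Matrix.one_apply]
  simp only [insertNth_inj]
  by_cases h : a = b
  · subst h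
    simp [Matrix.one_apply]
  · simp [h, Matrix.one_apply_ne h]

/-- the operator with given blocks -/
def unblk (i : Fin (t + 1)) (Y : Matrix (Fin m) (Fin m) (Op m t F)) : Op m (t + 1) F :=
  Matrix.of fun r s => Y (r i) (s i) (fun j => r (i.succAbove j)) (fun j => s (i.succAbove j))

theorem blk_unblk (i : Fin (t + 1)) (Y : Matrix (Fin m) (Fin m) (Op m t F)) : blk i (unblk i Y) = Y := by
  ext a b p q
  simp [blk_apply, unblk]

/-- blocks of a unit -/
def blkU (i : Fin (t + 1)) : GL (Fin (t + 1) → Fin m) F →* (Matrix (Fin m) (Fin m) (Op m t F))ˣ :=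
  Units.map { toFun := blk i, map_one' := blk_one i, map_mul' := blk_mul i }

theorem blkU_val (i : Fin (t + 1)) (g : GL (Fin (t + 1) → Fin m) F) :
    ((blkU i g : (Matrix (Fin m) (Fin m) (Op m t F))ˣ) : Matrix (Fin m) (Fin m) (Op m t F)) =
      blk i (g : Op m (t + 1) F) := rfl

theorem blk_inv (i : Fin (t + 1)) (g : GL (Fin (t + 1) → Fin m) F) :
    blk i ((g⁻¹ : GL (Fin (t + 1) → Fin m) F) : Op m (t + 1) F) = (((blkU i g)⁻¹ : (Matrix (Fin m) (Fin m) (Op m t F))ˣ) :
      Matrix (Fin m) (Fin m) (Op m t F)) := by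
  rw [← map_inv]; rfl

/-- a matrix acting in one slot -/
def slot (i : Fin t) : Matrix (Fin m) (Fin m) F →* Op m t F where
  toFun x := pureMat (Function.update (fun _ => 1) i x)
  map_one' := by rw [Function.update_eq_self i (fun _ => (1 : Matrix (Fin m) (Fin m) F))]; exact pureMat_one
  map_mul' x y := by
    rw [pureMat_mul]
    congr 1
    funext j
    rcases eq_or_ne j i with rfl | h
    · simp
    · simp [h]

theorem slot_def (i : Fin t) (x : Matrix (Fin m) (Fin m) F) :
    slot i x = pureMat (Function.update (fun _ => 1) i x) := rfl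

/-- the invertible matrices of a slot -/
def slotGL (i : Fin t) : GL (Fin m) F →* GL (Fin t → Fin m) F := Units.map (slot i)

theorem slotGL_val (i : Fin t) (x : GL (Fin m) F) :
    ((slotGL i x : GL (Fin t → Fin m) F) : Op m t F) = slot i (x : Matrix (Fin m) (Fin m) F) := rfl

theorem blk_pureMat (i : Fin (t + 1)) (f : Fin (t + 1) → Matrix (Fin m) (Fin m) F) (a b : Fin m) :
    blk i (pureMat f) a b = f i a b • pureMat (fun j => f (i.succAbove j)) := by
  ext p q
  simp [blk_apply, pureMat, Fin.prod_univ_succAbove _ i]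

theorem blk_slot_self (i : Fin (t + 1)) (x : Matrix (Fin m) (Fin m) F) :
    blk i (slot i x) = Matrix.of fun a b => x a b • (1 : Op m t F) := by
  refine Matrix.ext fun a b => ?_
  rw [slot_def, blk_pureMat, Function.update_self, Matrix.of_apply, ← pureMat_one]
  congr 2
  funext j
  rw [Function.update_of_ne (Fin.succAbove_ne i j)]

theorem blk_slot_other (i : Fin (t + 1)) (j : Fin t) (x : Matrix (Fin m) (Fin m) F) :
    blk i (slot (i.succAbove j) x) = Matrix.diagonal fun _ => slot j x := by
  refine Matrix.ext fun a b => ?_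
  have e : (fun l => Function.update (fun _ => (1 : Matrix (Fin m) (Fin m) F)) (i.succAbove j) x (i.succAbove l)) =
      Function.update (fun _ => 1) j x := by
    funext l
    rcases eq_or_ne l j with rfl | h
    · simp
    · rw [Function.update_of_ne h, Function.update_of_ne fun e => h (Fin.succAbove_right_injective e)]
  rw [slot_def, blk_pureMat, Function.update_of_ne (Fin.ne_succAbove i j), e]
  rcases eq_or_ne a b with rfl | h
  · rw [Matrix.one_apply_eq, one_smul, Matrix.diagonal_apply_eq]; rfl
  · rw [Matrix.one_apply_ne h, zero_smul, Matrix.diagonal_apply_ne _ h]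

/-- the elementary transvection -/
def el {a b : Fin m} (h : a ≠ b) (c : F) : GL (Fin m) F :=
  ⟨Matrix.transvection a b c, Matrix.transvection a b (-c),
    by rw [Matrix.transvection_mul_transvection_same a b h, add_neg_cancel, Matrix.transvection_zero],
    by rw [Matrix.transvection_mul_transvection_same a b h, neg_add_cancel, Matrix.transvection_zero]⟩

theorem el_val {a b : Fin m} (h : a ≠ b) (c : F) :
    ((el h c : GL (Fin m) F) : Matrix (Fin m) (Fin m) F) = Matrix.transvection a b c := rfl

theorem det_el {a b : Fin m} (h : a ≠ b) (c : F) : ((el h c : GL (Fin m) F) : Matrix (Fin m) (Fin m) F).det = 1 :=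
  Matrix.det_transvection_of_ne a b h c

theorem el_inv {a b : Fin m} (h : a ≠ b) (c : F) : (el h c)⁻¹ = el h (-c) := Units.ext rfl

theorem blk_el (i : Fin (t + 1)) {a b : Fin m} (h : a ≠ b) (c : F) :
    blk i ((slotGL i (el h c) : GL (Fin (t + 1) → Fin m) F) : Op m (t + 1) F) = 1 + Matrix.single a b (c • (1 : Op m t F)) := by
  rw [slotGL_val, blk_slot_self, el_val]
  refine Matrix.ext fun x y => ?_
  rw [Matrix.of_apply, Matrix.transvection, Matrix.add_apply, Matrix.add_apply, add_smul]
  congr 1
  · rcases eq_or_ne x y with rfl | hxy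
    · simp
    · simp [hxy]
  · rw [Matrix.single_apply, Matrix.single_apply]
    split <;> simp

/-- the stabiliser of the decomposition -/
abbrev W (m t : ℕ) (F : Type*) [Field F] : Subgroup (GL (Fin t → Fin m) F) :=
  Cfsg.Geo.tensorWreathStandard m t F

theorem pure_mem_W {g : GL (Fin t → Fin m) F} {f : Fin t → GL (Fin m) F}
    (h : (g : Op m t F) = pureMat fun i => ((f i : GL (Fin m) F) : Matrix (Fin m) (Fin m) F)) : g ∈ W m t F := by
  refine Subgroup.subset_closure (Or.inl ⟨f, fun x y => ?_⟩)
  rw [h]; rfl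

theorem slotGL_mem_W (i : Fin t) (x : GL (Fin m) F) : slotGL i x ∈ W m t F := by
  refine pure_mem_W (f := Function.update (fun _ => 1) i x) ?_
  rw [slotGL_val, slot_def]
  congr 1
  funext j
  rcases eq_or_ne j i with rfl | h
  · simp
  · simp [h]

/-- a permutation of the slots -/
def perm (σ : Equiv.Perm (Fin t)) : GL (Fin t → Fin m) F :=
  ⟨permMat σ, permMat σ.symm, permMat_mul_inv σ, by
    have := permMat_mul_inv (F := F) (κ := Fin m) σ.symm
    rwa [Equiv.symm_symm] at this⟩

theorem perm_val (σ : Equiv.Perm (Fin t)) : ((perm σ : GL (Fin t → Fin m) F) : Op m t F) = permMat σ := rfl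

theorem perm_mem_W (σ : Equiv.Perm (Fin t)) : (perm σ : GL (Fin t → Fin m) F) ∈ W m t F := by
  refine Subgroup.subset_closure (Or.inr ⟨σ, fun x y => ?_⟩)
  rw [perm_val]
  simp [permMat]

theorem perm_conj_slot (σ : Equiv.Perm (Fin t)) (i : Fin t) (x : GL (Fin m) F) :
    perm σ * slotGL i x * (perm σ)⁻¹ = slotGL (σ i) x := by
  rw [mul_inv_eq_iff_eq_mul]
  refine Units.ext ?_
  rw [Units.val_mul, Units.val_mul, perm_val, slotGL_val, slotGL_val, slot_def, slot_def,
    ← pureMat_mul_permMat σ]
  congr 2
  funext j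
  rcases eq_or_ne j (σ i) with rfl | h
  · simp
  · rw [Function.update_of_ne h, Function.update_of_ne]
    intro e
    exact h (by rw [← e, Equiv.apply_symm_apply])

end CfsgLib.MaxSub.TPowSL
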