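import Cfsg.Agent.Lib.MaxSub.TPowSL.Transv
import Cfsg.Agent.Lib.MaxSub.TPow.Dih

/-!
Characteristic two: a root and a conjugate of a root outside the wreath subgroup are conjugate in the group
they generate.
-/

set_option autoImplicit false
set_option linter.unusedSectionVars false
set_option linter.style.haveILetI false

namespace CfsgLib.MaxSub.TPowSL

open Matrix CfsgLib.Aschbacher
open scoped MatrixGroups

variable {m t : ℕ} {F : Type*} [Field F]

/-- conjugates of roots in a group -/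
def HRoot (H : Subgroup (GL (Fin t → Fin m) F)) (y : GL (Fin t → Fin m) F) : Prop :=
  ∃ x h, IsRoot x ∧ h ∈ H ∧ y = h * x * h⁻¹

theorem HRoot.conj {H : Subgroup (GL (Fin t → Fin m) F)} {y h : GL (Fin t → Fin m) F} (hy : HRoot H y) (hh : h ∈ H) :
    HRoot H (h * y * h⁻¹) := by
  obtain ⟨x, k, hx, hk, rfl⟩ := hy
  exact ⟨x, h * k, hx, mul_mem hh hk, by group⟩

theorem hroot_of_isRoot {H : Subgroup (GL (Fin t → Fin m) F)} {y : GL (Fin t → Fin m) F} (hy : IsRoot y) :
    HRoot H y := ⟨y, 1, hy, one_mem _, by simp⟩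

/-- two involutions that are not conjugate in the group they generate -/
theorem dih_in {G : Type*} [Group G] [Finite G] {x d : G} (hx : x * x = 1) (hd : d * d = 1)
    (hne : ¬ ∃ k ∈ Subgroup.closure ({x, d} : Set G), k * x * k⁻¹ = d) :
    ∃ z ∈ Subgroup.closure ({x, d} : Set G), z * z = 1 ∧ z ≠ 1 ∧ Commute z x ∧ Commute z d ∧
      (((∃ k ∈ Subgroup.closure ({x, d} : Set G), k * x * k⁻¹ = x * z) ∧
          ∃ k ∈ Subgroup.closure ({x, d} : Set G), k * d * k⁻¹ = d * z) ∨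
        ((∃ k ∈ Subgroup.closure ({x, d} : Set G), k * d * k⁻¹ = x * z) ∧
          ∃ k ∈ Subgroup.closure ({x, d} : Set G), k * x * k⁻¹ = d * z)) := by
  let K := Subgroup.closure ({x, d} : Set G)
  let a : K := ⟨x, Subgroup.subset_closure (Or.inl rfl)⟩
  let b : K := ⟨d, Subgroup.subset_closure (Or.inr rfl)⟩
  obtain ⟨z, hzz, hz1, hza, hzb, hcases⟩ := CfsgLib.MaxSub.TPow.dihedral (x := a) (y := b) (Subtype.ext hx)
    (Subtype.ext hd) (fun h => by
      obtain ⟨k, hk⟩ := isConj_iff.1 h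
      exact hne ⟨k.1, k.2, congrArg Subtype.val hk⟩)
  have hv : ∀ {u v : K}, IsConj u v → ∃ k ∈ K, k * u.1 * k⁻¹ = v.1 := fun {u v} h => by
    obtain ⟨k, hk⟩ := isConj_iff.1 h
    exact ⟨k.1, k.2, congrArg Subtype.val hk⟩
  refine ⟨z.1, z.2, congrArg Subtype.val hzz, fun e => hz1 (Subtype.ext e), congrArg Subtype.val hza.eq,
    congrArg Subtype.val hzb.eq, ?_⟩
  rcases hcases with ⟨h1, h2⟩ | ⟨h1, h2⟩
  · exact Or.inl ⟨hv h1, hv h2⟩
  · exact Or.inr ⟨hv h1, hv h2⟩

/-- conjugation commuting with an element centralising the generators -/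
theorem conj_mul_of_closure {G : Type*} [Group G] {r d z k : G} (hk : k ∈ Subgroup.closure ({r, d} : Set G))
    (hzr : Commute z r) (hzd : Commute z d) (e : k * r * k⁻¹ = d) : k * (r * z) * k⁻¹ = d * z := by
  have hc : Commute z k := by
    clear e
    induction hk using Subgroup.closure_induction with
    | mem y hy => rcases hy with rfl | rfl <;> assumption
    | one => exact Commute.one_right _
    | mul a b _ _ ha hb => exact ha.mul_right hb
    | inv a _ ha => exact ha.inv_right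
  rw [← e, show k * (r * z) * k⁻¹ = k * r * (z * k⁻¹) by group, hc.inv_right.eq]
  group

variable [Fintype F] {H : Subgroup (GL (Fin (t + 2) → Fin m) F)}

theorem HRoot.mem {y : GL (Fin (t + 2) → Fin m) F} (hy : HRoot H y) (hH : Good H) : y ∈ H := by
  obtain ⟨x, h, hx, hh, rfl⟩ := hy
  exact mul_mem (mul_mem hh (hx.mem_good hH)) (inv_mem hh)

theorem HRoot.sq (h2 : (2 : F) = 0) {y : GL (Fin (t + 2) → Fin m) F} (hy : HRoot H y) : y * y = 1 := by
  obtain ⟨x, h, hx, -, rfl⟩ := hy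
  obtain ⟨l, X, hX, rfl⟩ := hx.slot_form
  rw [show h * slotGL l X * h⁻¹ * (h * slotGL l X * h⁻¹) = h * (slotGL l X * slotGL l X) * h⁻¹ by group, ← map_mul,
    hX.sq h2, map_one, mul_one, mul_inv_cancel]

/-- a conjugate of a root in the wreath subgroup is a root -/
theorem HRoot.isRoot (hm : 3 ≤ m) (IH : HP m t F) (hH : Good H) {y : GL (Fin (t + 2) → Fin m) F} (hy : HRoot H y)
    (hW : y ∈ W m (t + 2) F) : IsRoot y := by
  obtain ⟨x, h, hx, hh, rfl⟩ := hy
  exact hx.conj (hH.mapW hm IH (by rwa [cj_self hh]) hx hW)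

theorem Good.not_root_two (hm : 3 ≤ m) {i l : Fin (t + 2)} (hil : i ≠ l) {X Y y y' : GL (Fin m) F}
    (hX : ¬ Commute X y) (hY : ¬ Commute Y y') : ¬ IsRoot (slotGL i X * slotGL l Y) := by
  haveI : NeZero m := ⟨by omega⟩
  intro h
  obtain ⟨k, Z, -, e⟩ := h.slot_form
  have h1 : Touch (slotGL i X * slotGL l Y) i := (touch_mul (off_slot hil.symm Y) hX).1
  have h2 : Touch (slotGL i X * slotGL l Y) l := (touch_mul (off_slot hil X) hY).2
  rw [e] at h1 h2
  rcases eq_or_ne k i with rfl | hk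
  · exact not_touch.2 (off_slot hil Z) h2
  · exact not_touch.2 (off_slot hk Z) h1

/-- the conjugation hypothesis: roots are conjugate to the other conjugates of roots -/
def Fused (H : Subgroup (GL (Fin (t + 2) → Fin m) F)) : Prop :=
  ∀ r d, IsRoot r → HRoot H d → d ∉ W m (t + 2) F →
    ∃ k ∈ Subgroup.closure ({r, d} : Set (GL (Fin (t + 2) → Fin m) F)), k * r * k⁻¹ = d

theorem Good.closure_le (hH : Good H) {r d : GL (Fin (t + 2) → Fin m) F} (hr : r ∈ H) (hd : HRoot H d) :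
    Subgroup.closure ({r, d} : Set (GL (Fin (t + 2) → Fin m) F)) ≤ H :=
  (Subgroup.closure_le H).2 (by rintro y (rfl | rfl); exacts [hr, hd.mem hH])

/-- the root, its partner and the centraliser of their product -/
theorem Good.pre (hm : 3 ≤ m) (IH : HP m t F) (h2 : (2 : F) = 0) (hH : Good H) {i : Fin (t + 2)} {X : GL (Fin m) F}
    (hX : Transv X) {d : GL (Fin (t + 2) → Fin m) F} (hd : HRoot H d) (hdW : d ∉ W m (t + 2) F)
    (hne : ¬ ∃ k ∈ Subgroup.closure ({slotGL i X, d} : Set (GL (Fin (t + 2) → Fin m) F)), k * slotGL i X * k⁻¹ = d) :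
    ∃ j Y, j ≠ i ∧ Transv Y ∧ slotGL i X * slotGL j Y ∈ H ∧ Commute (slotGL i X * slotGL j Y) d ∧
      HRoot H (d * (slotGL i X * slotGL j Y)) := by
  set x := slotGL i X with hxdef
  have hx : IsRoot x := isRoot_slot i hX
  have hxx : x * x = 1 := by rw [hxdef, ← map_mul, hX.sq h2, map_one]
  obtain ⟨z, hzK, hzz, hz1, hzx, hzd, hcases⟩ := dih_in hxx (hd.sq h2) hne
  have hKH := hH.closure_le (hx.mem_good hH) hd
  have hzH : z ∈ H := hKH hzK
  have hzW : z ∈ W m (t + 2) F := hH.cent_root hm IH hx hzH hzx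
  obtain ⟨hxz, hdz⟩ : HRoot H (x * z) ∧ HRoot H (d * z) := by
    rcases hcases with ⟨⟨k, hk, e⟩, k', hk', e'⟩ | ⟨⟨k, hk, e⟩, k', hk', e'⟩
    · exact ⟨e ▸ (hroot_of_isRoot hx).conj (hKH hk), e' ▸ hd.conj (hKH hk')⟩
    · exact ⟨e ▸ hd.conj (hKH hk), e' ▸ (hroot_of_isRoot hx).conj (hKH hk')⟩
  obtain ⟨j, Y, hY, e⟩ := (hxz.isRoot hm IH hH (mul_mem hx.mem_W hzW)).slot_form
  have hzv : z = x * slotGL j Y := by rw [← e, ← mul_assoc, hxx, one_mul]
  rw [hzv] at hzd hdz hzH hzz hz1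
  refine ⟨j, Y, fun hji => hdW ?_, hY, hzH, hzd, hdz⟩
  subst hji
  rw [hxdef, ← map_mul] at hzd hzz hz1
  haveI : NeZero m := ⟨by omega⟩
  have hv : X * Y * (X * Y) = 1 := slotGL_inj j (by rw [map_mul, map_one]; exact hzz)
  obtain ⟨u, hu, hu'⟩ := exists_fixed_of_sq (by omega) h2 hv
  exact hH.cent_slot hm IH j (fun e => hz1 (by rw [e, map_one])) hu hu' (hd.mem hH) hzd.symm

/-- roots are conjugate to the other conjugates of roots -/
theorem Good.fused (hm : 3 ≤ m) (IH : HP m t F) (h2 : (2 : F) = 0) (hH : Good H) : Fused H := by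
  intro r d hr hd hdW
  by_contra hne
  haveI : NeZero m := ⟨by omega⟩
  obtain ⟨i, X, hX, rfl⟩ := hr.slot_form
  obtain ⟨A, B, C, hA, hB, hC, hAB, hAX, hBX, -⟩ := hX.frame hm
  obtain ⟨j, Y, hji, hY, hzH, hzd, hdz⟩ := hH.pre hm IH h2 hX hd hdW hne
  obtain ⟨A₀, B₀, C₀, -, -, -, -, -, -, hYC⟩ := hY.frame hm
  set z := slotGL i X * slotGL j Y with hz
  have hzW : z ∈ W m (t + 2) F := mul_mem (slotGL_mem_W _ _) (slotGL_mem_W _ _)
  -- the other roots of the slot are not conjugate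
  have key : ∀ {D E : GL (Fin m) F}, Transv D → Commute D X → ¬ Commute (D * X) E →
      ∃ l Z, l ≠ i ∧ Transv Z ∧ slotGL i D * slotGL l Z ∈ H ∧ Commute (slotGL i D * slotGL l Z) d ∧
        HRoot H (d * (slotGL i D * slotGL l Z)) := by
    intro D E hD hDX hDE
    refine hH.pre hm IH h2 hD hd hdW ?_
    rintro ⟨k, hk, e⟩
    have hkH : k ∈ H := hH.closure_le ((isRoot_slot i hD).mem_good hH) hd hk
    have hzD : Commute z (slotGL i D) := (hDX.symm.map (slotGL i)).mul_left (slotGL_comm hji Y D)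
    have e' := conj_mul_of_closure hk hzD hzd e
    have hroot : HRoot H (slotGL i D * z) := by
      have := hdz.conj (inv_mem hkH)
      rwa [← e', show k⁻¹ * (k * (slotGL i D * z) * k⁻¹) * k⁻¹⁻¹ = slotGL i D * z by group] at this
    have hr := hroot.isRoot hm IH hH (mul_mem (slotGL_mem_W _ _) hzW)
    rw [hz, ← mul_assoc, ← map_mul] at hr
    exact Good.not_root_two hm hji.symm hDE hYC hr
  have hXne : X ≠ 1 := hX.ne_one
  obtain ⟨la, A', hla, hA', hzaH, hzad, hdza⟩ := key hA hAX (E := B) fun hc => hXne (by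
    have h' : A * B = B * A := by
      have := hc.eq
      rw [mul_assoc, hBX.eq.symm, ← mul_assoc, ← mul_assoc] at this
      exact mul_right_cancel this
    rw [← hAB, h']; group)
  obtain ⟨lb, B', hlb, hB', hzbH, hzbd, hdzb⟩ := key hB hBX (E := A) fun hc => hXne (by
    have h' : B * A = A * B := by
      have := hc.eq
      rw [mul_assoc, hAX.eq.symm, ← mul_assoc, ← mul_assoc] at this
      exact mul_right_cancel this
    rw [← hAB, ← h']; group)
  set za := slotGL i A * slotGL la A' with hza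
  set zb := slotGL i B * slotGL lb B' with hzb
  have hcom : za * zb * za⁻¹ * zb⁻¹ = slotGL i X *
      (slotGL la A' * slotGL lb B' * (slotGL la A')⁻¹ * (slotGL lb B')⁻¹) := by
    have c1 : Commute (slotGL la A') (slotGL i B) := slotGL_comm hla _ _
    have c2 : Commute (slotGL lb B') ((slotGL i A)⁻¹) := (slotGL_comm hlb _ _).inv_right
    have c3 : Commute (slotGL la A')⁻¹ (slotGL i A)⁻¹ := (slotGL_comm hla _ _).inv_inv
    have c4 : Commute (slotGL lb B')⁻¹ (slotGL i B)⁻¹ := (slotGL_comm hlb _ _).inv_inv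
    have c5 : Commute (slotGL la A' * slotGL lb B' * (slotGL la A')⁻¹) (slotGL i B)⁻¹ :=
      ((slotGL_comm hla _ _).inv_right.mul_left (slotGL_comm hlb _ _).inv_right).mul_left (slotGL_comm hla _ _).inv_inv
    rw [hza, hzb, ← hAB, map_mul, map_mul, map_mul, map_inv, map_inv, _root_.mul_inv_rev, _root_.mul_inv_rev]
    calc slotGL i A * slotGL la A' * (slotGL i B * slotGL lb B') * ((slotGL la A')⁻¹ * (slotGL i A)⁻¹) *
        ((slotGL lb B')⁻¹ * (slotGL i B)⁻¹)
        = slotGL i A * (slotGL la A' * slotGL i B) * slotGL lb B' * ((slotGL la A')⁻¹ * (slotGL i A)⁻¹) *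
            ((slotGL lb B')⁻¹ * (slotGL i B)⁻¹) := by group
      _ = slotGL i A * slotGL i B * slotGL la A' * (slotGL lb B' * (slotGL i A)⁻¹) * (slotGL la A')⁻¹ *
            ((slotGL i B)⁻¹ * (slotGL lb B')⁻¹) := by rw [c1.eq, c3.eq, c4.eq]; group
      _ = slotGL i A * slotGL i B * (slotGL la A' * (slotGL i A)⁻¹) * slotGL lb B' * (slotGL la A')⁻¹ *
            ((slotGL i B)⁻¹ * (slotGL lb B')⁻¹) := by rw [c2.eq]; group
      _ = slotGL i A * slotGL i B * (slotGL i A)⁻¹ *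
            ((slotGL la A' * slotGL lb B' * (slotGL la A')⁻¹) * (slotGL i B)⁻¹) * (slotGL lb B')⁻¹ := by
            rw [((slotGL_comm hla A' A).inv_right).eq]; group
      _ = _ := by rw [c5.eq]; group
  set c := za * zb * za⁻¹ * zb⁻¹ with hc
  have hcd : Commute c d := ((hzad.mul_left hzbd).mul_left hzad.inv_left).mul_left hzbd.inv_left
  by_cases hab : Commute (slotGL la A') (slotGL lb B')
  · refine hdW (hH.cent_root hm IH (isRoot_slot i hX) (hd.mem hH) ?_)
    rw [hab.eq, mul_inv_cancel_right, mul_inv_cancel, mul_one] at hcom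
    exact (hcom ▸ hcd).symm
  obtain rfl : la = lb := by
    by_contra hne'
    exact hab (slotGL_comm hne' _ _)
  have hcX : c = slotGL i X * slotGL la (A' * B' * A'⁻¹ * B'⁻¹) := by
    rw [hcom, map_mul, map_mul, map_mul, map_inv, map_inv]
  have hc1 : c ≠ 1 := by
    rw [hcX]
    intro e
    obtain ⟨A₁, B₁, C₁, -, -, -, -, -, -, hXC⟩ := hX.frame hm
    have := (touch_mul (l := i) (off_slot hla (A' * B' * A'⁻¹ * B'⁻¹)) hXC).1
    rw [e] at this
    exact not_touch.2 (off_one i) this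
  -- pull back along `d`
  obtain ⟨x₀, g, hx₀, hg, rfl⟩ := hd
  have hpull : ∀ {u}, u ∈ H → Commute u (g * x₀ * g⁻¹) → HRoot H (g * x₀ * g⁻¹ * u) →
      ∃ s, IsRoot s ∧ Commute s x₀ ∧ u = g * (x₀ * s) * g⁻¹ := by
    intro u huH huc hu
    have h0 : Commute (g⁻¹ * u * g) x₀ := by
      rw [commute_iff_eq]
      calc g⁻¹ * u * g * x₀ = g⁻¹ * (u * (g * x₀ * g⁻¹)) * g := by group
        _ = g⁻¹ * ((g * x₀ * g⁻¹) * u) * g := by rw [huc.eq]
        _ = _ := by group
    have hW : g⁻¹ * u * g ∈ W m (t + 2) F := hH.cent_root hm IH hx₀ (mul_mem (mul_mem (inv_mem hg) huH) hg) h0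
    refine ⟨x₀ * (g⁻¹ * u * g), ?_, (Commute.refl x₀).mul_left h0, ?_⟩
    · have := hu.conj (inv_mem hg)
      rw [show g⁻¹ * (g * x₀ * g⁻¹ * u) * g⁻¹⁻¹ = x₀ * (g⁻¹ * u * g) by group] at this
      exact this.isRoot hm IH hH (mul_mem hx₀.mem_W hW)
    · obtain ⟨l, X₀, hX₀, rfl⟩ := hx₀.slot_form
      rw [← mul_assoc (slotGL l X₀), ← map_mul, hX₀.sq h2, map_one, one_mul]
      group
  obtain ⟨sa, hsa, hsax, esa⟩ := hpull hzaH hzad hdza
  obtain ⟨sb, hsb, hsbx, esb⟩ := hpull hzbH hzbd hdzb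
  have hcg : g⁻¹ * c * g = sa * sb * sa⁻¹ * sb⁻¹ := by
    rw [hc, esa, esb]
    have hxx : x₀ * x₀ = 1 := (hroot_of_isRoot (H := H) hx₀).sq h2
    have e1 : x₀ * sa * (x₀ * sb) = sa * sb := by rw [hsax.mul_mul_mul_comm, hxx, one_mul]
    have e2 : x₀ * sb * (x₀ * sa) = sb * sa := by rw [hsbx.mul_mul_mul_comm, hxx, one_mul]
    calc g⁻¹ * (g * (x₀ * sa) * g⁻¹ * (g * (x₀ * sb) * g⁻¹) * (g * (x₀ * sa) * g⁻¹)⁻¹ * (g * (x₀ * sb) * g⁻¹)⁻¹) * g
        = (x₀ * sa * (x₀ * sb)) * (x₀ * sb * (x₀ * sa))⁻¹ := by group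
      _ = _ := by rw [e1, e2]; group
  obtain ⟨l₁, S₁, hS₁, rfl⟩ := hsa.slot_form
  obtain ⟨l₂, S₂, hS₂, rfl⟩ := hsb.slot_form
  obtain rfl : l₁ = l₂ := by
    by_contra hne'
    rw [(slotGL_comm hne' S₁ S₂).eq, mul_inv_cancel_right, mul_inv_cancel] at hcg
    exact hc1 (by rw [show c = g * (g⁻¹ * c * g) * g⁻¹ by group, hcg, mul_one, mul_inv_cancel])
  rw [← map_inv, ← map_inv, ← map_mul, ← map_mul, ← map_mul] at hcg
  set v := S₁ * S₂ * S₁⁻¹ * S₂⁻¹ with hv
  obtain ⟨u, hu, hu1, hu2⟩ := hS₁.common_fix hm hS₂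
  have hfix : (v : Matrix (Fin m) (Fin m) F) *ᵥ u = u := by
    have hi : ∀ {S : GL (Fin m) F}, (S : Matrix (Fin m) (Fin m) F) *ᵥ u = u →
        ((S⁻¹ : GL (Fin m) F) : Matrix (Fin m) (Fin m) F) *ᵥ u = u := fun {S} h => by
      conv_lhs => rw [← h, Matrix.mulVec_mulVec, ← Units.val_mul, inv_mul_cancel, Units.val_one, Matrix.one_mulVec]
    rw [hv, Units.val_mul, Units.val_mul, Units.val_mul, ← Matrix.mulVec_mulVec, hi hu2, ← Matrix.mulVec_mulVec,
      hi hu1, ← Matrix.mulVec_mulVec, hu2, hu1]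
  -- the root commuting with the commutator
  have hxc : Commute (slotGL i X) c := by
    rw [hcX]
    exact (Commute.refl _).mul_right (slotGL_comm (Ne.symm hla) _ _)
  set q := g⁻¹ * slotGL i X * g with hq
  have hqW : q ∈ W m (t + 2) F := by
    refine hH.cent_slot hm IH l₁ (v := v) (fun e => hc1 ?_) hu hfix
      (mul_mem (mul_mem (inv_mem hg) ((isRoot_slot i hX).mem_good hH)) hg) ?_
    · rw [show c = g * (g⁻¹ * c * g) * g⁻¹ by group, hcg, e, map_one, mul_one, mul_inv_cancel]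
    · rw [← hcg, hq, commute_iff_eq]
      calc g⁻¹ * slotGL i X * g * (g⁻¹ * c * g) = g⁻¹ * (slotGL i X * c) * g := by group
        _ = g⁻¹ * (c * slotGL i X) * g := by rw [hxc.eq]
        _ = _ := by group
  have hgW : g⁻¹ ∈ W m (t + 2) F :=
    hH.mapW hm IH (by rwa [cj_self (inv_mem hg)]) (isRoot_slot i hX) (by rw [inv_inv]; exact hqW)
  exact hdW (mul_mem (mul_mem (inv_mem_iff.1 hgW) hx₀.mem_W) hgW)

/-- an involution centralising a root and a conjugate -/
theorem Good.comp (hm : 3 ≤ m) (IH : HP m t F) (hH : Good H) (hF : Fused H)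
    {r d z : GL (Fin (t + 2) → Fin m) F} (hr : IsRoot r) (hd : HRoot H d) (hdW : d ∉ W m (t + 2) F)
    (hzr : Commute z r) (hzd : Commute z d) : ∃ k ∈ H, k * (r * z) * k⁻¹ = d * z := by
  obtain ⟨k, hk, e⟩ := hF r d hr hd hdW
  exact ⟨k, hH.closure_le (hr.mem_good hH) hd hk, conj_mul_of_closure hk hzr hzd e⟩

/-- the centraliser of two roots in different slots -/
theorem Good.cent_two (hm : 3 ≤ m) (IH : HP m t F) (h2 : (2 : F) = 0) (hH : Good H) {i j : Fin (t + 2)} (hij : i ≠ j)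
    {X Y : GL (Fin m) F} (hX : Transv X) (hY : Transv Y) {g : GL (Fin (t + 2) → Fin m) F} (hg : g ∈ H)
    (hc : Commute g (slotGL i X * slotGL j Y)) : g ∈ W m (t + 2) F := by
  by_contra hgW
  set w := slotGL i X * slotGL j Y with hw
  set d := g * slotGL i X * g⁻¹ with hd
  have hdr : HRoot H d := ⟨_, g, isRoot_slot i hX, hg, hd⟩
  have hdW : d ∉ W m (t + 2) F := fun h => hgW (hH.mapW hm IH (by rwa [cj_self hg]) (isRoot_slot i hX) h)
  have hgw : g * w * g⁻¹ = w := by rw [hc.eq, mul_inv_cancel_right]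
  have hwd : Commute w d := by
    rw [← hgw, hd, commute_iff_eq]
    have : w * slotGL i X = slotGL i X * w := by
      rw [hw]; exact (((Commute.refl _).mul_left (slotGL_comm hij.symm _ _))).eq
    calc g * w * g⁻¹ * (g * slotGL i X * g⁻¹) = g * (w * slotGL i X) * g⁻¹ := by group
      _ = g * (slotGL i X * w) * g⁻¹ := by rw [this]
      _ = _ := by group
  have hdw : HRoot H (d * w) := by
    refine ⟨slotGL j Y, g, isRoot_slot j hY, hg, ?_⟩
    conv_lhs => rw [← hgw]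
    rw [hd, show g * slotGL i X * g⁻¹ * (g * w * g⁻¹) = g * (slotGL i X * w) * g⁻¹ by group, hw,
      ← mul_assoc (slotGL i X), ← map_mul, hX.sq h2, map_one, one_mul]
  obtain ⟨A, B, C, hA, -, -, hAB, hAX, hBX, -⟩ := hX.frame hm
  obtain ⟨-, -, CY, -, -, -, -, -, -, hYC⟩ := hY.frame hm
  have hwA : Commute w (slotGL i A) := (hAX.symm.map (slotGL i)).mul_left (slotGL_comm hij.symm Y A)
  obtain ⟨k, hk, e⟩ := hH.comp hm IH (hH.fused hm IH h2) (isRoot_slot i hA) hdr hdW hwA hwd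
  have hr : HRoot H (slotGL i A * w) := by
    have := hdw.conj (inv_mem hk)
    rwa [← e, show k⁻¹ * (k * (slotGL i A * w) * k⁻¹) * k⁻¹⁻¹ = slotGL i A * w by group] at this
  have := hr.isRoot hm IH hH (mul_mem (slotGL_mem_W _ _) (mul_mem (slotGL_mem_W _ _) (slotGL_mem_W _ _)))
  rw [hw, ← mul_assoc, ← map_mul] at this
  refine Good.not_root_two hm hij (y := B) (fun hc => hX.ne_one ?_) hYC this
  have h' : A * B = B * A := by
    have := hc.eq
    rw [mul_assoc, hBX.eq.symm, ← mul_assoc, ← mul_assoc] at this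
    exact mul_right_cancel this
  rw [← hAB, h']; group

end CfsgLib.MaxSub.TPowSL
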