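import Cfsg.Agent.Lib.MaxSub.TPowSL.Swap

/-!
An element carrying a root into the wreath subgroup belongs to the wreath subgroup.
-/

set_option autoImplicit false
set_option linter.unusedSectionVars false
set_option linter.style.haveILetI false

namespace CfsgLib.MaxSub.TPowSL

open Matrix CfsgLib.Aschbacher
open scoped MatrixGroups

variable {m t : ℕ} {F : Type*} [Field F]

/-- the action on the slots -/
def Moves (n : GL (Fin t → Fin m) F) (σ : Equiv.Perm (Fin t)) : Prop :=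
  ∃ a : Fin t → GL (Fin m) F, ∀ l x, n * slotGL l x * n⁻¹ = slotGL (σ l) (a l * x * (a l)⁻¹)

theorem Moves.mul {n k : GL (Fin t → Fin m) F} {σ τ : Equiv.Perm (Fin t)} (hn : Moves n σ) (hk : Moves k τ) :
    Moves (n * k) (σ * τ) := by
  obtain ⟨a, ha⟩ := hn
  obtain ⟨b, hb⟩ := hk
  refine ⟨fun l => a (τ l) * b l, fun l x => ?_⟩
  rw [Equiv.Perm.mul_apply, show a (τ l) * b l * x * (a (τ l) * b l)⁻¹ =
    a (τ l) * (b l * x * (b l)⁻¹) * (a (τ l))⁻¹ by group, ← ha, ← hb]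
  group

theorem Moves.inv {n : GL (Fin t → Fin m) F} {σ : Equiv.Perm (Fin t)} (hn : Moves n σ) : Moves n⁻¹ σ⁻¹ := by
  obtain ⟨a, ha⟩ := hn
  refine ⟨fun l => (a (σ⁻¹ l))⁻¹, fun l x => ?_⟩
  have e := ha (σ⁻¹ l) ((a (σ⁻¹ l))⁻¹ * x * a (σ⁻¹ l))
  rw [show σ (σ⁻¹ l) = l from σ.apply_symm_apply l, show a (σ⁻¹ l) * ((a (σ⁻¹ l))⁻¹ * x * a (σ⁻¹ l)) * (a (σ⁻¹ l))⁻¹ = x by group] at e
  dsimp only
  rw [inv_inv, inv_inv, ← e]
  group

theorem moves_perm (σ : Equiv.Perm (Fin t)) : Moves (perm σ : GL (Fin t → Fin m) F) σ :=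
  ⟨fun _ => 1, fun l x => by rw [one_mul, inv_one, mul_one, perm_conj_slot]⟩

theorem exists_moves [Fintype F] {n : GL (Fin t → Fin m) F} (hn : n ∈ W m t F) : ∃ σ, Moves n σ := by
  obtain ⟨σ, a, p, rfl, hp⟩ := exists_factor hn
  exact ⟨σ, a, wreath_conj_slot hp σ⟩

theorem Moves.unique (hm : 3 ≤ m) {n : GL (Fin (t + 1) → Fin m) F} {σ τ : Equiv.Perm (Fin (t + 1))}
    (h : Moves n σ) (h' : Moves n τ) : σ = τ := by
  haveI : NeZero m := ⟨by omega⟩
  obtain ⟨a, ha⟩ := h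
  obtain ⟨b, hb⟩ := h'
  refine Equiv.ext fun l => ?_
  by_contra hne
  let u : Fin m := ⟨0, by omega⟩
  let v : Fin m := ⟨1, by omega⟩
  have huv : u ≠ v := by simp [u, v, Fin.ext_iff]
  have e := (ha l ((a l)⁻¹ * el huv (1 : F) * a l)).symm.trans (hb l _)
  rw [show a l * ((a l)⁻¹ * el huv (1 : F) * a l) * (a l)⁻¹ = el huv 1 by group] at e
  have := slot_scalar_of_eq hne e huv
  simp [el_val, Matrix.transvection, huv] at this

theorem moves_slot (i : Fin (t + 1)) (x : GL (Fin m) F) :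
    Moves (slotGL i x) (1 : Equiv.Perm (Fin (t + 1))) := by
  classical
  refine ⟨fun l => if l = i then x else 1, fun l y => ?_⟩
  rw [Equiv.Perm.one_apply]
  rcases eq_or_ne l i with rfl | h
  · dsimp only
    rw [if_pos rfl, map_mul, map_mul, map_inv]
  · dsimp only
    rw [if_neg h, one_mul, inv_one, mul_one, mul_inv_eq_iff_eq_mul]
    exact Units.ext (by rw [Units.val_mul, Units.val_mul, slotGL_val, slotGL_val]; exact slot_comm (Ne.symm h) _ _)

theorem slotGL_comm {i j : Fin t} (h : i ≠ j) (x y : GL (Fin m) F) : Commute (slotGL i x) (slotGL j y) :=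
  Units.ext (by rw [Units.val_mul, Units.val_mul, slotGL_val, slotGL_val]; exact slot_comm h _ _)

theorem el_comm {a b c : Fin m} (hab : a ≠ b) (hbc : b ≠ c) (hac : a ≠ c) :
    el hab (1 : F) * el hbc 1 * (el hab 1)⁻¹ * (el hbc 1)⁻¹ = el hac 1 := by
  refine mul_inv_eq_iff_eq_mul.2 (mul_inv_eq_iff_eq_mul.2 (Units.ext ?_))
  simp only [Units.val_mul, el_val, Matrix.transvection, Matrix.mul_add, Matrix.add_mul, Matrix.mul_one,
    Matrix.one_mul, Matrix.single_mul_single_same, Matrix.single_mul_single_of_ne _ _ _ _ (Ne.symm hab),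
    Matrix.single_mul_single_of_ne _ _ _ _ (Ne.symm hac), Matrix.single_mul_single_of_ne _ _ _ _ (Ne.symm hbc)]
  simp [Matrix.single_mul_single_of_ne _ _ _ _ (Ne.symm hac), Ne.symm hac]
  abel

variable [Fintype F] {H : Subgroup (GL (Fin (t + 2) → Fin m) F)} {g : GL (Fin (t + 2) → Fin m) F}

/-- an element carrying a root to the exchange of two slots -/
theorem Good.mapSwap (hm : 3 ≤ m) (IH : HP m t F) (h2 : (2 : F) = 0) (hH : Good H) (hH' : Good (cj g H))
    {x : GL (Fin (t + 2) → Fin m) F} (hx : IsRoot x) {i j : Fin (t + 2)} (hij : i ≠ j)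
    (e : g * x * g⁻¹ = perm (Equiv.swap i j)) : g ∈ W m (t + 2) F := by
  classical
  set w : GL (Fin (t + 2) → Fin m) F := perm (Equiv.swap i j) with hw
  have hxw : x = g⁻¹ * w * g := by rw [← e]; group
  have hback : ∀ {c}, c ∈ cj g H → Commute c w → g⁻¹ * c * g ∈ W m (t + 2) F := fun {c} hc hcw => by
    refine hH.cent_root hm IH hx (mem_cj.1 hc) ?_
    rw [hxw, commute_iff_eq]
    calc g⁻¹ * c * g * (g⁻¹ * w * g) = g⁻¹ * (c * w) * g := by group
      _ = g⁻¹ * (w * c) * g := by rw [hcw.eq]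
      _ = _ := by group
  by_contra hg
  obtain ⟨k, hk⟩ : ∃ k, ∀ (a b : Fin m) (h : a ≠ b), g⁻¹ * slotGL k (el h 1) * g ∈ W m (t + 2) F := by
    by_cases hex : ∃ k, k ≠ i ∧ k ≠ j
    · obtain ⟨k, hki, hkj⟩ := hex
      refine ⟨k, fun a b h => hback (hH'.el_mem k h 1) ?_⟩
      rw [commute_iff_eq, hw]
      refine (mul_inv_eq_iff_eq_mul.1 ?_).symm
      rw [perm_conj_slot, Equiv.swap_apply_of_ne_of_ne hki hkj]
    push Not at hex
    refine ⟨j, fun a b h => ?_⟩
    set s : GL (Fin (t + 2) → Fin m) F := slotGL j (el h 1) with hs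
    set c := s * slotGL i (el (F := F) h 1) with hc
    have hsi : s⁻¹ = s := by
      rw [hs, ← map_inv, el_inv, show (-1 : F) = 1 by linear_combination (-1 : F) * h2]
    have hsw : w * s * w⁻¹ = slotGL i (el (F := F) h 1) := by
      rw [hw, hs, perm_conj_slot, Equiv.swap_apply_right]
    have hcw : s * w * s⁻¹ = c * w := by
      rw [hsi, hc, ← hsw]; group
    have hcc : Commute c w := by
      have e2 : w * c * w⁻¹ = c := by
        rw [hc, show w * (s * slotGL i (el (F := F) h 1)) * w⁻¹ =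
          (w * s * w⁻¹) * (w * slotGL i (el (F := F) h 1) * w⁻¹) by group, hsw, hw, perm_conj_slot,
          Equiv.swap_apply_left, ← hs]
        exact (slotGL_comm hij.symm _ _).symm.eq
      exact (mul_inv_eq_iff_eq_mul.1 e2).symm
    have hcH : c ∈ cj g H := mul_mem (hH'.el_mem j h 1) (hH'.el_mem i h 1)
    set u := g⁻¹ * c * g with hu
    have huW : u ∈ W m (t + 2) F := hback hcH hcc
    have hux : Commute u x := by
      rw [hxw, hu, commute_iff_eq]
      calc g⁻¹ * c * g * (g⁻¹ * w * g) = g⁻¹ * (c * w) * g := by group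
        _ = g⁻¹ * (w * c) * g := by rw [hcc.eq]
        _ = _ := by group
    obtain ⟨σ, hσ⟩ := exists_moves huW
    -- the permutation of `u` fixes the slot of `x`
    have hσ1 : σ = 1 := by
      obtain ⟨l₀, S, a', b', h', hxf⟩ := hx.form
      obtain ⟨f, hf⟩ := hσ
      have hl₀ : σ l₀ = l₀ := by
        by_contra hne
        have e3 := hf l₀ (S * el h' 1 * S⁻¹)
        rw [← hxf, hux.eq, mul_inv_cancel_right, hxf] at e3
        set Y := f l₀ * (S * el h' (1 : F) * S⁻¹) * (f l₀)⁻¹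
        have e4 : slotGL l₀ (el (F := F) h' 1) = slotGL (σ l₀) Y := by
          rw [show el h' (1 : F) = S⁻¹ * (S * el h' 1 * S⁻¹) * S by group, map_mul, map_mul, e3,
            (slotGL_comm (Ne.symm hne) S⁻¹ Y).eq, mul_assoc, ← map_mul, inv_mul_cancel, map_one, mul_one]
        haveI : NeZero m := ⟨by omega⟩
        have := slot_scalar_of_eq (Ne.symm hne) e4 h'
        simp [el_val, Matrix.transvection, h'] at this
      refine Equiv.ext fun z => ?_
      rw [Equiv.Perm.one_apply]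
      by_contra hz
      rcases eq_or_ne z l₀ with rfl | hzl
      · exact hz hl₀
      have hσz : σ z ≠ l₀ := fun e0 => hzl (σ.injective (e0.trans hl₀.symm))
      have h1 : ∀ y, y = i ∨ y = j := fun y => or_iff_not_imp_left.2 (hex y)
      rcases h1 z with rfl | rfl <;> rcases h1 (σ z) with e0 | e0 <;> rcases h1 l₀ with e1 | e1 <;>
        simp_all
    set h₀ := g⁻¹ * s * g with hh₀
    have hh₀x : h₀ * x * h₀⁻¹ = u * x := by
      rw [hh₀, hxw, hu, show g⁻¹ * s * g * (g⁻¹ * w * g) * (g⁻¹ * s * g)⁻¹ = g⁻¹ * (s * w * s⁻¹) * g by group, hcw]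
      group
    have hroot : IsRoot (u * x) := by
      rcases shape hm hx hh₀x (mul_mem huW hx.mem_W) with h | ⟨-, -, n, hn, p, q, hpq, e6⟩
      · exact h
      · exfalso
        obtain ⟨l₁, S, a', b', h', hxf⟩ := hx.form
        obtain ⟨ρ, hρ⟩ := exists_moves hn
        have hux1 : Moves (u * x) (1 : Equiv.Perm (Fin (t + 2))) := by
          have := (hσ1 ▸ hσ).mul (hxf ▸ moves_slot l₁ (S * el h' 1 * S⁻¹) : Moves x 1)
          rwa [mul_one] at this
        have hne := Moves.unique hm (e6 ▸ (hρ.mul (moves_perm _)).mul hρ.inv) hux1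
        exact hpq (Equiv.swap_eq_one_iff.1 (conj_eq_one_iff.1 hne))
    have hh₀H : h₀ ∈ H := mem_cj.1 (hH'.el_mem j h 1)
    exact hH.mapRoot hm IH (by rwa [cj_self hh₀H]) hx (hh₀x ▸ hroot)
  -- three of them are exchanges
  have htr : ∀ (a b : Fin m) (h : a ≠ b), ∃ σ, Moves (g⁻¹ * slotGL k (el h 1) * g) σ ∧ Equiv.Perm.sign σ = -1 := by
    intro a b h
    rcases shape (g := g⁻¹) hm (isRoot_el k h) (by rw [inv_inv]) (hk a b h) with hr | ⟨-, -, n, hn, p, q, hpq, e'⟩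
    · refine absurd (hH.mapRoot hm IH hH' hr ?_) hg
      rw [show g * (g⁻¹ * slotGL k (el h 1) * g) * g⁻¹ = slotGL k (el h 1) by group]
      exact isRoot_el k h
    · obtain ⟨ρ, hρ⟩ := exists_moves hn
      refine ⟨ρ * Equiv.swap p q * ρ⁻¹, e' ▸ (hρ.mul (moves_perm _)).mul hρ.inv, ?_⟩
      rw [map_mul, map_mul, Equiv.Perm.sign_swap hpq, Equiv.Perm.sign_inv]
      rcases Int.units_eq_one_or (Equiv.Perm.sign ρ) with e0 | e0 <;> simp [e0]
  let p₀ : Fin m := ⟨0, by omega⟩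
  let p₁ : Fin m := ⟨1, by omega⟩
  let p₂ : Fin m := ⟨2, by omega⟩
  have h01 : p₀ ≠ p₁ := by simp [p₀, p₁, Fin.ext_iff]
  have h12 : p₁ ≠ p₂ := by simp [p₁, p₂, Fin.ext_iff]
  have h02 : p₀ ≠ p₂ := by simp [p₀, p₂, Fin.ext_iff]
  obtain ⟨α, hα, sα⟩ := htr _ _ h01
  obtain ⟨β, hβ, sβ⟩ := htr _ _ h12
  obtain ⟨γ, hγ, sγ⟩ := htr _ _ h02
  have hcomm : g⁻¹ * slotGL k (el h01 1) * g * (g⁻¹ * slotGL k (el h12 1) * g) * (g⁻¹ * slotGL k (el h01 1) * g)⁻¹ *
      (g⁻¹ * slotGL k (el h12 1) * g)⁻¹ = g⁻¹ * slotGL k (el h02 1) * g := by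
    rw [← el_comm (F := F) h01 h12 h02, map_mul, map_mul, map_mul, map_inv, map_inv]
    group
  have hγ' := Moves.unique hm (hcomm ▸ ((hα.mul hβ).mul hα.inv).mul hβ.inv) hγ
  rw [← hγ', map_mul, map_mul, map_mul, Equiv.Perm.sign_inv, Equiv.Perm.sign_inv, sα, sβ] at sγ
  exact absurd sγ (by decide)

/-- an element carrying a root into the wreath subgroup -/
theorem Good.mapW (hm : 3 ≤ m) (IH : HP m t F) (hH : Good H) (hH' : Good (cj g H))
    {x : GL (Fin (t + 2) → Fin m) F} (hx : IsRoot x) (hW : g * x * g⁻¹ ∈ W m (t + 2) F) : g ∈ W m (t + 2) F := by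
  rcases shape hm hx rfl hW with h | ⟨h2, -, n, hn, i, j, hij, e⟩
  · exact hH.mapRoot hm IH hH' hx h
  · have : n⁻¹ * g ∈ W m (t + 2) F := hH.mapSwap hm IH h2
      (by rw [← cj_mul]; exact hH'.cj_wreath hm (inv_mem hn)) hx hij
      (by rw [show n⁻¹ * g * x * (n⁻¹ * g)⁻¹ = n⁻¹ * (g * x * g⁻¹) * n by group, e]; group)
    simpa using mul_mem hn this

end CfsgLib.MaxSub.TPowSL
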