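import Cfsg.Agent.Lib.MaxSub.TPowSL.Conj

/-!
Good groups lie in the wreath subgroup: characteristic two.
-/

set_option autoImplicit false
set_option linter.unusedSectionVars false
set_option linter.style.haveILetI false

namespace CfsgLib.MaxSub.TPowSL

open Matrix CfsgLib.Aschbacher
open scoped MatrixGroups

variable {m t : ℕ} {F : Type*} [Field F]

theorem ns_of_ne (hm : 0 < m) {A : GL (Fin m) F} {u v : Fin m} (huv : u ≠ v)
    (h : (A : Matrix (Fin m) (Fin m) F) u v ≠ 0) : ∃ y, ¬ Commute A y := by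
  by_contra hno
  push Not at hno
  obtain ⟨c, hc⟩ := scalar_of_el hm fun {a b} hab => hno (el hab 1)
  rw [hc, Matrix.smul_apply, Matrix.one_apply_ne huv, smul_zero] at h
  exact h rfl

theorem card_supp_le {q : GL (Fin t → Fin m) F} {S : Finset (Fin t)} (h : ∀ l, l ∉ S → Off q l) :
    (supp q).card ≤ S.card :=
  Finset.card_le_card fun l hl => by
    by_contra hne
    exact not_touch.2 (h l hne) (mem_supp.1 hl)

theorem le_card_supp {q : GL (Fin t → Fin m) F} {S : Finset (Fin t)} (h : ∀ l ∈ S, Touch q l) :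
    S.card ≤ (supp q).card := Finset.card_le_card fun l hl => mem_supp.2 (h l hl)

theorem commute_component [NeZero m] {i : Fin (t + 1)} {R X : GL (Fin m) F} {q : GL (Fin (t + 1) → Fin m) F}
    (hq : Off q i) (h : Commute (slotGL i R) (slotGL i X * q)) : Commute R X :=
  slotGL_inj i (by
    rw [map_mul, map_mul]
    refine mul_right_cancel (b := q) ?_
    rw [mul_assoc (slotGL i R), h.eq, mul_assoc (slotGL i X), (hq R).eq, ← mul_assoc])

theorem moves_one : Moves (1 : GL (Fin t → Fin m) F) (1 : Equiv.Perm (Fin t)) :=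
  ⟨fun _ => 1, fun l x => by simp⟩

variable [Fintype F]

theorem Moves.invol (hm : 3 ≤ m) {z : GL (Fin (t + 1) → Fin m) F} {σ : Equiv.Perm (Fin (t + 1))} (hσ : Moves z σ)
    (hzz : z * z = 1) (l : Fin (t + 1)) : σ (σ l) = l := by
  have := Moves.unique hm (hσ.mul hσ) (hzz ▸ moves_one)
  simpa using congrArg (fun τ : Equiv.Perm (Fin (t + 1)) => τ l) this

theorem Moves.mem_supp_self {z q : GL (Fin t → Fin m) F} {σ : Equiv.Perm (Fin t)} (hσ : Moves z σ) (hc : Commute z q)
    {l : Fin t} (hl : Touch q l) : Touch q (σ l) := by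
  have := hσ.touch q l hl
  rwa [hc.eq, mul_inv_cancel_right] at this

variable {H : Subgroup (GL (Fin (t + 2) → Fin m) F)}

/-- a centraliser inside the wreath subgroup -/
def Cent (H : Subgroup (GL (Fin (t + 2) → Fin m) F)) (w : GL (Fin (t + 2) → Fin m) F) : Prop :=
  ∀ g ∈ H, Commute g w → g ∈ W m (t + 2) F

/-- conjugate elements with centralisers in the wreath subgroup touch equally many slots -/
theorem Good.card_transfer (hm : 3 ≤ m) (IH : HP m t F) (hH : Good H) {h q s : GL (Fin (t + 2) → Fin m) F}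
    (hh : h ∈ H) (hq : Cent H q) (hs : IsRoot s) (hc : Commute s (h * q * h⁻¹)) :
    (supp (h * q * h⁻¹)).card = (supp q).card := by
  set u := h⁻¹ * s * h with hu
  have hu' : HRoot H u := ⟨s, h⁻¹, hs, inv_mem hh, by rw [hu]; group⟩
  have huq : Commute u q := by
    rw [hu, commute_iff_eq]
    calc h⁻¹ * s * h * q = h⁻¹ * (s * (h * q * h⁻¹)) * h := by group
      _ = h⁻¹ * ((h * q * h⁻¹) * s) * h := by rw [hc.eq]
      _ = _ := by group
  have hur := hu'.isRoot hm IH hH (hq u (hu'.mem hH) huq)
  have hhW : h ∈ W m (t + 2) F := hH.mapW hm IH (by rwa [cj_self hh]) hur (by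
    rw [hu, show h * (h⁻¹ * s * h) * h⁻¹ = s by group]; exact hs.mem_W)
  obtain ⟨σ, hσ⟩ := exists_moves hhW
  exact hσ.card_supp q

/-- an involution of the wreath subgroup fixing a slot -/
theorem Good.caseA (hm : 3 ≤ m) (IH : HP m t F) (h2 : (2 : F) = 0) (hH : Good H) {d z : GL (Fin (t + 2) → Fin m) F}
    (hd : HRoot H d) (hdW : d ∉ W m (t + 2) F) (hzW : z ∈ W m (t + 2) F) (hzz : z * z = 1)
    (hz1 : z ≠ 1) (hzd : Commute z d) (hdz : HRoot H (d * z)) {σ : Equiv.Perm (Fin (t + 2))} (hσ : Moves z σ)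
    {i : Fin (t + 2)} (hi : σ i = i) : False := by
  haveI : NeZero m := ⟨by omega⟩
  obtain ⟨a, ha⟩ := hσ
  have hAA : ∀ y, Commute (a i * a i) y := fun y => by
    have e := ha i (a i * y * (a i)⁻¹)
    rw [hi] at e
    have e' := ha i y
    rw [hi] at e'
    rw [← e', show z * (z * slotGL i y * z⁻¹) * z⁻¹ = (z * z) * slotGL i y * (z * z)⁻¹ by group, hzz, one_mul,
      inv_one, mul_one] at e
    have e2 := slotGL_inj i e
    rw [commute_iff_eq]
    calc a i * a i * y = (a i * (a i * y * (a i)⁻¹) * (a i)⁻¹) * (a i * a i) := by group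
      _ = y * (a i * a i) := by rw [← e2]
  obtain ⟨T, hT, hTa⟩ := exists_cent_transv hm h2 hAA
  have comm : ∀ {R}, Commute (a i) R → Commute z (slotGL i R) := fun {R} h => by
    have e := ha i R
    rw [hi, h.eq, mul_inv_cancel_right] at e
    exact mul_inv_eq_iff_eq_mul.1 e
  have step : ∀ {R}, Transv R → Commute z (slotGL i R) → IsRoot (slotGL i R * z) := fun {R} hR hc => by
    obtain ⟨k, hk, e⟩ := hH.comp hm IH (hH.fused hm IH h2) (isRoot_slot i hR) hd hdW hc hzd
    have := hdz.conj (inv_mem hk)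
    rw [← e, show k⁻¹ * (k * (slotGL i R * z) * k⁻¹) * k⁻¹⁻¹ = slotGL i R * z by group] at this
    exact this.isRoot hm IH hH (mul_mem (slotGL_mem_W _ _) hzW)
  obtain ⟨l, R, hR, e⟩ := (step hT (comm hTa)).slot_form
  have hzv : z = slotGL i T * slotGL l R := by rw [← e, ← mul_assoc, ← map_mul, hT.sq h2, map_one, one_mul]
  rcases eq_or_ne i l with rfl | hil
  · rw [← map_mul] at hzv
    rw [hzv] at hzz hz1 hzd
    have hv : T * R * (T * R) = 1 := slotGL_inj i (by rw [map_mul, map_one]; exact hzz)
    obtain ⟨u, hu, hu'⟩ := exists_fixed_of_sq (by omega) h2 hv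
    exact hdW (hH.cent_slot hm IH i (fun e => hz1 (by rw [e, map_one])) hu hu' (hd.mem hH) hzd.symm)
  obtain ⟨A, B, -, hA, -, -, hAB, hAT, hBT, -⟩ := hT.frame hm
  obtain ⟨-, -, CR, -, -, -, -, -, -, hRC⟩ := hR.frame hm
  have hzA : Commute z (slotGL i A) := by
    rw [hzv]; exact (hAT.symm.map (slotGL i)).mul_left (slotGL_comm hil.symm R A)
  have := step hA hzA
  rw [hzv, ← mul_assoc, ← map_mul] at this
  refine Good.not_root_two hm hil (y := B) (fun hc => hT.ne_one ?_) hRC this
  have h' : A * B = B * A := by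
    have := hc.eq
    rw [mul_assoc, hBT.eq.symm, ← mul_assoc, ← mul_assoc] at this
    exact mul_right_cancel this
  rw [← hAB, h']; group

/-- the involution centralising an element of the wreath subgroup and a conjugate of a root -/
theorem Good.split (hm : 3 ≤ m) (IH : HP m t F) (h2 : (2 : F) = 0) (hH : Good H)
    {d w : GL (Fin (t + 2) → Fin m) F} (hd : HRoot H d) (hwH : w ∈ H) (hwW : w ∈ W m (t + 2) F)
    (hww : w * w = 1) (hwr : ¬ IsRoot w) (hwc : Cent H w) :
    ∃ z, z ∈ H ∧ z ∈ W m (t + 2) F ∧ z * z = 1 ∧ z ≠ 1 ∧ Commute z w ∧ Commute z d ∧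
      ((HRoot H (d * z) ∧ ∃ h ∈ H, h * w * h⁻¹ = w * z) ∨
        ∃ l R, Transv R ∧ Commute (slotGL l R) w ∧ z = w * slotGL l R ∧ ∃ h ∈ H, h * w * h⁻¹ = d * z) := by
  have hK : Subgroup.closure ({w, d} : Set (GL (Fin (t + 2) → Fin m) F)) ≤ H :=
    (Subgroup.closure_le H).2 (by rintro y (rfl | rfl); exacts [hwH, hd.mem hH])
  obtain ⟨z, hzK, hzz, hz1, hzw, hzd, hcases⟩ := dih_in hww (hd.sq h2) (by
    rintro ⟨k, hk, e⟩
    refine hwr (HRoot.isRoot hm IH hH ?_ hwW)
    have := hd.conj (inv_mem (hK hk))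
    rwa [← e, show k⁻¹ * (k * w * k⁻¹) * k⁻¹⁻¹ = w by group] at this)
  have hzH := hK hzK
  have hzW := hwc z hzH hzw
  refine ⟨z, hzH, hzW, hzz, hz1, hzw, hzd, ?_⟩
  rcases hcases with ⟨⟨k, hk, e⟩, k', hk', e'⟩ | ⟨⟨k, hk, e⟩, k', hk', e'⟩
  · exact Or.inl ⟨e' ▸ hd.conj (hK hk'), k, hK hk, e⟩
  · obtain ⟨l, R, hR, er⟩ := ((e ▸ hd.conj (hK hk) : HRoot H (w * z)).isRoot hm IH hH (mul_mem hwW hzW)).slot_form
    refine Or.inr ⟨l, R, hR, ?_, by rw [← er, ← mul_assoc, hww, one_mul], k', hK hk', e'⟩
    rw [← er]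
    exact (Commute.refl w).mul_left hzw

/-- the second case: the slots touched -/
theorem Good.caseB (hm : 3 ≤ m) (IH : HP m t F) (h2 : (2 : F) = 0) (hH : Good H)
    {d w z : GL (Fin (t + 2) → Fin m) F} (hd : HRoot H d) (hdW : d ∉ W m (t + 2) F) (hwc : Cent H w)
    (hzd : Commute z d) {h : GL (Fin (t + 2) → Fin m) F} (hh : h ∈ H) (e : h * w * h⁻¹ = d * z)
    {s s' : GL (Fin (t + 2) → Fin m) F} (hs : IsRoot s) (hsz : Commute z s) (hs' : IsRoot s')
    (hs'c : Commute s' (s * z)) : (supp (s * z)).card = (supp w).card := by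
  obtain ⟨k, hk, ek⟩ := hH.comp hm IH (hH.fused hm IH h2) hs hd hdW hsz hzd
  have e' : k⁻¹ * h * w * (k⁻¹ * h)⁻¹ = s * z := by
    rw [show k⁻¹ * h * w * (k⁻¹ * h)⁻¹ = k⁻¹ * (h * w * h⁻¹) * k by group, e, ← ek]; group
  rw [← e'] at hs'c ⊢
  exact hH.card_transfer hm IH (mul_mem (inv_mem hk) hh) hwc hs' hs'c

/-- the centraliser of three roots in different slots -/
theorem Good.cent_three (hm : 3 ≤ m) (IH : HP m t F) (h2 : (2 : F) = 0) (hH : Good H) {i j k : Fin (t + 2)}
    (hij : i ≠ j) (hik : i ≠ k) (hjk : j ≠ k) {X Y Z : GL (Fin m) F} (hX : Transv X) (hY : Transv Y) (hZ : Transv Z) :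
    Cent H (slotGL i X * (slotGL j Y * slotGL k Z)) := by
  haveI : NeZero m := ⟨by omega⟩
  intro g hg hc
  by_contra hgW
  set q := slotGL j Y * slotGL k Z with hq
  set w := slotGL i X * q with hw
  set d := g * slotGL i X * g⁻¹ with hd
  have hdr : HRoot H d := ⟨_, g, isRoot_slot i hX, hg, hd⟩
  have hdW : d ∉ W m (t + 2) F := fun h => hgW (hH.mapW hm IH (by rwa [cj_self hg]) (isRoot_slot i hX) h)
  have hqi : Off q i := (off_slot hij.symm Y).mul (off_slot hik.symm Z)
  have hgw : g * w * g⁻¹ = w := by rw [hc.eq, mul_inv_cancel_right]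
  have hwd : Commute w d := by
    have h' : w * slotGL i X = slotGL i X * w := by
      rw [hw]; exact ((Commute.refl _).mul_left (hqi X)).eq
    rw [← hgw, hd, commute_iff_eq]
    calc g * w * g⁻¹ * (g * slotGL i X * g⁻¹) = g * (w * slotGL i X) * g⁻¹ := by group
      _ = g * (slotGL i X * w) * g⁻¹ := by rw [h']
      _ = _ := by group
  obtain ⟨A, B, -, hA, -, -, hAB, hAX, hBX, -⟩ := hX.frame hm
  obtain ⟨-, -, CY, -, -, -, -, -, -, hYC⟩ := hY.frame hm
  obtain ⟨-, -, CZ, -, -, -, -, -, -, hZC⟩ := hZ.frame hm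
  have hwA : Commute w (slotGL i A) := (hAX.symm.map (slotGL i)).mul_left (hqi A)
  obtain ⟨k₀, hk₀, e⟩ := hH.comp hm IH (hH.fused hm IH h2) (isRoot_slot i hA) hdr hdW hwA hwd
  have e' : k₀⁻¹ * g * q * (k₀⁻¹ * g)⁻¹ = slotGL i A * w := by
    have e1 : g * q * g⁻¹ = d * w := by
      conv_rhs => rw [← hgw]
      rw [hd, show g * slotGL i X * g⁻¹ * (g * w * g⁻¹) = g * (slotGL i X * w) * g⁻¹ by group, hw,
        ← mul_assoc (slotGL i X), ← map_mul, hX.sq h2, map_one, one_mul]
    rw [show k₀⁻¹ * g * q * (k₀⁻¹ * g)⁻¹ = k₀⁻¹ * (g * q * g⁻¹) * k₀ by group, e1, ← e]; group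
  have hcard := hH.card_transfer hm IH (mul_mem (inv_mem hk₀) hg) (q := q)
    (fun g' hg' hc' => hH.cent_two hm IH h2 hjk hY hZ hg' hc') (isRoot_slot j hY) (s := slotGL j Y) (by
      rw [e', hw, hq]
      exact (slotGL_comm hij.symm _ _).mul_right ((slotGL_comm hij.symm _ _).mul_right
        ((Commute.refl _).mul_right (slotGL_comm hjk _ _))))
  rw [e'] at hcard
  have hup : (supp q).card ≤ 2 := by
    refine (card_supp_le (S := {j, k}) fun l hl => ?_).trans Finset.card_le_two
    simp only [Finset.mem_insert, Finset.mem_singleton, not_or] at hl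
    exact (off_slot (Ne.symm hl.1) Y).mul (off_slot (Ne.symm hl.2) Z)
  have hlow : 3 ≤ (supp (slotGL i A * w)).card := by
    refine le_trans (le_of_eq (show 3 = ({i, j, k} : Finset (Fin (t + 2))).card by
      rw [Finset.card_insert_of_notMem (by simp [hij, hik]), Finset.card_pair hjk])) (le_card_supp fun l hl => ?_)
    simp only [Finset.mem_insert, Finset.mem_singleton] at hl
    rcases hl with rfl | rfl | rfl
    · rw [hw, ← mul_assoc, ← map_mul]
      refine (touch_mul (y := B) hqi fun hc => hX.ne_one ?_).1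
      have h' : A * B = B * A := by
        have := hc.eq
        rw [mul_assoc, hBX.eq.symm, ← mul_assoc, ← mul_assoc] at this
        exact mul_right_cancel this
      rw [← hAB, h']; group
    · rw [hw, hq, ← mul_assoc, ← map_mul, (slotGL_comm hjk Y Z).eq, ← mul_assoc]
      exact (touch_mul ((off_slot hij _).mul (off_slot hjk.symm Z)) hYC).2
    · rw [hw, hq, ← mul_assoc, ← map_mul, ← mul_assoc]
      exact (touch_mul ((off_slot hik _).mul (off_slot hjk Y)) hZC).2
  omega

theorem not_transv_double (hm : 4 ≤ m) {p₀ p₁ p₂ p₃ : Fin m} (h02 : p₀ ≠ p₂) (h13 : p₁ ≠ p₃) (h01 : p₀ ≠ p₁)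
    (h23 : p₂ ≠ p₃) (h12 : p₁ ≠ p₂) (h03 : p₀ ≠ p₃) : ¬ Transv (el (F := F) h02 1 * el h13 1) := by
  rintro ⟨S, a, b, h, e⟩
  set v := (S : Matrix (Fin m) (Fin m) F) *ᵥ Pi.single a 1 with hv
  have key : ∀ u, ∃ c : F, (((el (F := F) h02 1 * el h13 1 : GL (Fin m) F) : Matrix (Fin m) (Fin m) F) - 1) *ᵥ u =
      c • v := fun u => by
    refine ⟨(((S⁻¹ : GL (Fin m) F) : Matrix (Fin m) (Fin m) F) *ᵥ u) b, ?_⟩
    rw [e, conj_sub_one, ← Matrix.mulVec_mulVec, ← Matrix.mulVec_mulVec, el_val, Matrix.transvection,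
      add_sub_cancel_left, hv, ← Matrix.mulVec_smul]
    congr 1
    funext k
    simp only [Matrix.mulVec, dotProduct, Matrix.single_apply, Pi.smul_apply, smul_eq_mul, Pi.single_apply]
    rw [Finset.sum_eq_single b]
    · by_cases hk : k = a
      · subst hk; simp [mul_comm]
      · simp [hk, Ne.symm hk]
    · intro z _ hz; simp [Ne.symm hz]
    · simp
  obtain ⟨c, hc⟩ := key (Pi.single p₂ 1)
  obtain ⟨c', hc'⟩ := key (Pi.single p₃ 1)
  have hX : ((el (F := F) h02 1 * el h13 1 : GL (Fin m) F) : Matrix (Fin m) (Fin m) F) - 1 =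
      Matrix.single p₀ p₂ 1 + Matrix.single p₁ p₃ 1 := by
    rw [Units.val_mul, el_val, el_val, Matrix.transvection, Matrix.transvection, mul_add, mul_one, add_mul, one_mul,
      Matrix.single_mul_single_of_ne _ _ _ _ h12.symm]
    abel
  rw [hX, Matrix.mulVec_single_one] at hc hc'
  have a1 := congrFun hc p₀
  have a2 := congrFun hc' p₀
  have a3 := congrFun hc' p₁
  simp only [Matrix.col_apply, Matrix.add_apply, Matrix.single_apply, Pi.smul_apply, smul_eq_mul, and_true, true_and,
    h01, h01.symm, h23, h23.symm, false_and, and_false, if_true, if_false, add_zero, zero_add] at a1 a2 a3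
  rcases mul_eq_zero.1 a2.symm with e0 | e0
  · rw [e0, zero_mul] at a3; exact one_ne_zero a3
  · rw [e0, mul_zero] at a1; exact one_ne_zero a1

theorem rank_pair (h2 : (2 : F) = 0) :
    4 ≤ (((slotGL (0 : Fin 2) (el (show (0 : Fin 3) ≠ 2 by decide) (1 : F)) *
      slotGL 1 (el (show (0 : Fin 3) ≠ 2 by decide) (1 : F)) : GL (Fin 2 → Fin 3) F) : Op 3 2 F) - 1).rank := by
  set e := el (show (0 : Fin 3) ≠ 2 by decide) (1 : F) with he
  set X := ((slotGL (0 : Fin 2) e * slotGL 1 e : GL (Fin 2 → Fin 3) F) : Op 3 2 F) - 1 with hX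
  have hentry : ∀ r c : Fin 2 → Fin 3, X r c =
      (e : Matrix (Fin 3) (Fin 3) F) (r 0) (c 0) * (e : Matrix (Fin 3) (Fin 3) F) (r 1) (c 1) -
        (1 : Op 3 2 F) r c := fun r c => by
    rw [hX, Matrix.sub_apply, Units.val_mul, slotGL_val, slotGL_val, slot_def, slot_def, pureMat_mul]
    simp [pureMat, Fin.prod_univ_two]
  have hsub := Matrix.rank_submatrix_le X (![![0, 0], ![0, 1], ![1, 0], ![2, 0]] : Fin 4 → Fin 2 → Fin 3)
    (![![2, 0], ![2, 1], ![1, 2], ![2, 2]] : Fin 4 → Fin 2 → Fin 3)
  have hM : X.submatrix (![![0, 0], ![0, 1], ![1, 0], ![2, 0]] : Fin 4 → Fin 2 → Fin 3)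
      (![![2, 0], ![2, 1], ![1, 2], ![2, 2]] : Fin 4 → Fin 2 → Fin 3) =
      !![1, 0, 0, 1; 0, 1, 0, 0; 0, 0, 1, 0; 0, 0, 0, 1] := by
    refine Matrix.ext fun r c => ?_
    rw [Matrix.submatrix_apply, hentry, he]
    fin_cases r <;> fin_cases c <;>
      simp [el_val, Matrix.transvection, Matrix.single_apply, Matrix.one_apply, funext_iff, Fin.forall_fin_two]
  rw [hM, Matrix.rank_of_isUnit, Fintype.card_fin] at hsub
  · exact hsub
  refine IsUnit.of_mul_eq_one !![1, 0, 0, -1; 0, 1, 0, 0; 0, 0, 1, 0; 0, 0, 0, 1] ?_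
  ext r c
  fin_cases r <;> fin_cases c <;> simp [Matrix.mul_apply, Fin.sum_univ_four]

theorem swap_rank (h2 : (2 : F) = 0) {y : GL (Fin 2 → Fin 3) F} (hy : y ∈ W 3 2 F) (hyy : y * y = 1)
    {σ : Equiv.Perm (Fin 2)} (hσ : Moves y σ) (hne : σ 0 ≠ 0) : ((y : Op 3 2 F) - 1).rank ≤ 3 := by
  obtain ⟨σ', a, p, rfl, hp⟩ := exists_factor hy
  obtain rfl : σ' = σ := Moves.unique (le_refl 3) ⟨a, wreath_conj_slot hp σ'⟩ hσ
  obtain rfl : σ' = Equiv.swap 0 1 := Equiv.ext fun l => by
    have h0 : σ' 0 = 1 := by omega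
    have h1 : σ' 1 = 0 := by
      have := σ'.injective.ne (show (1 : Fin 2) ≠ 0 by decide)
      rw [h0] at this
      omega
    fin_cases l <;> simp [h0, h1]
  set τ : Equiv.Perm (Fin 2) := Equiv.swap 0 1 with hτ
  set P : GL (Fin 2 → Fin 3) F := perm τ with hP
  have hp' : p = slotGL 0 (a 0) * slotGL 1 (a 1) := Units.ext (by
    rw [hp, Units.val_mul, slotGL_val, slotGL_val, slot_def, slot_def, pureMat_mul]
    congr 1
    funext l
    fin_cases l <;> simp)
  set A := a 0
  set q := a 1 * A with hq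
  set s : GL (Fin 2 → Fin 3) F := slotGL 1 A with hs
  have hP0 : P * slotGL 0 A = s * P := by
    have := perm_conj_slot (F := F) τ 0 A
    rw [hτ, Equiv.swap_apply_left, ← hτ, ← hP, mul_inv_eq_iff_eq_mul] at this
    exact this
  have hy' : P * p = s * (P * slotGL 1 q) * s⁻¹ := by
    rw [hp', ← mul_assoc, hP0, hq, map_mul, ← hs]
    group
  have hsq : P * slotGL 1 q * (P * slotGL 1 q) = 1 := by
    rw [hy'] at hyy
    calc P * slotGL 1 q * (P * slotGL 1 q) = s⁻¹ * (s * (P * slotGL 1 q) * s⁻¹ * (s * (P * slotGL 1 q) * s⁻¹)) * s := by group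
      _ = 1 := by rw [hyy]; group
  have hPP : P * P = 1 := Units.ext (by
    rw [hP, Units.val_mul, perm_val, CfsgLib.Aschbacher.Orth.permMat_mul_permMat, hτ, Equiv.swap_mul_self,
      CfsgLib.Aschbacher.Orth.permMat_one, Units.val_one])
  have hPq : P * slotGL 1 q = slotGL 0 q * P := by
    have := perm_conj_slot (F := F) τ 1 q
    rwa [hτ, Equiv.swap_apply_right, ← hτ, ← hP, mul_inv_eq_iff_eq_mul] at this
  have h01 : slotGL (0 : Fin 2) q * slotGL 1 q = 1 := by
    have e := hsq
    conv_lhs at e => arg 1; rw [hPq]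
    rw [mul_assoc, ← mul_assoc P P, hPP, one_mul] at e
    exact e
  have hcen : ∀ {u v : Fin 3} (huv : u ≠ v), Commute q (el huv (1 : F)) := fun {u v} huv => by
    have c : Commute (slotGL (1 : Fin 2) q) (slotGL 1 (el huv (1 : F))) := by
      rw [show slotGL (1 : Fin 2) q = (slotGL 0 q)⁻¹ from eq_inv_of_mul_eq_one_right h01]
      exact (slotGL_comm (by decide) _ _).inv_left
    exact slotGL_inj (t := 1) 1 (by simpa only [← map_mul] using c.eq)
  obtain ⟨c, hc⟩ := scalar_of_el (by decide : 0 < 3) hcen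
  have hq1 : q = 1 := by
    have e := congrFun (congrFun (congrArg (fun z : GL (Fin 2 → Fin 3) F => (z : Op 3 2 F)) h01) (fun _ => 0)) (fun _ => 0)
    simp only [Units.val_mul, slotGL_val, slot_def, pureMat_mul, Units.val_one, Matrix.one_apply_eq] at e
    simp [pureMat, Fin.prod_univ_two, hc] at e
    have h1 : (c - 1) * (c - 1) = 0 := by linear_combination e + (1 - c) * h2
    exact Units.ext (by rw [hc, sub_eq_zero.1 (mul_self_eq_zero.1 h1), one_smul, Units.val_one])
  rw [hy', hq1, map_one, mul_one, conj_sub_one]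
  refine ((Matrix.rank_mul_le_left _ _).trans (Matrix.rank_mul_le_right _ _)).trans ?_
  let J := {r : Fin 2 → Fin 3 // r 1 < r 0}
  let L : Matrix (Fin 2 → Fin 3) J F := Matrix.of fun r j => if r = j.1 ∨ r = j.1 ∘ τ then 1 else 0
  have hfac : (P : Op 3 2 F) - 1 = L * Lᵀ := by
    refine Matrix.ext fun r c => ?_
    rw [Matrix.sub_apply, Matrix.mul_apply, hP, perm_val, permMat, Matrix.of_apply, Matrix.one_apply]
    have hττ : ∀ v : Fin 2 → Fin 3, (v ∘ τ) ∘ τ = v := fun v => funext fun l => by simp [hτ]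
    have hτ0 : τ 0 = 1 := Equiv.swap_apply_left 0 1
    have hτ1 : τ 1 = 0 := Equiv.swap_apply_right 0 1
    rcases lt_trichotomy (r 1) (r 0) with h | h | h
    · rw [Finset.sum_eq_single (⟨r, h⟩ : J)]
      · have hne : r ≠ r ∘ τ := fun e => by
          have := congrFun e 0
          simp [hτ0] at this
          omega
        simp only [L, Matrix.transpose_apply, Matrix.of_apply, true_or, if_true, one_mul]
        by_cases h1 : c = r
        · subst h1
          rw [if_neg hne, if_pos rfl, if_pos (Or.inl rfl)]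
          linear_combination (-1 : F) * h2
        · by_cases h3 : c = r ∘ τ <;> simp [h1, h3, Ne.symm h1, Ne.symm hne, hne]
      · intro z _ hz
        have : ¬(r = z.1 ∨ r = z.1 ∘ τ) := by
          rintro (e | e)
          · exact hz (Subtype.ext e.symm)
          · have := z.2
            rw [e] at h
            try simp [hτ0, hτ1] at h
            omega
        simp [L, this]
      · simp
    · have hrr : r ∘ τ = r := funext fun l => by fin_cases l <;> simp [hτ0, hτ1, h]
      rw [Finset.sum_eq_zero fun z _ => by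
        have : ¬(r = z.1 ∨ r = z.1 ∘ τ) := by
          rintro (e | e) <;>
          · have := z.2
            rw [e] at h
            try simp [hτ0, hτ1] at h
            omega
        simp [L, this]]
      rw [hrr]
      by_cases h1 : c = r
      · simp [h1]
      · simp [h1, Ne.symm h1]
    · rw [Finset.sum_eq_single (⟨r ∘ τ, by simpa [hτ0, hτ1] using h⟩ : J)]
      · have hne : r ≠ r ∘ τ := fun e => by
          have := congrFun e 0
          simp [hτ0] at this
          omega
        simp only [L, Matrix.transpose_apply, Matrix.of_apply, hττ, or_true, if_true, one_mul]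
        by_cases h1 : c = r
        · subst h1
          rw [if_neg hne, if_pos rfl, if_pos (Or.inr rfl)]
          linear_combination (-1 : F) * h2
        · by_cases h3 : c = r ∘ τ <;> simp [h1, h3, Ne.symm h1, Ne.symm hne, hne]
      · intro z _ hz
        have : ¬(r = z.1 ∨ r = z.1 ∘ τ) := by
          rintro (e | e)
          · have := z.2
            rw [e] at h
            omega
          · exact hz (Subtype.ext (by show z.1 = r ∘ τ; rw [e, hττ]))
        simp [L, this]
      · simp
  rw [hfac]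
  refine (Matrix.rank_mul_le_left _ _).trans ((Matrix.rank_le_card_width _).trans ?_)
  decide

/-- characteristic two -/
theorem Good.le_W_even (hm : 3 ≤ m) (IH : HP m t F) (h2 : (2 : F) = 0) (hH : Good H) : H ≤ W m (t + 2) F := by
  intro g hg
  haveI : NeZero m := ⟨by omega⟩
  let p₀ : Fin m := ⟨0, by omega⟩
  let p₁ : Fin m := ⟨1, by omega⟩
  let p₂ : Fin m := ⟨2, by omega⟩
  have h01 : p₀ ≠ p₁ := by simp [p₀, p₁, Fin.ext_iff]
  have h02 : p₀ ≠ p₂ := by simp [p₀, p₂, Fin.ext_iff]
  have h12 : p₁ ≠ p₂ := by simp [p₁, p₂, Fin.ext_iff]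
  set x := slotGL (0 : Fin (t + 2)) (el h01 (1 : F))
  refine hH.mapW (g := g) hm IH (by rwa [cj_self hg]) (x := x) (isRoot_el _ h01) ?_
  by_contra hdW
  set d := g * x * g⁻¹
  have hd : HRoot H d := ⟨x, g, isRoot_el _ h01, hg, rfl⟩
  set E := el h02 (1 : F) with hE
  have hEt : Transv E := ⟨1, p₀, p₂, h02, by simp [hE]⟩
  obtain ⟨CE, hEC⟩ : ∃ y, ¬ Commute E y := ns_of_ne (by omega) h02 (by simp [hE, el_val, Matrix.transvection, h02])
  by_cases hm4 : 4 ≤ m
  · let p₃ : Fin m := ⟨3, by omega⟩
    have h13 : p₁ ≠ p₃ := by simp [p₁, p₃, Fin.ext_iff]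
    have h03 : p₀ ≠ p₃ := by simp [p₀, p₃, Fin.ext_iff]
    have h23 : p₂ ≠ p₃ := by simp [p₂, p₃, Fin.ext_iff]
    set X := el h02 (1 : F) * el h13 1 with hXd
    have hXX : X * X = 1 := by
      have hc : el h13 (1 : F) * el h02 1 = el h02 1 * el h13 1 := Units.ext (by
        simp only [Units.val_mul, el_val, Matrix.transvection, mul_add, add_mul, mul_one, one_mul,
          Matrix.single_mul_single_of_ne _ _ _ _ h03.symm, Matrix.single_mul_single_of_ne _ _ _ _ h12.symm]
        abel)
      rw [hXd, mul_assoc, ← mul_assoc (el h13 1), hc, mul_assoc, el_mul, ← mul_assoc, el_mul,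
        show (1 : F) + 1 = 0 by linear_combination h2, el_zero, el_zero, one_mul]
    obtain ⟨CX, hXC⟩ : ∃ y, ¬ Commute X y := ns_of_ne (by omega) h02 (by
      simp [hXd, el_val, Matrix.transvection, mul_add, add_mul, Matrix.single_mul_single_of_ne _ _ _ _ h12.symm, h02,
        Matrix.one_apply, Matrix.single_apply, h01.symm, h23.symm])
    let i : Fin (t + 2) := 0
    set w := slotGL i X with hw
    obtain ⟨u, hu, hu'⟩ := exists_fixed_of_sq (by omega) h2 hXX
    have hX1 : X ≠ 1 := fun e => hXC (e ▸ Commute.one_left _)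
    have hwc : Cent H w := fun g' hg' hc' => hH.cent_slot hm IH i hX1 hu hu' hg' hc'
    have hwr : ¬ IsRoot w := fun h => by
      obtain ⟨l, Z, hZ, e⟩ := h.slot_form
      obtain rfl : l = i := by
        by_contra hne
        have := (touch_mul (q := (1 : GL (Fin (t + 2) → Fin m) F)) (l := i) (off_one i) hXC).1
        rw [mul_one, ← hw, e] at this
        exact not_touch.2 (off_slot hne Z) this
      exact not_transv_double hm4 h02 h13 h01 h23 h12 h03 (slotGL_inj _ e ▸ hZ)
    have hwH : w ∈ H := by rw [hw, hXd, map_mul]; exact mul_mem (hH.el_mem i h02 1) (hH.el_mem i h13 1)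
    obtain ⟨z, -, hzW, hzz, hz1, hzw, hzd, hcases⟩ := hH.split hm IH h2 hd hwH (slotGL_mem_W _ _)
      (by rw [hw, ← map_mul, hXX, map_one]) hwr hwc
    rcases hcases with ⟨hdz, -⟩ | ⟨l, R, hR, hRw, hzv, h, hh, e⟩
    · obtain ⟨σ, hσ⟩ := exists_moves hzW
      have hi : σ i = i := by
        have := hσ.mem_supp_self hzw (l := i) (by simpa [hw] using (touch_mul (off_one i) hXC).1)
        by_contra hne
        exact not_touch.2 (off_slot (Ne.symm hne) X) this
      exact hH.caseA hm IH h2 hd hdW hzW hzz hz1 hzd hdz hσ hi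
    · rcases eq_or_ne i l with rfl | hil
      · rw [hw, ← map_mul] at hzv
        rw [hzv] at hzz hz1 hzd
        have hv : X * R * (X * R) = 1 := slotGL_inj i (by rw [map_mul, map_one]; exact hzz)
        obtain ⟨u', hu₁, hu₂⟩ := exists_fixed_of_sq (by omega) h2 hv
        exact hdW (hH.cent_slot hm IH i (fun e => hz1 (by rw [e, map_one])) hu₁ hu₂ (hd.mem hH) hzd.symm)
      · obtain ⟨A, B, -, hA, -, -, hAB, hAR, hBR, -⟩ := hR.frame hm
        have esz : slotGL l A * z = w * slotGL l (A * R) := by
          rw [hzv, hw, ← mul_assoc, (slotGL_comm hil.symm A X).eq, mul_assoc, ← map_mul]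
        have hz' : Commute z (slotGL l A) := by
          rw [hzv, hw]; exact (slotGL_comm hil X A).mul_left (hAR.symm.map (slotGL l))
        have hcard := hH.caseB hm IH h2 hd hdW hwc hzd hh e (isRoot_slot l hA) hz' (isRoot_slot l hR) (by
          rw [esz]
          exact hRw.mul_right ((hAR.symm.mul_right (Commute.refl R)).map (slotGL l)))
        have h1 : (supp w).card ≤ 1 := (card_supp_le (S := {i}) fun k hk => off_slot
          (by simpa [eq_comm] using hk) X).trans (le_of_eq (Finset.card_singleton i))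
        have h3 : 2 ≤ (supp (slotGL l A * z)).card := by
          rw [esz]
          refine le_trans (le_of_eq (Finset.card_pair hil).symm) (le_card_supp fun k hk => ?_)
          simp only [Finset.mem_insert, Finset.mem_singleton] at hk
          rcases hk with rfl | rfl
          · exact (touch_mul (off_slot hil.symm _) hXC).1
          · refine (touch_mul (y := B) (off_slot hil X) fun hc => hR.ne_one ?_).2
            have h' : A * B = B * A := by
              have := hc.eq
              rw [mul_assoc, hBR.eq.symm, ← mul_assoc, ← mul_assoc] at this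
              exact mul_right_cancel this
            rw [← hAB, h']; group
        omega
  have hEt2 := hEt.sq h2
  by_cases ht : 1 ≤ t
  · let i : Fin (t + 2) := ⟨0, by omega⟩
    let j : Fin (t + 2) := ⟨1, by omega⟩
    let k : Fin (t + 2) := ⟨2, by omega⟩
    have hij : i ≠ j := by simp [i, j, Fin.ext_iff]
    have hik : i ≠ k := by simp [i, k, Fin.ext_iff]
    have hjk : j ≠ k := by simp [j, k, Fin.ext_iff]
    set w := slotGL i E * (slotGL j E * slotGL k E) with hw
    have hwc : Cent H w := hH.cent_three hm IH h2 hij hik hjk hEt hEt hEt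
    have ti : Touch w i := (touch_mul ((off_slot hij.symm E).mul (off_slot hik.symm E)) hEC).1
    have tj : Touch w j := by
      rw [hw, (slotGL_comm hjk E E).eq, ← mul_assoc]
      exact (touch_mul ((off_slot hij E).mul (off_slot hjk.symm E)) hEC).2
    have tk : Touch w k := by
      rw [hw, ← mul_assoc]
      exact (touch_mul ((off_slot hik E).mul (off_slot hjk E)) hEC).2
    have hoff : ∀ l, l ≠ i → l ≠ j → l ≠ k → Off w l := fun l a b c =>
      (off_slot a.symm E).mul ((off_slot b.symm E).mul (off_slot c.symm E))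
    have hwr : ¬ IsRoot w := fun h => by
      obtain ⟨l, Z, -, e⟩ := h.slot_form
      rw [e] at ti tj
      rcases eq_or_ne l i with rfl | hne
      · exact not_touch.2 (off_slot hij Z) tj
      · exact not_touch.2 (off_slot hne Z) ti
    have hwH : w ∈ H := mul_mem (hH.el_mem i h02 1) (mul_mem (hH.el_mem j h02 1) (hH.el_mem k h02 1))
    have hww : w * w = 1 := by
      have hq : slotGL j E * slotGL k E * (slotGL j E * slotGL k E) = 1 := by
        rw [(slotGL_comm hjk.symm E E).mul_mul_mul_comm, ← map_mul, ← map_mul, hEt2, map_one, map_one, one_mul]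
      rw [hw, (((off_slot hij.symm E).mul (off_slot hik.symm E)) E).mul_mul_mul_comm, ← map_mul, hEt2, map_one, hq,
        one_mul]
    have hwW : w ∈ W m (t + 2) F :=
      mul_mem (slotGL_mem_W _ _) (mul_mem (slotGL_mem_W _ _) (slotGL_mem_W _ _))
    obtain ⟨z, -, hzW, hzz, hz1, hzw, hzd, hcases⟩ := hH.split hm IH h2 hd hwH hwW hww hwr hwc
    have h3w : 3 ≤ (supp w).card := by
      refine le_trans (le_of_eq (show 3 = ({i, j, k} : Finset (Fin (t + 2))).card by
        rw [Finset.card_insert_of_notMem (by simp [hij, hik]), Finset.card_pair hjk])) (le_card_supp fun l hl => ?_)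
      simp only [Finset.mem_insert, Finset.mem_singleton] at hl
      rcases hl with rfl | rfl | rfl <;> assumption
    rcases hcases with ⟨hdz, -⟩ | ⟨l, R, hR, hRw, hzv, h, hh, e⟩
    · obtain ⟨σ, hσ⟩ := exists_moves hzW
      have hmap : ∀ {l}, Touch w l → σ l = i ∨ σ l = j ∨ σ l = k := fun {l} hl => by
        have := hσ.mem_supp_self hzw hl
        by_contra hno
        push Not at hno
        exact not_touch.2 (hoff _ hno.1 hno.2.1 hno.2.2) this
      have hinv := hσ.invol hm hzz
      obtain ⟨l, hl⟩ : ∃ l, σ l = l := by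
        by_contra hno
        push Not at hno
        rcases hmap ti with e | e | e
        · exact hno i e
        · have e' : σ j = i := by rw [← e, hinv]
          rcases hmap tk with f | f | f
          · exact hjk.symm (σ.injective (f.trans e'.symm))
          · exact hik.symm (σ.injective (f.trans e.symm))
          · exact hno k f
        · have e' : σ k = i := by rw [← e, hinv]
          rcases hmap tj with f | f | f
          · exact hjk (σ.injective (f.trans e'.symm))
          · exact hno j f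
          · exact hij.symm (σ.injective (f.trans e.symm))
      exact hH.caseA hm IH h2 hd hdW hzW hzz hz1 hzd hdz hσ hl
    · -- remove a factor of `w`
      have hcnt : ∀ {p : Fin (t + 2)} {q : GL (Fin (t + 2) → Fin m) F} {S : Finset (Fin (t + 2))},
          l ≠ p → w = slotGL p E * q → Off q p → S.card ≤ 2 → (∀ k', k' ∉ S → Off (q * slotGL l R) k') → False := by
        intro p q S hlp hwq hqp hS hS'
        have esz : slotGL p E * z = q * slotGL l R := by
          rw [hzv, hwq, ← mul_assoc, ← mul_assoc, ← map_mul, hEt2, map_one, one_mul]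
        have hz' : Commute z (slotGL p E) := by
          rw [hzv, hwq]; exact ((Commute.refl _).mul_left (hqp E)).mul_left (slotGL_comm hlp R E)
        have hcard := hH.caseB hm IH h2 hd hdW hwc hzd hh e (isRoot_slot p hEt) hz' (isRoot_slot p hEt) (by
          rw [esz]; exact ((hqp E).symm).mul_right (slotGL_comm hlp.symm E R))
        have := card_supp_le hS'
        rw [← esz] at this
        omega
      have hwi : w = slotGL i E * (slotGL j E * slotGL k E) := hw
      have hwj : w = slotGL j E * (slotGL i E * slotGL k E) := by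
        rw [hwi, ← mul_assoc, (slotGL_comm hij E E).eq, mul_assoc]
      by_cases hli : l = i
      · refine hcnt (p := j) (S := {i, k}) (hli ▸ hij) hwj ((off_slot hij E).mul (off_slot hjk.symm E))
          Finset.card_le_two fun k' hk' => ?_
        simp only [Finset.mem_insert, Finset.mem_singleton, not_or] at hk'
        exact ((off_slot (Ne.symm hk'.1) E).mul (off_slot (Ne.symm hk'.2) E)).mul
          (off_slot (hli ▸ Ne.symm hk'.1) R)
      by_cases hlS : l = j ∨ l = k
      · refine hcnt (p := i) (S := {j, k}) hli hwi ((off_slot hij.symm E).mul (off_slot hik.symm E))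
          Finset.card_le_two fun k' hk' => ?_
        simp only [Finset.mem_insert, Finset.mem_singleton, not_or] at hk'
        refine ((off_slot (Ne.symm hk'.1) E).mul (off_slot (Ne.symm hk'.2) E)).mul (off_slot ?_ R)
        rcases hlS with rfl | rfl
        · exact Ne.symm hk'.1
        · exact Ne.symm hk'.2
      push Not at hlS
      obtain ⟨A, B, -, hA, -, -, hAB, hAR, hBR, -⟩ := hR.frame hm
      have hwl : Off w l := hoff l hli hlS.1 hlS.2
      have esz : slotGL l A * z = w * slotGL l (A * R) := by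
        rw [hzv, ← mul_assoc, ← (hwl A).eq, mul_assoc, map_mul]
      have hz' : Commute z (slotGL l A) := by
        rw [hzv]; exact (hwl A).mul_left (hAR.symm.map (slotGL l))
      have hcard := hH.caseB hm IH h2 hd hdW hwc hzd hh e (isRoot_slot l hA) hz' (isRoot_slot l hR) (by
        rw [esz]
        exact hRw.mul_right ((hAR.symm.mul_right (Commute.refl R)).map (slotGL l)))
      have h4 : 4 ≤ (supp (slotGL l A * z)).card := by
        rw [esz]
        refine le_trans (le_of_eq (show 4 = ({l, i, j, k} : Finset (Fin (t + 2))).card by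
          rw [Finset.card_insert_of_notMem (by simp [hli, hlS.1, hlS.2]),
            Finset.card_insert_of_notMem (by simp [hij, hik]), Finset.card_pair hjk])) (le_card_supp fun p hp => ?_)
        simp only [Finset.mem_insert, Finset.mem_singleton] at hp
        rcases eq_or_ne p l with rfl | hpl
        · refine (touch_mul (y := B) hwl fun hc => hR.ne_one ?_).2
          have h' : A * B = B * A := by
            have := hc.eq
            rw [mul_assoc, hBR.eq.symm, ← mul_assoc, ← mul_assoc] at this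
            exact mul_right_cancel this
          rw [← hAB, h']; group
        · obtain ⟨y, hy⟩ : Touch w p := by
            rcases hp with rfl | rfl | rfl | rfl
            · exact absurd rfl hpl
            · exact ti
            · exact tj
            · exact tk
          refine ⟨y, fun hc => hy ?_⟩
          have := hc.mul_left (slotGL_comm (Ne.symm hpl) (A * R) y).inv_left
          rwa [mul_inv_cancel_right] at this
      have h5 : (supp w).card ≤ 3 :=
        (card_supp_le (S := {i, j, k}) fun p hp => by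
          simp only [Finset.mem_insert, Finset.mem_singleton, not_or] at hp
          exact hoff p hp.1 hp.2.1 hp.2.2).trans Finset.card_le_three
      omega
  -- two slots, three dimensions
  obtain rfl : t = 0 := by omega
  obtain rfl : m = 3 := by omega
  set i : Fin 2 := 0 with hi
  set j : Fin 2 := 1 with hj
  have hij : i ≠ j := by decide
  set w := slotGL i E * slotGL j E with hw
  have hwc : Cent H w := fun g' hg' hc' => hH.cent_two hm IH h2 hij hEt hEt hg' hc'
  have ti : Touch w i := (touch_mul (off_slot hij.symm E) hEC).1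
  have tj : Touch w j := (touch_mul (off_slot hij E) hEC).2
  have hwr : ¬ IsRoot w := Good.not_root_two hm hij hEC hEC
  have hwH : w ∈ H := mul_mem (hH.el_mem i h02 1) (hH.el_mem j h02 1)
  have hww : w * w = 1 := by
    rw [hw, (slotGL_comm hij.symm E E).mul_mul_mul_comm, ← map_mul, ← map_mul, hEt2, map_one, map_one, one_mul]
  have hwW : w ∈ W 3 2 F := mul_mem (slotGL_mem_W _ _) (slotGL_mem_W _ _)
  obtain ⟨z, -, hzW, hzz, hz1, hzw, hzd, hcases⟩ := hH.split hm IH h2 hd hwH hwW hww hwr hwc
  rcases hcases with ⟨hdz, h, hh, e⟩ | ⟨l, R, hR, hRw, hzv, h, hh, e⟩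
  · obtain ⟨σ, hσ⟩ := exists_moves hzW
    by_cases hfix : σ i = i
    · exact hH.caseA hm IH h2 hd hdW hzW hzz hz1 hzd hdz hσ hfix
    · have hy : Moves (w * z) σ := by
        have := ((moves_slot (t := 1) i E).mul (moves_slot (t := 1) j E)).mul hσ
        rwa [one_mul, one_mul, ← hw] at this
      have hyy : w * z * (w * z) = 1 := by rw [hzw.mul_mul_mul_comm, hww, hzz, one_mul]
      have h1 := swap_rank h2 (mul_mem hwW hzW) hyy hy hfix
      rw [← e, conj_sub_one] at h1
      have h2' : ((w : Op 3 2 F) - 1).rank ≤ 3 := by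
        refine le_trans ?_ h1
        have e2 : (w : Op 3 2 F) - 1 = ((h⁻¹ : GL (Fin 2 → Fin 3) F) : Op 3 2 F) *
            ((h : Op 3 2 F) * ((w : Op 3 2 F) - 1) * ((h⁻¹ : GL (Fin 2 → Fin 3) F) : Op 3 2 F)) * (h : Op 3 2 F) := by
          simp only [← mul_assoc, ← Units.val_mul, inv_mul_cancel, Units.val_one, one_mul]
          rw [mul_assoc, ← Units.val_mul, inv_mul_cancel, Units.val_one, mul_one]
        conv_lhs => rw [e2]
        exact (Matrix.rank_mul_le_left _ _).trans (Matrix.rank_mul_le_right _ _)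
      have h3 : 4 ≤ ((w : Op 3 2 F) - 1).rank := rank_pair h2
      omega
  · have hcnt : ∀ {p q : Fin 2}, p ≠ q → l = q → w = slotGL p E * slotGL q E → False := by
      intro p q hpq hlq hwq
      subst hlq
      have esz : slotGL p E * z = slotGL l E * slotGL l R := by
        rw [hzv, hwq, ← mul_assoc, ← mul_assoc, ← map_mul, hEt2, map_one, one_mul]
      have hz' : Commute z (slotGL p E) := by
        rw [hzv, hwq]
        exact ((Commute.refl _).mul_left (slotGL_comm hpq.symm E E)).mul_left (slotGL_comm hpq.symm R E)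
      have hcard := hH.caseB hm IH h2 hd hdW hwc hzd hh e (isRoot_slot p hEt) hz' (isRoot_slot p hEt) (by
        rw [esz]; exact (slotGL_comm hpq E E).mul_right (slotGL_comm hpq E R))
      have h1 : (supp (slotGL p E * z)).card ≤ 1 := by
        rw [esz]
        exact (card_supp_le (S := {l}) fun k hk => (off_slot (by simpa [eq_comm] using hk) E).mul
          (off_slot (by simpa [eq_comm] using hk) R)).trans (le_of_eq (Finset.card_singleton l))
      have h3 : 2 ≤ (supp w).card := by
        exact le_trans (le_of_eq (Finset.card_pair hij).symm) (le_card_supp fun k hk => by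
          simp only [Finset.mem_insert, Finset.mem_singleton] at hk
          rcases hk with rfl | rfl <;> assumption)
      omega
    have hl : l = i ∨ l = j := by fin_cases l <;> simp [hi, hj]
    rcases hl with hl | hl
    · exact hcnt hij.symm hl (by rw [hw]; exact (slotGL_comm hij E E).eq)
    · exact hcnt hij hl hw

end CfsgLib.MaxSub.TPowSL
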