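import Cfsg.Agent.Lib.MaxSub.TPowSL.Stab

/-!
An element carrying one group with scalar root coordinates to another and fixing the span of some coordinates
is a scalar matrix times one coefficient.
-/

set_option autoImplicit false
set_option linter.unusedSectionVars false

namespace CfsgLib.MaxSub.TPowSL

open Matrix
open scoped MatrixGroups

variable {m : ℕ} {F R : Type*} [Field F] [Ring R] [Algebra F R]

theorem IsSc.sum {ι : Type*} (s : Finset ι) {f : ι → R} (h : ∀ i ∈ s, IsSc F (f i)) : IsSc F (∑ i ∈ s, f i) := by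
  classical
  induction s using Finset.induction_on with
  | empty => exact ⟨0, by simp⟩
  | insert i s hi ih =>
    obtain ⟨c, hc⟩ := h i (Finset.mem_insert_self _ _)
    obtain ⟨d, hd⟩ := ih fun j hj => h j (Finset.mem_insert_of_mem hj)
    exact ⟨c + d, by rw [Finset.sum_insert hi, hc, hd, add_smul]⟩

variable [Nontrivial R] [Finite R]

theorem smul_one_eq_zero {c : F} (h : c • (1 : R) = 0) : c = 0 :=
  (smul_eq_zero.1 h).resolve_right one_ne_zero

/-- a scalar product with a unit factor -/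
theorem eq_smul_inv {δ : Rˣ} {y : R} {s : F} (h : (δ : R) * y = s • 1) : y = s • ((δ⁻¹ : Rˣ) : R) := by
  have := congrArg (((δ⁻¹ : Rˣ) : R) * ·) h
  simpa [← mul_assoc] using this

theorem eq_smul_of_mul_inv {δ : Rˣ} {y : R} {r s : F} (hr : r ≠ 0) (h : y * (r • ((δ⁻¹ : Rˣ) : R)) = s • 1) :
    y = (s / r) • (δ : R) := by
  have := congrArg (· * (δ : R)) h
  simp only [mul_smul_comm, smul_mul_assoc, mul_assoc, Units.inv_mul, mul_one, one_mul] at this
  rw [div_eq_inv_mul, mul_smul, ← this, smul_smul, inv_mul_cancel₀ hr, one_smul]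

variable {G G' : Subgroup (Matrix (Fin m) (Fin m) R)ˣ} {g : (Matrix (Fin m) (Fin m) R)ˣ} {T : Finset (Fin m)}

theorem stab_inv (hz : ∀ a ∈ T, ∀ c, c ∉ T → (g : Matrix (Fin m) (Fin m) R) c a = 0) :
    ∀ a ∈ T, ∀ c, c ∉ T → ((g⁻¹ : (Matrix (Fin m) (Fin m) R)ˣ) : Matrix (Fin m) (Fin m) R) c a = 0 := by
  classical
  intro a ha c hc
  let S := {v : Fin m → R // ∀ x, x ∉ T → v x = 0}
  let f : S → S := fun v => ⟨(g : Matrix (Fin m) (Fin m) R) *ᵥ v.1, fun x hx => by
    rw [Matrix.mulVec, dotProduct]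
    refine Finset.sum_eq_zero fun y _ => ?_
    by_cases hy : y ∈ T
    · rw [hz y hy x hx, zero_mul]
    · rw [v.2 y hy, mul_zero]⟩
  have hinj : Function.Injective f := fun v w e => Subtype.ext (by
    have e' := congrArg (fun u => ((g⁻¹ : (Matrix (Fin m) (Fin m) R)ˣ) : Matrix (Fin m) (Fin m) R) *ᵥ u.1) e
    simpa [f, Matrix.mulVec_mulVec] using e')
  obtain ⟨v, hv⟩ := (Finite.injective_iff_surjective.1 hinj) ⟨Pi.single a 1, fun x hx =>
    Pi.single_eq_of_ne (fun e => hx (by rw [e]; exact ha)) _⟩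
  have e' := congrArg (fun u : S => ((g⁻¹ : (Matrix (Fin m) (Fin m) R)ˣ) : Matrix (Fin m) (Fin m) R) *ᵥ u.1) hv
  simp only [f, Matrix.mulVec_mulVec, ← Units.val_mul, inv_mul_cancel, Units.val_one, Matrix.one_mulVec] at e'
  have h := v.2 c hc
  rw [e'] at h
  simpa [Matrix.mulVec, dotProduct, Pi.single_apply] using h

variable (hm : 3 ≤ m) (hG' : Gd F G') (hG : Gd F G) (hmap : ∀ x ∈ G, g * x * g⁻¹ ∈ G')

include hG hmap in
theorem conj_el {a b : Fin m} (hab : a ≠ b) :
    ∃ u ∈ G', (u : Matrix (Fin m) (Fin m) R) = 1 + Matrix.of fun c d =>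
      (g : Matrix (Fin m) (Fin m) R) c a * ((g⁻¹ : (Matrix (Fin m) (Fin m) R)ˣ) : Matrix (Fin m) (Fin m) R) b d := by
  obtain ⟨k, hk, ek, -⟩ := hG.exists_el hab
  refine ⟨g * k * g⁻¹, hmap k hk, ?_⟩
  rw [Units.val_mul, Units.val_mul, ek, mul_add, add_mul, mul_one, ← Units.val_mul, mul_inv_cancel, Units.val_one]
  congr 1
  ext c d
  rw [Matrix.mul_apply, Finset.sum_eq_single b]
  · simp
  · intro e _ he; simp [he]
  · simp

include hm hG hG' hmap in
theorem stab_products (hz : ∀ a ∈ T, ∀ c, c ∉ T → (g : Matrix (Fin m) (Fin m) R) c a = 0) {a b : Fin m}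
    (ha : a ∈ T) (hb : b ∉ T) (c d : Fin m) :
    IsSc F ((g : Matrix (Fin m) (Fin m) R) c a * ((g⁻¹ : (Matrix (Fin m) (Fin m) R)ˣ) : Matrix (Fin m) (Fin m) R) b d) := by
  obtain ⟨u, hu, eu⟩ := conj_el hG hmap (a := a) (b := b) (by rintro rfl; exact hb ha)
  refine hG'.corner hm (T := T) hu eu (fun x y h => ?_) c d
  rw [Matrix.of_apply] at h
  constructor
  · by_contra hx
    exact h (by rw [hz a ha x hx, zero_mul])
  · intro hy
    exact h (by rw [stab_inv hz y hy b hb, mul_zero])

include hm hG hG' hmap in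
theorem stab_blocks (hTn : T.Nonempty) (hTc : ∃ b, b ∉ T)
    (hz : ∀ a ∈ T, ∀ c, c ∉ T → (g : Matrix (Fin m) (Fin m) R) c a = 0) :
    ∃ δ : Rˣ, (∀ a ∈ T, ∀ c ∈ T, ∃ s : F, (g : Matrix (Fin m) (Fin m) R) c a = s • (δ : R)) ∧
      ∀ b, b ∉ T → ∀ d, d ∉ T → ∃ s : F,
        ((g⁻¹ : (Matrix (Fin m) (Fin m) R)ˣ) : Matrix (Fin m) (Fin m) R) b d = s • ((δ⁻¹ : Rˣ) : R) := by
  classical
  set Gi := ((g⁻¹ : (Matrix (Fin m) (Fin m) R)ˣ) : Matrix (Fin m) (Fin m) R) with hGi
  set Gm := (g : Matrix (Fin m) (Fin m) R) with hGm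
  obtain ⟨a₀, ha₀⟩ := hTn
  obtain ⟨b₀, hb₀⟩ := hTc
  have hinv : Gi * Gm = 1 := by rw [hGi, hGm, ← Units.val_mul, inv_mul_cancel, Units.val_one]
  obtain ⟨c, hcT, d, hdT, hne⟩ : ∃ c ∈ T, ∃ d, d ∉ T ∧ Gm c a₀ * Gi b₀ d ≠ 0 := by
    by_contra hno
    push Not at hno
    have h0 : ∀ c, Gm c a₀ = 0 := fun c => by
      by_cases hc : c ∈ T
      · calc Gm c a₀ = Gm c a₀ * (Gi * Gm) b₀ b₀ := by rw [hinv, Matrix.one_apply_eq, mul_one]
          _ = 0 := by
            rw [Matrix.mul_apply, Finset.mul_sum]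
            refine Finset.sum_eq_zero fun d _ => ?_
            by_cases hd : d ∈ T
            · rw [hGi, stab_inv hz d hd b₀ hb₀, zero_mul, mul_zero]
            · rw [← mul_assoc, hno c hc d hd, zero_mul]
      · exact hz a₀ ha₀ c hc
    have := congrFun (congrFun hinv a₀) a₀
    rw [Matrix.mul_apply, Finset.sum_eq_zero fun d _ => by rw [h0 d, mul_zero], Matrix.one_apply_eq] at this
    exact zero_ne_one this
  obtain ⟨s, hs⟩ := stab_products hm hG' hG hmap hz ha₀ hb₀ c d
  change Gm c a₀ * Gi b₀ d = s • 1 at hs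
  have hs0 : s ≠ 0 := fun e => hne (by rw [hs, e, zero_smul])
  have hu : IsUnit (Gm c a₀) := IsUnit.of_mul_eq_one (s⁻¹ • Gi b₀ d) (by
    rw [mul_smul_comm, hs, smul_smul, inv_mul_cancel₀ hs0, one_smul])
  obtain ⟨δ, hδ⟩ := hu
  have hQ : Gi b₀ d = s • ((δ⁻¹ : Rˣ) : R) := eq_smul_inv (by rw [hδ]; exact hs)
  refine ⟨δ, fun a ha x hx => ?_, fun b hb y hy => ?_⟩
  · obtain ⟨r, hr⟩ := stab_products hm hG' hG hmap hz ha hb₀ x d
    change Gm x a * Gi b₀ d = r • 1 at hr
    rw [hQ] at hr
    exact ⟨r / s, eq_smul_of_mul_inv hs0 hr⟩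
  · obtain ⟨r, hr⟩ := stab_products hm hG' hG hmap hz ha₀ hb c y
    exact ⟨r, eq_smul_inv (by rw [hδ]; exact hr)⟩

include hm hG hG' hmap in
/-- an element of the stabiliser of the coordinates in `T` -/
theorem kron_of_stab (hmap' : ∀ x ∈ G', g⁻¹ * x * g ∈ G) (hTn : T.Nonempty) (hTc : ∃ b, b ∉ T)
    (hz : ∀ a ∈ T, ∀ c, c ∉ T → (g : Matrix (Fin m) (Fin m) R) c a = 0) :
    ∃ (γ : GL (Fin m) F) (δ : Rˣ), ∀ a b,
      (g : Matrix (Fin m) (Fin m) R) a b = (γ : Matrix (Fin m) (Fin m) F) a b • (δ : R) := by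
  classical
  set Gi := ((g⁻¹ : (Matrix (Fin m) (Fin m) R)ˣ) : Matrix (Fin m) (Fin m) R) with hGi
  set Gm := (g : Matrix (Fin m) (Fin m) R) with hGm
  have hzi := stab_inv hz
  obtain ⟨δ, hA, hD⟩ := stab_blocks hm hG' hG hmap hTn hTc hz
  obtain ⟨δ', hA', hD'⟩ := stab_blocks (g := g⁻¹) hm hG hG' (fun x hx => by simpa using hmap' x hx) hTn hTc hzi
  rw [← hGi] at hA' hzi hD
  rw [← hGm] at hA
  simp only [inv_inv] at hD'
  rw [← hGm] at hD'
  obtain ⟨a₀, ha₀⟩ := hTn
  -- the two coefficients are inverse up to a scalar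
  choose! sA hsA using hA
  choose! sA' hsA' using hA'
  have hinv : Gi * Gm = 1 := by rw [hGi, hGm, ← Units.val_mul, inv_mul_cancel, Units.val_one]
  have hinv' : Gm * Gi = 1 := by rw [hGi, hGm, ← Units.val_mul, mul_inv_cancel, Units.val_one]
  obtain ⟨r, hr⟩ : IsSc F ((δ' : R) * δ) := by
    have h1 := congrFun (congrFun hinv a₀) a₀
    rw [Matrix.one_apply_eq, Matrix.mul_apply] at h1
    have e : ∑ c, Gi a₀ c * Gm c a₀ =
        (∑ c ∈ T, sA' c a₀ * sA a₀ c) • ((δ' : R) * δ) := by
      rw [Finset.sum_smul, ← Finset.sum_subset (Finset.subset_univ T) fun c _ hc => by rw [hz a₀ ha₀ c hc, mul_zero]]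
      refine Finset.sum_congr rfl fun c hc => ?_
      rw [hsA' c hc a₀ ha₀, hsA a₀ ha₀ c hc, smul_mul_smul_comm]
    rw [e] at h1
    exact ⟨(∑ c ∈ T, sA' c a₀ * sA a₀ c)⁻¹, by
      rw [← h1, smul_smul, inv_mul_cancel₀ (fun e0 => by rw [e0, zero_smul] at h1; exact zero_ne_one h1), one_smul]⟩
  have hr0 : r ≠ 0 := fun e => by
    rw [e, zero_smul] at hr
    exact ((δ'.isUnit.mul δ.isUnit).ne_zero) hr
  have hδ' : ((δ'⁻¹ : Rˣ) : R) = r⁻¹ • (δ : R) := by
    have := congrArg (fun x => r⁻¹ • (((δ'⁻¹ : Rˣ) : R) * x)) hr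
    simp only [← mul_assoc, Units.inv_mul, one_mul, mul_smul_comm, mul_one, smul_smul, inv_mul_cancel₀ hr0,
      one_smul] at this
    exact this.symm
  have hδi : (δ' : R) = r • ((δ⁻¹ : Rˣ) : R) := by
    have := congrArg (· * ((δ⁻¹ : Rˣ) : R)) hr
    simpa [mul_assoc, smul_mul_assoc] using this
  -- the diagonal blocks
  have hG0 : ∀ a c, (a ∈ T ↔ c ∈ T) → ∃ s : F, Gm c a = s • (δ : R) := fun a c h => by
    by_cases ha : a ∈ T
    · exact ⟨_, hsA a ha c (h.1 ha)⟩
    · obtain ⟨s, hs⟩ := hD' c (fun hc => ha (h.2 hc)) a ha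
      exact ⟨s * r⁻¹, by rw [hs, hδ', smul_smul]⟩
  have hI0 : ∀ a c, (a ∈ T ↔ c ∈ T) → ∃ s : F, Gi c a = s • ((δ⁻¹ : Rˣ) : R) := fun a c h => by
    by_cases ha : a ∈ T
    · exact ⟨sA' a c * r, by rw [hsA' a ha c (h.1 ha), hδi, smul_smul]⟩
    · exact hD c (fun hc => ha (h.2 hc)) a ha
  choose! γ0 hγ0 using hG0
  choose! ρ0 hρ0 using hI0
  -- one more transvection
  have key : ∀ x y, x ≠ y → (x ∈ T ↔ y ∈ T) → ∀ c ∈ T, ∀ d, d ∉ T → IsSc F (Gm c x * Gi y d) := by
    intro x y hxy hside c hc d hd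
    obtain ⟨u, hu, eu⟩ := conj_el hG hmap hxy
    let v : Fin m → F := fun z => if (z ∈ T ↔ x ∈ T) then γ0 x z else 0
    let w : Fin m → F := fun z => if (z ∈ T ↔ y ∈ T) then ρ0 z y else 0
    have hwv : w ⬝ᵥ v = 0 := smul_one_eq_zero (R := R) (by
      have h1 := congrFun (congrFun hinv y) x
      rw [Matrix.one_apply_ne (Ne.symm hxy), Matrix.mul_apply] at h1
      rw [dotProduct, Finset.sum_smul, ← h1]
      refine Finset.sum_congr rfl fun z _ => ?_
      by_cases hzx : z ∈ T ↔ x ∈ T
      · have hzy : z ∈ T ↔ y ∈ T := hzx.trans hside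
        rw [hρ0 z y hzy, hγ0 x z hzx.symm, smul_mul_smul_comm, Units.inv_mul]
        simp [v, w, hzx, hside]
      · have : Gi y z * Gm z x = 0 := by
          by_cases hx : x ∈ T
          · rw [hz x hx z fun h => hzx (iff_of_true h hx), mul_zero]
          · have hzT : z ∈ T := by by_contra h; exact hzx (iff_of_false h hx)
            rw [hzi z hzT y fun h => hx (hside.2 h), zero_mul]
        rw [this]
        simp [v, hzx])
    obtain ⟨l, hl, el⟩ := hG'.sl (1 + Matrix.vecMulVec v w) (by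
      have := CfsgLib.MaxSub.det_tvMat v w hwv
      exact this)
    set A : Matrix (Fin m) (Fin m) R := up R (Matrix.vecMulVec v w) with hA1
    have hAA : A * A = 0 := by
      rw [hA1, ← map_mul]
      have : Matrix.vecMulVec v w * Matrix.vecMulVec v w = 0 := by
        ext p q
        rw [Matrix.mul_apply]
        calc ∑ z, Matrix.vecMulVec v w p z * Matrix.vecMulVec v w z q = v p * (w ⬝ᵥ v) * w q := by
              rw [dotProduct, Finset.mul_sum, Finset.sum_mul]
              exact Finset.sum_congr rfl fun z _ => by simp [Matrix.vecMulVec_apply]; ring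
          _ = 0 := by rw [hwv]; ring
      rw [this, map_zero]
    have el' : (l : Matrix (Fin m) (Fin m) R) = 1 + A := by rw [el, map_add, map_one]
    have eli : ((l⁻¹ : (Matrix (Fin m) (Fin m) R)ˣ) : Matrix (Fin m) (Fin m) R) = 1 - A :=
      Units.inv_eq_of_mul_eq_one_right (by rw [el', add_mul, one_mul, mul_sub, mul_one, hAA]; abel)
    set Z : Matrix (Fin m) (Fin m) R := Matrix.of fun p q => Gm p x * Gi y q with hZ
    set X : Matrix (Fin m) (Fin m) R := Matrix.of fun p q => if p ∈ T ∧ q ∉ T then Z p q else 0 with hX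
    have hsplit : Z = A + X := by
      refine Matrix.ext fun p q => ?_
      rw [Matrix.add_apply, hA1, up_apply, Matrix.vecMulVec_apply, hX, Matrix.of_apply, hZ, Matrix.of_apply]
      by_cases hpx : p ∈ T ↔ x ∈ T <;> by_cases hqy : q ∈ T ↔ y ∈ T
      · have : ¬ (p ∈ T ∧ q ∉ T) := fun h => h.2 (hqy.2 (hside.1 (hpx.1 h.1)))
        rw [if_neg this, add_zero, hγ0 x p hpx.symm, hρ0 q y hqy, smul_mul_smul_comm, Units.mul_inv]
        simp [v, w, hpx, hqy]
      · simp only [v, w, if_neg hqy, mul_zero, zero_smul, zero_add]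
        split_ifs with h
        · rfl
        · by_cases hp : p ∈ T
          · have hq : q ∈ T := by by_contra hq; exact h ⟨hp, hq⟩
            exact absurd (iff_of_true hq (hside.1 (hpx.1 hp))) hqy
          · have hy : y ∉ T := fun hy => hp (hpx.2 (hside.2 hy))
            have hq : q ∈ T := by by_contra hq; exact hqy (iff_of_false hq hy)
            rw [hzi q hq y hy, mul_zero]
      · simp only [v, w, if_neg hpx, zero_mul, zero_smul, zero_add]
        split_ifs with h
        · rfl
        · by_cases hx : x ∈ T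
          · rw [hz x hx p fun hp => hpx (iff_of_true hp hx), zero_mul]
          · have hp : p ∈ T := by by_contra hp; exact hpx (iff_of_false hp hx)
            have hq : q ∈ T := by by_contra hq; exact h ⟨hp, hq⟩
            rw [hzi q hq y fun hy => hx (hside.2 hy), mul_zero]
      · simp only [v, w, if_neg hpx, zero_mul, zero_smul, zero_add]
        split_ifs with h
        · rfl
        · by_cases hx : x ∈ T
          · rw [hz x hx p fun hp => hpx (iff_of_true hp hx), zero_mul]
          · have hy : y ∉ T := fun hy => hx (hside.2 hy)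
            have hq : q ∈ T := by by_contra hq; exact hqy (iff_of_false hq hy)
            rw [hzi q hq y hy, mul_zero]
    have hXA : X * A = 0 := by
      refine Matrix.ext fun p q => ?_
      rw [Matrix.mul_apply, Matrix.zero_apply]
      by_cases hx : x ∈ T
      · refine Finset.sum_eq_zero fun z _ => ?_
        by_cases hz' : z ∈ T
        · simp [hX, hz']
        · rw [hA1, up_apply, Matrix.vecMulVec_apply]
          simp [v, hz', hx]
      · have hy : y ∉ T := fun hy => hx (hside.2 hy)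
        by_cases hp : p ∈ T
        · calc ∑ z, X p z * A z q = ∑ z, (w z * v z) • (w q • (Gm p x * ((δ⁻¹ : Rˣ) : R))) := by
                refine Finset.sum_congr rfl fun z _ => ?_
                by_cases hz' : z ∈ T
                · simp [hX, hz', v, hx]
                · rw [hX, Matrix.of_apply, if_pos ⟨hp, hz'⟩, hZ, Matrix.of_apply, hρ0 z y (iff_of_false hz' hy),
                    hA1, up_apply, Matrix.vecMulVec_apply]
                  simp [v, w, hz', hx, hy, smul_smul]
                  ring_nf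
            _ = (w ⬝ᵥ v) • (w q • (Gm p x * ((δ⁻¹ : Rˣ) : R))) := by rw [dotProduct, Finset.sum_smul]
            _ = 0 := by rw [hwv, zero_smul]
        · exact Finset.sum_eq_zero fun z _ => by simp [hX, hp]
    have := hG'.corner hm (T := T) (mul_mem hu (inv_mem hl)) (X := X) (by
      rw [Units.val_mul, eu, eli]
      change (1 + Z) * (1 - A) = 1 + X
      rw [hsplit]
      simp only [add_mul, one_mul, mul_sub, mul_one, hAA, hXA]
      abel) (fun p q h => by
        by_contra hno
        exact h (by rw [hX, Matrix.of_apply, if_neg hno])) c d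
    simpa [hX, hZ, hc, hd] using this
  by_cases hC : ∀ b b', b ∉ T → b' ∉ T → b = b'
  · -- two coordinates in `T`
    obtain ⟨b₀, hb₀⟩ := hTc
    have hIall : ∀ a c, ∃ s : F, Gi c a = s • ((δ⁻¹ : Rˣ) : R) := by
      intro a c
      by_cases h : a ∈ T ↔ c ∈ T
      · exact ⟨_, hρ0 a c h⟩
      by_cases hc : c ∈ T
      · have ha : a ∉ T := fun ha => h (iff_of_true ha hc)
        obtain ⟨x, hx, hxc⟩ : ∃ x ∈ T, x ≠ c := by
          by_contra hno
          push Not at hno
          have := Finset.card_le_card (s := Finset.univ) (t := {c, b₀}) fun z _ => by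
            by_cases hz' : z ∈ T
            · simp [hno z hz']
            · simp [hC z b₀ hz' hb₀]
          have h2 : ({c, b₀} : Finset (Fin m)).card ≤ 2 := Finset.card_le_two
          simp at this
          omega
        obtain ⟨p, hp, hpx⟩ : ∃ p ∈ T, γ0 x p ≠ 0 := by
          by_contra hno
          push Not at hno
          have h1 := congrFun (congrFun hinv x) x
          rw [Matrix.one_apply_eq, Matrix.mul_apply, Finset.sum_eq_zero fun z _ => by
            by_cases hz' : z ∈ T
            · rw [hγ0 x z (iff_of_true hx hz'), hno z hz', zero_smul, mul_zero]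
            · rw [hz x hx z hz', mul_zero]] at h1
          exact zero_ne_one h1
        obtain ⟨s, hs⟩ := key x c hxc (iff_of_true hx hc) p hp a ha
        rw [hγ0 x p (iff_of_true hx hp), smul_mul_assoc] at hs
        refine ⟨s / γ0 x p, ?_⟩
        have h' : (δ : R) * Gi c a = (s / γ0 x p) • 1 := by
          rw [div_eq_inv_mul, mul_smul, ← hs, smul_smul, inv_mul_cancel₀ hpx, one_smul]
        exact eq_smul_inv h'
      · have ha : a ∈ T := by by_contra ha; exact h (iff_of_false ha hc)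
        exact ⟨0, by rw [hzi a ha c hc, zero_smul]⟩
    choose ρ hρ using hIall
    have hu : IsUnit (Matrix.of fun c a => ρ a c : Matrix (Fin m) (Fin m) F) := by
      rw [← Matrix.mulVec_injective_iff_isUnit]
      intro v v' hvv
      funext z
      have hzero : Gi *ᵥ (fun q => (v q - v' q) • (δ : R)) = 0 := by
        funext c
        rw [Matrix.mulVec, dotProduct, Pi.zero_apply]
        have hc : ∑ q, ρ q c * (v q - v' q) = 0 := by
          have := congrFun hvv c
          simp only [Matrix.mulVec, dotProduct, Matrix.of_apply] at this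
          simp only [mul_sub, Finset.sum_sub_distrib, this, sub_self]
        calc ∑ q, Gi c q * ((v q - v' q) • (δ : R)) = ∑ q, (ρ q c * (v q - v' q)) • (1 : R) :=
              Finset.sum_congr rfl fun q _ => by rw [hρ q c, smul_mul_smul_comm, Units.inv_mul]
          _ = 0 := by rw [← Finset.sum_smul, hc, zero_smul]
      have h1 := congrFun (congrArg (Gm *ᵥ ·) hzero) z
      simp only [Matrix.mulVec_mulVec, hinv', Matrix.one_mulVec, Matrix.mulVec_zero, Pi.zero_apply] at h1
      rcases smul_eq_zero.1 h1 with h2 | h2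
      · exact sub_eq_zero.1 h2
      · exact absurd h2 δ.ne_zero
    refine ⟨hu.unit⁻¹, δ, fun a b => ?_⟩
    have e : Gm = Matrix.of fun a b => ((hu.unit⁻¹ : GL (Fin m) F) : Matrix (Fin m) (Fin m) F) a b • (δ : R) := by
      refine left_inv_eq_right_inv (a := Gi) hinv' ?_
      refine Matrix.ext fun p q => ?_
      rw [Matrix.mul_apply]
      calc ∑ z, Gi p z * (((hu.unit⁻¹ : GL (Fin m) F) : Matrix (Fin m) (Fin m) F) z q • (δ : R))
          = (((hu.unit * hu.unit⁻¹ : GL (Fin m) F) : Matrix (Fin m) (Fin m) F) p q) • (1 : R) := by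
            rw [Units.val_mul, Matrix.mul_apply, Finset.sum_smul]
            exact Finset.sum_congr rfl fun z _ => by
              rw [hρ z p, smul_mul_smul_comm, Units.inv_mul, IsUnit.unit_spec, Matrix.of_apply]
        _ = (1 : Matrix (Fin m) (Fin m) R) p q := by
            rw [mul_inv_cancel, Units.val_one, Matrix.one_apply, Matrix.one_apply]
            split <;> simp
    exact congrFun (congrFun e a) b
  · push Not at hC
    obtain ⟨b₁, b₂, hb₁, hb₂, hbne⟩ := hC
    have hGall : ∀ a c, ∃ s : F, Gm c a = s • (δ : R) := by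
      intro a c
      by_cases h : a ∈ T ↔ c ∈ T
      · exact ⟨_, hγ0 a c h⟩
      by_cases ha : a ∈ T
      · have hc : c ∉ T := fun hc => h (iff_of_true ha hc)
        exact ⟨0, by rw [hz a ha c hc, zero_smul]⟩
      · have hc : c ∈ T := by by_contra hc; exact h (iff_of_false ha hc)
        obtain ⟨y, hy, hya⟩ : ∃ y, y ∉ T ∧ a ≠ y := by
          rcases eq_or_ne a b₁ with rfl | hab
          · exact ⟨b₂, hb₂, hbne⟩
          · exact ⟨b₁, hb₁, hab⟩
        obtain ⟨q, hq, hyq⟩ : ∃ q, q ∉ T ∧ ρ0 q y ≠ 0 := by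
          by_contra hno
          push Not at hno
          have h1 := congrFun (congrFun hinv y) y
          rw [Matrix.one_apply_eq, Matrix.mul_apply, Finset.sum_eq_zero fun z _ => by
            by_cases hz' : z ∈ T
            · rw [hzi z hz' y hy, zero_mul]
            · rw [hρ0 z y (iff_of_false hz' hy), hno z hz', zero_smul, zero_mul]] at h1
          exact zero_ne_one h1
        obtain ⟨s, hs⟩ := key a y hya (iff_of_false ha hy) c hc q hq
        rw [hρ0 q y (iff_of_false hq hy)] at hs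
        exact ⟨s / ρ0 q y, eq_smul_of_mul_inv hyq hs⟩
    choose γ hγ using hGall
    have hu : IsUnit (Matrix.of fun c a => γ a c : Matrix (Fin m) (Fin m) F) := by
      rw [← Matrix.mulVec_injective_iff_isUnit]
      intro v v' hvv
      funext z
      have hzero : Gm *ᵥ (fun q => (v q - v' q) • ((δ⁻¹ : Rˣ) : R)) = 0 := by
        funext c
        rw [Matrix.mulVec, dotProduct, Pi.zero_apply]
        have hc' : ∑ q, γ q c * (v q - v' q) = 0 := by
          have := congrFun hvv c
          simp only [Matrix.mulVec, dotProduct, Matrix.of_apply] at this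
          simp only [mul_sub, Finset.sum_sub_distrib, this, sub_self]
        calc ∑ q, Gm c q * ((v q - v' q) • ((δ⁻¹ : Rˣ) : R)) = ∑ q, (γ q c * (v q - v' q)) • (1 : R) :=
              Finset.sum_congr rfl fun q _ => by rw [hγ q c, smul_mul_smul_comm, Units.mul_inv]
          _ = 0 := by rw [← Finset.sum_smul, hc', zero_smul]
      have h1 := congrFun (congrArg (Gi *ᵥ ·) hzero) z
      simp only [Matrix.mulVec_mulVec, hinv, Matrix.one_mulVec, Matrix.mulVec_zero, Pi.zero_apply] at h1
      rcases smul_eq_zero.1 h1 with h2 | h2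
      · exact sub_eq_zero.1 h2
      · exact absurd h2 (δ⁻¹).ne_zero
    exact ⟨hu.unit, δ, fun a b => by rw [IsUnit.unit_spec, Matrix.of_apply]; exact hγ b a⟩

end CfsgLib.MaxSub.TPowSL
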