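import Cfsg.Agent.Lib.MaxSub.TPowSL.Blocks
import Cfsg.Agent.Lib.MaxSub.TPowSL.Exact

/-!
Groups containing the special linear groups of the slots, with scalar root coordinates.
-/

set_option autoImplicit false
set_option linter.unusedSectionVars false

namespace CfsgLib.MaxSub.TPowSL

open Matrix CfsgLib.Aschbacher
open CfsgLib.Aschbacher.Orth (permMat_one permMat_mul_permMat exists_factorisation)
open scoped MatrixGroups

variable {m t : ℕ} {F : Type*} [Field F]

/-- the special linear groups of the slots are there, root coordinates are scalar -/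
def Good (H : Subgroup (GL (Fin (t + 1) → Fin m) F)) : Prop :=
  ∀ i : Fin (t + 1), Gd (R := Op m t F) F (H.map (blkU i))

/-- the conjugate subgroup -/
def cj (g : GL (Fin t → Fin m) F) (H : Subgroup (GL (Fin t → Fin m) F)) : Subgroup (GL (Fin t → Fin m) F) :=
  H.map (MulAut.conj g).toMonoidHom

theorem mem_cj {g x : GL (Fin t → Fin m) F} {H : Subgroup (GL (Fin t → Fin m) F)} :
    x ∈ cj g H ↔ g⁻¹ * x * g ∈ H := by
  refine ⟨?_, fun h => ⟨_, h, ?_⟩⟩
  · rintro ⟨y, hy, rfl⟩
    show g⁻¹ * (g * y * g⁻¹) * g ∈ H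
    simpa [mul_assoc] using hy
  · show g * (g⁻¹ * x * g) * g⁻¹ = x
    group

theorem cj_mul (g h : GL (Fin t → Fin m) F) (H : Subgroup (GL (Fin t → Fin m) F)) : cj g (cj h H) = cj (g * h) H := by
  ext x
  simp [mem_cj, mul_assoc]

theorem cj_one (H : Subgroup (GL (Fin t → Fin m) F)) : cj 1 H = H := by
  ext x; simp [mem_cj]

theorem cj_self {g : GL (Fin t → Fin m) F} {H : Subgroup (GL (Fin t → Fin m) F)} (hg : g ∈ H) : cj g H = H := by
  ext x
  rw [mem_cj]
  exact ⟨fun h => by simpa [mul_assoc] using mul_mem (mul_mem hg h) (inv_mem hg),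
    fun h => mul_mem (mul_mem (inv_mem hg) h) hg⟩

theorem blk_slot_up (i : Fin (t + 1)) (x : Matrix (Fin m) (Fin m) F) : blk i (slot i x) = up (Op m t F) x := by
  refine Matrix.ext fun a b => ?_
  rw [blk_slot_self, up_apply, Matrix.of_apply]

theorem Good.sl {H : Subgroup (GL (Fin (t + 1) → Fin m) F)} (h : Good H) (i : Fin (t + 1)) (x : GL (Fin m) F)
    (hx : (x : Matrix (Fin m) (Fin m) F).det = 1) : slotGL i x ∈ H := by
  obtain ⟨u, ⟨y, hy, rfl⟩, e⟩ := (h i).sl _ hx
  have : y = slotGL i x := Units.ext (blk_injective i (by rw [slotGL_val, blk_slot_up]; exact e))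
  exact this ▸ hy

theorem Good.el_mem {H : Subgroup (GL (Fin (t + 1) → Fin m) F)} (h : Good H) (i : Fin (t + 1)) {a b : Fin m}
    (hab : a ≠ b) (c : F) : slotGL i (el hab c) ∈ H := h.sl i _ (det_el hab c)

theorem blk_of_cen {i : Fin (t + 1)} {Y : Op m (t + 1) F}
    (h : ∀ a b : Fin m, Commute Y (slot i (Matrix.single a b (1 : F)))) (z : Fin m) :
    blk i Y = Matrix.diagonal fun _ => blk i Y z z := by
  have hsingle : ∀ a b : Fin m, up (Op m t F) (Matrix.single a b (1 : F)) = Matrix.single a b 1 := fun a b => by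
    refine Matrix.ext fun x y => ?_
    rw [up_apply, Matrix.single_apply, Matrix.single_apply]
    split <;> simp
  refine Matrix.ext fun x y => ?_
  have e := congrArg (blk i) (h y z).eq
  rw [blk_mul, blk_mul, blk_slot_up, hsingle] at e
  have e' := congrFun (congrFun e x) z
  rcases eq_or_ne x y with rfl | hxy
  · rw [Matrix.mul_single_apply_same, Matrix.single_mul_apply_same] at e'
    simpa [Matrix.diagonal_apply_eq] using e'
  · rw [Matrix.mul_single_apply_same, Matrix.single_mul_apply_of_ne _ _ _ _ _ hxy] at e'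
    rw [Matrix.diagonal_apply_ne _ hxy]
    simpa using e'

theorem Good.scal_op {H : Subgroup (GL (Fin (t + 1) → Fin m) F)} (hH : Good H) (i : Fin (t + 1)) {a b : Fin m}
    (hab : a ≠ b) {Y : Op m (t + 1) F} (hY : ∀ x y : Fin m, Commute Y (slot i (Matrix.single x y (1 : F))))
    {g : GL (Fin (t + 1) → Fin m) F} (hg : g ∈ H)
    (e : (g : Op m (t + 1) F) = 1 + slot i (Matrix.single a b 1) * Y) : ∃ c : F, Y = c • 1 := by
  have hd := blk_of_cen hY a
  obtain ⟨c, hc⟩ := (hH i).scal a b hab (blk i Y a a) (blkU i g) ⟨g, hg, rfl⟩ (by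
    rw [blkU_val, e, blk_add, blk_one, blk_mul, blk_slot_up, hd, Matrix.diagonal_apply_eq]
    congr 1
    refine Matrix.ext fun x y => ?_
    rw [Matrix.mul_diagonal, up_apply, Matrix.single_apply, Matrix.single_apply]
    split <;> simp)
  refine ⟨c, blk_injective i ?_⟩
  rw [hd, hc, blk_smul, blk_one]
  refine Matrix.ext fun x y => ?_
  rcases eq_or_ne x y with rfl | h <;> simp [*]

/-- transfer along a twist of the blocks -/
theorem Gd.twist {R S : Type*} [Ring R] [Algebra F R] [Ring S] [Algebra F S] (hm : 3 ≤ m)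
    {G : Subgroup (Matrix (Fin m) (Fin m) R)ˣ} {G' : Subgroup (Matrix (Fin m) (Fin m) S)ˣ} (hG : Gd F G)
    (φ : R →ₐ[F] S) (ψ : S →ₐ[F] R) (hψ : ∀ x, φ (ψ x) = x) (y : GL (Fin m) F)
    (hfw : ∀ g ∈ G, ∃ g' ∈ G', (g' : Matrix (Fin m) (Fin m) S) =
      up S (y : Matrix (Fin m) (Fin m) F) * (g : Matrix (Fin m) (Fin m) R).map φ *
        up S ((y⁻¹ : GL (Fin m) F) : Matrix (Fin m) (Fin m) F))
    (hbw : ∀ g' ∈ G', ∃ g ∈ G, (g : Matrix (Fin m) (Fin m) R) =
      up R ((y⁻¹ : GL (Fin m) F) : Matrix (Fin m) (Fin m) F) * (g' : Matrix (Fin m) (Fin m) S).map ψ *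
        up R (y : Matrix (Fin m) (Fin m) F)) : Gd F G' where
  sl x hx := by
    obtain ⟨g, hg, e⟩ := hG.sl (((y⁻¹ : GL (Fin m) F) : Matrix (Fin m) (Fin m) F) * x * (y : Matrix (Fin m) (Fin m) F))
      (by rw [Matrix.det_mul, Matrix.det_mul, mul_right_comm, ← Matrix.det_mul, ← Units.val_mul, inv_mul_cancel,
        Units.val_one, Matrix.det_one, one_mul, hx])
    obtain ⟨g', hg', e'⟩ := hfw g hg
    refine ⟨g', hg', ?_⟩
    rw [e', e]
    have : (up R (((y⁻¹ : GL (Fin m) F) : Matrix (Fin m) (Fin m) F) * x * (y : Matrix (Fin m) (Fin m) F))).map φ =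
        up S (((y⁻¹ : GL (Fin m) F) : Matrix (Fin m) (Fin m) F) * x * (y : Matrix (Fin m) (Fin m) F)) :=
      Matrix.ext fun a b => by rw [Matrix.map_apply, up_apply, up_apply, map_smul, map_one]
    rw [this, ← map_mul, ← map_mul]
    congr 1
    simp only [← mul_assoc, ← Units.val_mul, mul_inv_cancel, Units.val_one, one_mul]
    rw [mul_assoc, ← Units.val_mul, mul_inv_cancel, Units.val_one, mul_one]
  scal a b hab β g' hg' e := by
    obtain ⟨g, hg, eg⟩ := hbw g' hg'
    obtain ⟨c, hca, hcb⟩ : ∃ c, c ≠ a ∧ c ≠ b := by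
      by_contra hno
      push Not at hno
      have := Finset.card_le_card (s := Finset.univ) (t := {a, b}) fun c _ => by
        rcases eq_or_ne c a with rfl | hc
        · simp
        · simp [hno c hc]
      have h2 : ({a, b} : Finset (Fin m)).card ≤ 2 := Finset.card_le_two
      simp at this
      omega
    set d : F := (y : Matrix (Fin m) (Fin m) F).det with hd
    have hd0 : d ≠ 0 := by
      have := congrArg Matrix.det (show (y : Matrix (Fin m) (Fin m) F) * ((y⁻¹ : GL (Fin m) F) : Matrix (Fin m) (Fin m) F) = 1 by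
        rw [← Units.val_mul, mul_inv_cancel, Units.val_one])
      rw [Matrix.det_mul, Matrix.det_one] at this
      exact left_ne_zero_of_mul_eq_one this
    let D : Matrix (Fin m) (Fin m) F := Matrix.diagonal (Function.update 1 c d⁻¹)
    let D' : Matrix (Fin m) (Fin m) F := Matrix.diagonal (Function.update 1 c d)
    have hDD' : D * D' = 1 := by
      rw [Matrix.diagonal_mul_diagonal]
      convert Matrix.diagonal_one with z
      rcases eq_or_ne z c with rfl | hz
      · simp [hd0]
      · simp [hz]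
    have hdet : (D * (y : Matrix (Fin m) (Fin m) F)).det = 1 := by
      rw [Matrix.det_mul, Matrix.det_diagonal, Finset.prod_update_of_mem (Finset.mem_univ c)]
      simp [← hd, hd0]
    obtain ⟨k, hk, ek⟩ := hG.sl _ hdet
    have eki : ((k⁻¹ : (Matrix (Fin m) (Fin m) R)ˣ) : Matrix (Fin m) (Fin m) R) =
        up R (((y⁻¹ : GL (Fin m) F) : Matrix (Fin m) (Fin m) F) * D') := by
      refine Units.inv_eq_of_mul_eq_one_right ?_
      rw [ek, ← map_mul]
      have : D * (y : Matrix (Fin m) (Fin m) F) * (((y⁻¹ : GL (Fin m) F) : Matrix (Fin m) (Fin m) F) * D') = 1 := by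
        rw [mul_assoc, ← mul_assoc (y : Matrix (Fin m) (Fin m) F), ← Units.val_mul, mul_inv_cancel, Units.val_one,
          one_mul, hDD']
      rw [this, map_one]
    obtain ⟨r, hr⟩ := hG.scal a b hab (ψ β) (k * g * k⁻¹) (mul_mem (mul_mem hk hg) (inv_mem hk)) (by
      rw [Units.val_mul, Units.val_mul, ek, eki, eg, e]
      have emap : (1 + Matrix.single a b β).map ψ = 1 + Matrix.single a b (ψ β) := by
        refine Matrix.ext fun p q => ?_
        rw [Matrix.map_apply, Matrix.add_apply, Matrix.add_apply, map_add, Matrix.single_apply, Matrix.single_apply,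
          Matrix.one_apply, Matrix.one_apply]
        congr 1
        · split <;> simp
        · split <;> simp
      rw [emap]
      have e1 : up R (D * (y : Matrix (Fin m) (Fin m) F)) *
          up R ((y⁻¹ : GL (Fin m) F) : Matrix (Fin m) (Fin m) F) = up R D := by
        rw [← map_mul, mul_assoc, ← Units.val_mul, mul_inv_cancel, Units.val_one, mul_one]
      have e2 : up R (y : Matrix (Fin m) (Fin m) F) * up R (((y⁻¹ : GL (Fin m) F) : Matrix (Fin m) (Fin m) F) * D') = up R D' := by
        rw [← map_mul, ← mul_assoc, ← Units.val_mul, mul_inv_cancel, Units.val_one, one_mul]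
      rw [← mul_assoc, ← mul_assoc, e1, mul_assoc _ (up R (y : Matrix (Fin m) (Fin m) F)), e2, mul_add, add_mul, mul_one,
        ← map_mul, hDD', map_one]
      congr 1
      refine Matrix.ext fun p q => ?_
      have hupD : up R D = Matrix.diagonal fun z => Function.update (1 : Fin m → F) c d⁻¹ z • (1 : R) :=
        Matrix.ext fun u v => by
          rw [up_apply]
          simp only [D, D', Matrix.diagonal_apply]
          split <;> simp
      have hupD' : up R D' = Matrix.diagonal fun z => Function.update (1 : Fin m → F) c d z • (1 : R) :=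
        Matrix.ext fun u v => by
          rw [up_apply]
          simp only [D, D', Matrix.diagonal_apply]
          split <;> simp
      rw [hupD, hupD', Matrix.mul_diagonal, Matrix.diagonal_mul, Matrix.single_apply]
      split_ifs with h
      · obtain ⟨rfl, rfl⟩ := h
        simp [Ne.symm hca, Ne.symm hcb]
      · simp)
    exact ⟨r, by rw [← hψ β, hr, map_smul, map_one]⟩

/-- conjugation of operators by a unit -/
def conjOp (δ : GL (Fin t → Fin m) F) : Op m t F →ₐ[F] Op m t F where
  toFun x := (δ : Op m t F) * x * ((δ⁻¹ : GL (Fin t → Fin m) F) : Op m t F)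
  map_one' := by rw [mul_one, ← Units.val_mul, mul_inv_cancel, Units.val_one]
  map_mul' x y := by
    simp only [← mul_assoc]
    rw [mul_assoc ((δ : Op m t F) * x) ((δ⁻¹ : GL (Fin t → Fin m) F) : Op m t F), ← Units.val_mul, inv_mul_cancel,
      Units.val_one, mul_one]
  map_zero' := by rw [mul_zero, zero_mul]
  map_add' x y := by rw [mul_add, add_mul]
  commutes' c := by
    rw [Algebra.algebraMap_eq_smul_one, mul_smul_comm, mul_one, smul_mul_assoc, ← Units.val_mul, mul_inv_cancel,
      Units.val_one]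

theorem conjOp_apply (δ : GL (Fin t → Fin m) F) (x : Op m t F) :
    conjOp δ x = (δ : Op m t F) * x * ((δ⁻¹ : GL (Fin t → Fin m) F) : Op m t F) := rfl

theorem conjOp_inv (δ : GL (Fin t → Fin m) F) (x : Op m t F) : conjOp δ (conjOp δ⁻¹ x) = x := by
  simp only [conjOp_apply, inv_inv, ← mul_assoc, ← Units.val_mul, mul_inv_cancel, Units.val_one, one_mul]
  rw [mul_assoc, ← Units.val_mul, mul_inv_cancel, Units.val_one, mul_one]

theorem blk_diag (i : Fin (t + 1)) (f : Fin (t + 1) → GL (Fin m) F) :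
    blk i (pureMat fun j => ((f j : GL (Fin m) F) : Matrix (Fin m) (Fin m) F)) =
      up (Op m t F) (f i : Matrix (Fin m) (Fin m) F) *
        Matrix.diagonal fun _ => pureMat fun j => ((f (i.succAbove j) : GL (Fin m) F) : Matrix (Fin m) (Fin m) F) := by
  refine Matrix.ext fun a b => ?_
  rw [blk_pureMat, Matrix.mul_diagonal, up_apply, smul_mul_assoc, one_mul]

theorem Good.cj_pure (hm : 3 ≤ m) {H : Subgroup (GL (Fin (t + 1) → Fin m) F)} (hH : Good H)
    {n : GL (Fin (t + 1) → Fin m) F} {f : Fin (t + 1) → GL (Fin m) F}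
    (e : (n : Op m (t + 1) F) = pureMat fun j => ((f j : GL (Fin m) F) : Matrix (Fin m) (Fin m) F)) :
    Good (cj n H) := by
  intro i
  let δ : GL (Fin t → Fin m) F := ⟨pureMat fun j => ((f (i.succAbove j) : GL (Fin m) F) : Matrix (Fin m) (Fin m) F),
    pureMat fun j => (((f (i.succAbove j))⁻¹ : GL (Fin m) F) : Matrix (Fin m) (Fin m) F),
    by rw [pureMat_mul, ← pureMat_one]; congr 1; funext j; rw [← Units.val_mul, mul_inv_cancel, Units.val_one],
    by rw [pureMat_mul, ← pureMat_one]; congr 1; funext j; rw [← Units.val_mul, inv_mul_cancel, Units.val_one]⟩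
  have hdiag : ∀ (u : GL (Fin t → Fin m) F) (X : Matrix (Fin m) (Fin m) (Op m t F)),
      (Matrix.diagonal fun _ => (u : Op m t F)) * X * (Matrix.diagonal fun _ => ((u⁻¹ : GL (Fin t → Fin m) F) : Op m t F)) =
        X.map (conjOp u) := fun u X => Matrix.ext fun a b => by
    rw [Matrix.mul_diagonal, Matrix.diagonal_mul, Matrix.map_apply, conjOp_apply]
  have hcomm : ∀ (u : Op m t F) (x : Matrix (Fin m) (Fin m) F),
      (Matrix.diagonal fun _ => u) * up (Op m t F) x = up (Op m t F) x * Matrix.diagonal fun _ => u := fun u x =>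
    Matrix.ext fun a b => by
      rw [Matrix.mul_diagonal, Matrix.diagonal_mul, up_apply, mul_smul_comm, mul_one, smul_mul_assoc, one_mul]
  have en : blk i (n : Op m (t + 1) F) =
      up (Op m t F) (f i : Matrix (Fin m) (Fin m) F) * Matrix.diagonal fun _ => (δ : Op m t F) := by rw [e, blk_diag]
  have eni : blk i ((n⁻¹ : GL (Fin (t + 1) → Fin m) F) : Op m (t + 1) F) =
      up (Op m t F) (((f i)⁻¹ : GL (Fin m) F) : Matrix (Fin m) (Fin m) F) *
        Matrix.diagonal fun _ => ((δ⁻¹ : GL (Fin t → Fin m) F) : Op m t F) := by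
    refine Eq.trans ?_ (blk_diag i (fun j => (f j)⁻¹))
    congr 1
    refine Units.inv_eq_of_mul_eq_one_right ?_
    rw [e, pureMat_mul, ← pureMat_one]
    congr 1; funext j; rw [← Units.val_mul, mul_inv_cancel, Units.val_one]
  refine Gd.twist hm (hH i) (conjOp δ) (conjOp δ⁻¹) (conjOp_inv δ) (f i) ?_ ?_
  · rintro _ ⟨g, hg, rfl⟩
    refine ⟨blkU i (n * g * n⁻¹), ⟨_, ⟨g, hg, rfl⟩, rfl⟩, ?_⟩
    rw [blkU_val, Units.val_mul, Units.val_mul, blk_mul, blk_mul, en, eni, blkU_val, ← hdiag]
    simp only [mul_assoc]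
    rw [← hcomm ((δ⁻¹ : GL (Fin t → Fin m) F) : Op m t F)]
  · rintro _ ⟨g, hg, rfl⟩
    replace hg := mem_cj.1 hg
    refine ⟨blkU i (n⁻¹ * g * n), ⟨_, hg, rfl⟩, ?_⟩
    rw [blkU_val, Units.val_mul, Units.val_mul, blk_mul, blk_mul, en, eni, blkU_val, ← hdiag, inv_inv]
    simp only [mul_assoc]
    rw [← hcomm (δ : Op m t F)]

theorem Good.cj_perm (hm : 3 ≤ m) {H : Subgroup (GL (Fin (t + 1) → Fin m) F)} (hH : Good H)
    (σ : Equiv.Perm (Fin (t + 1))) : Good (cj (perm σ) H) := by
  intro i
  set j := σ.symm i with hj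
  -- the induced permutation of the other slots
  obtain ⟨τ, hτ⟩ : ∃ τ : Equiv.Perm (Fin t), ∀ l, σ (j.succAbove l) = i.succAbove (τ l) := by
    have h : ∀ l, ∃ r, σ (j.succAbove l) = i.succAbove r := fun l => by
      have : σ (j.succAbove l) ≠ i := fun e => Fin.succAbove_ne j l (σ.injective (by rw [e, hj, Equiv.apply_symm_apply]))
      obtain ⟨r, hr⟩ := Fin.exists_succAbove_eq this
      exact ⟨r, hr.symm⟩
    choose τ hτ using h
    have hinj : Function.Injective τ := fun l l' e => Fin.succAbove_right_injective (σ.injective (by rw [hτ, hτ, e]))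
    exact ⟨Equiv.ofBijective τ ⟨hinj, Finite.injective_iff_surjective.1 hinj⟩, hτ⟩
  have hσi : σ j = i := by rw [hj, Equiv.apply_symm_apply]
  have hins : ∀ (a : Fin m) (p : Fin t → Fin m),
      (Fin.insertNth i a p : Fin (t + 1) → Fin m) ∘ σ = Fin.insertNth j a (p ∘ τ) := fun a p => funext fun z => by
    rcases eq_or_ne z j with rfl | hz
    · rw [Function.comp_apply, hσi, Fin.insertNth_apply_same, Fin.insertNth_apply_same]
    · obtain ⟨l, rfl⟩ := Fin.exists_succAbove_eq hz
      rw [Function.comp_apply, hτ, Fin.insertNth_apply_succAbove, Fin.insertNth_apply_succAbove, Function.comp_apply]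
  have key : ∀ X : Op m (t + 1) F,
      blk i ((perm σ : GL (Fin (t + 1) → Fin m) F) * X * ((perm σ)⁻¹ : GL (Fin (t + 1) → Fin m) F) : Op m (t + 1) F) =
        (blk j X).map (conjOp (perm τ)) := fun X => by
    refine Matrix.ext fun a b => Matrix.ext fun p q => ?_
    rw [Matrix.map_apply, conjOp_apply]
    show ((permMat σ : Op m (t + 1) F) * X * (permMat σ.symm : Op m (t + 1) F) : Op m (t + 1) F) _ _ =
      ((permMat τ : Op m t F) * blk j X a b * (permMat τ.symm : Op m t F) : Op m t F) p q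
    rw [mul_permMat_apply, permMat_mul_apply, mul_permMat_apply, permMat_mul_apply, Equiv.symm_symm, Equiv.symm_symm,
      hins, hins, blk_apply]
  have hone : ∀ S : Type _, ∀ [Ring S] [Algebra F S] (X : Matrix (Fin m) (Fin m) S),
      up S ((1 : GL (Fin m) F) : Matrix (Fin m) (Fin m) F) * X * up S (((1 : GL (Fin m) F)⁻¹ : GL (Fin m) F) : Matrix (Fin m) (Fin m) F) = X := by
    intro S _ _ X
    rw [inv_one, Units.val_one, map_one, one_mul, mul_one]
  refine Gd.twist hm (hH j) (conjOp (perm τ)) (conjOp (perm τ)⁻¹) (conjOp_inv _) 1 ?_ ?_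
  · rintro _ ⟨g, hg, rfl⟩
    refine ⟨blkU i (perm σ * g * (perm σ)⁻¹), ⟨_, ⟨g, hg, rfl⟩, rfl⟩, ?_⟩
    rw [hone, blkU_val, Units.val_mul, Units.val_mul, key, blkU_val]
  · rintro _ ⟨g, hg, rfl⟩
    replace hg := mem_cj.1 hg
    refine ⟨blkU j ((perm σ)⁻¹ * g * perm σ), ⟨_, hg, rfl⟩, ?_⟩
    have h := key (((perm σ)⁻¹ * g * perm σ : GL (Fin (t + 1) → Fin m) F) : Op m (t + 1) F)
    rw [show ((perm σ : GL (Fin (t + 1) → Fin m) F) : Op m (t + 1) F) *
        (((perm σ)⁻¹ * g * perm σ : GL (Fin (t + 1) → Fin m) F) : Op m (t + 1) F) *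
        (((perm σ)⁻¹ : GL (Fin (t + 1) → Fin m) F) : Op m (t + 1) F) = (g : Op m (t + 1) F) by
      rw [← Units.val_mul, ← Units.val_mul]; congr 1; group] at h
    rw [blkU_val, inv_one, Units.val_one, map_one, one_mul, mul_one, blkU_val, h]
    refine Matrix.ext fun a b => ?_
    rw [Matrix.map_apply, Matrix.map_apply]
    simpa using (conjOp_inv (perm τ)⁻¹ _).symm

theorem Good.cj_wreath [Fintype F] (hm : 3 ≤ m) {H : Subgroup (GL (Fin (t + 1) → Fin m) F)} (hH : Good H)
    {n : GL (Fin (t + 1) → Fin m) F} (hn : n ∈ W m (t + 1) F) : Good (cj n H) := by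
  obtain ⟨σ, a, e⟩ := exists_factorisation hn
  have h : Good (cj ((perm σ)⁻¹ * n) H) := hH.cj_pure hm (f := a) (by
    rw [Units.val_mul, e, ← mul_assoc, ← perm_val, ← Units.val_mul, inv_mul_cancel, Units.val_one, one_mul])
  have := h.cj_perm hm σ
  rwa [cj_mul, mul_inv_cancel_left] at this

end CfsgLib.MaxSub.TPowSL
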