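import Cfsg.Agent.Lib.Geom.TwoTransvections
import Mathlib.FieldTheory.SplittingField.Construction
import Mathlib.LinearAlgebra.Matrix.Charpoly.Eigs

/-!
The group generated by two quadratic unipotents in odd characteristic: a p-group, or it has a central
involution congruent to `1` modulo `ND + DN`.
-/

set_option autoImplicit false
set_option linter.unusedSectionVars false
set_option linter.style.haveILetI false

namespace CfsgLib.MaxSub.TPowSL

open Matrix Polynomial
open scoped MatrixGroups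

variable {ι : Type} [Fintype ι] [DecidableEq ι] {F : Type*} [Field F]

section Words

variable {R : Type*} [Ring R] [Algebra F R] {N D : R}

theorem ndC_N (hN : N * N = 0) : N * (N * D + D * N) = (N * D + D * N) * N := by
  rw [mul_add, add_mul, ← mul_assoc N N, hN, zero_mul, zero_add, mul_assoc D N N, hN, mul_zero, add_zero, mul_assoc]

theorem ndC_D (hD : D * D = 0) : D * (N * D + D * N) = (N * D + D * N) * D := by
  rw [mul_add, add_mul, ← mul_assoc D D, hD, zero_mul, add_zero, mul_assoc N D D, hD, mul_zero, zero_add, mul_assoc]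

theorem nd_N (hN : N * N = 0) : N * D * N = (N * D + D * N) * N := by
  rw [add_mul, mul_assoc D N N, hN, mul_zero, add_zero]

theorem dn_D (hD : D * D = 0) : D * N * D = (N * D + D * N) * D := by
  rw [add_mul, mul_assoc N D D, hD, mul_zero, zero_add]

end Words

/-- the vectors killed by the words of length `k` in `N` and `D` -/
def killed (N D : Matrix ι ι F) : ℕ → Submodule F (ι → F)
  | 0 => ⊥
  | k + 1 => (killed N D k).comap N.mulVecLin ⊓ (killed N D k).comap D.mulVecLin

theorem mem_killed_succ {N D : Matrix ι ι F} {k : ℕ} {v : ι → F} :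
    v ∈ killed N D (k + 1) ↔ N *ᵥ v ∈ killed N D k ∧ D *ᵥ v ∈ killed N D k := Iff.rfl

theorem killed_mono (N D : Matrix ι ι F) : ∀ k, killed N D k ≤ killed N D (k + 1)
  | 0 => bot_le
  | k + 1 => fun _ hv => ⟨killed_mono N D k hv.1, killed_mono N D k hv.2⟩

theorem killed_top {N D : Matrix ι ι F} (hN : N * N = 0) (hD : D * D = 0) :
    ∀ (k : ℕ) (v : ι → F), ((N * D + D * N) ^ k) *ᵥ v = 0 → v ∈ killed N D (3 * k)
  | 0, v, hv => by
    rw [pow_zero, Matrix.one_mulVec] at hv
    exact hv ▸ zero_mem _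
  | k + 1, v, hv => by
    set C := N * D + D * N with hC
    have hNN : ∀ w, N *ᵥ (N *ᵥ w) = 0 := fun w => by rw [Matrix.mulVec_mulVec, hN, Matrix.zero_mulVec]
    have hDD : ∀ w, D *ᵥ (D *ᵥ w) = 0 := fun w => by rw [Matrix.mulVec_mulVec, hD, Matrix.zero_mulVec]
    have hk : ∀ M : Matrix ι ι F, Commute M C → (C * M) *ᵥ v ∈ killed N D (3 * k) := fun M hM => by
      refine killed_top hN hD k _ ?_
      rw [← hC, Matrix.mulVec_mulVec, ← mul_assoc, ← pow_succ, ((hM.pow_right (k + 1)).eq).symm, ← Matrix.mulVec_mulVec,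
        hv, Matrix.mulVec_zero]
    have h1 : N *ᵥ (D *ᵥ (N *ᵥ v)) ∈ killed N D (3 * k) := by
      rw [Matrix.mulVec_mulVec, Matrix.mulVec_mulVec, nd_N hN]
      exact hk N (ndC_N hN)
    have h2 : D *ᵥ (N *ᵥ (D *ᵥ v)) ∈ killed N D (3 * k) := by
      rw [Matrix.mulVec_mulVec, Matrix.mulVec_mulVec, dn_D hD]
      exact hk D (ndC_D hD)
    show v ∈ killed N D (3 * k + 3)
    refine mem_killed_succ.2 ⟨mem_killed_succ.2 ⟨?_, mem_killed_succ.2 ⟨h1, ?_⟩⟩,
      mem_killed_succ.2 ⟨mem_killed_succ.2 ⟨?_, h2⟩, ?_⟩⟩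
    · rw [hNN]; exact zero_mem _
    · rw [hDD]; exact zero_mem _
    · rw [hNN]; exact zero_mem _
    · rw [hDD]; exact zero_mem _

variable [Fintype F] {x d : GL ι F}

/-- quadratic unipotents with nilpotent `ND + DN` -/
theorem pgroup_of_nilpotent (p : ℕ) [Fact p.Prime] [CharP F p]
    (hN : ((x : Matrix ι ι F) - 1) * ((x : Matrix ι ι F) - 1) = 0)
    (hD : ((d : Matrix ι ι F) - 1) * ((d : Matrix ι ι F) - 1) = 0) {r : ℕ}
    (hr : (((x : Matrix ι ι F) - 1) * ((d : Matrix ι ι F) - 1) + ((d : Matrix ι ι F) - 1) * ((x : Matrix ι ι F) - 1)) ^ r = 0) :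
    IsPGroup p (Subgroup.closure ({x, d} : Set (GL ι F))) := by
  classical
  set N := (x : Matrix ι ι F) - 1 with hNdef
  set D := (d : Matrix ι ι F) - 1 with hDdef
  let P : GL ι F → Prop := fun g => ∀ k, ∀ v ∈ killed N D (k + 1), ((g : Matrix ι ι F) - 1) *ᵥ v ∈ killed N D k
  have hone : P 1 := fun k v _ => by rw [Units.val_one, sub_self, Matrix.zero_mulVec]; exact zero_mem _
  have hmul : ∀ g h, P g → P h → P (g * h) := fun g h hg hh k v hv => by
    rw [show ((g * h : GL ι F) : Matrix ι ι F) - 1 = ((g : Matrix ι ι F) - 1) * ((h : Matrix ι ι F) - 1) +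
      ((g : Matrix ι ι F) - 1) + ((h : Matrix ι ι F) - 1) by rw [Units.val_mul]; noncomm_ring,
      Matrix.add_mulVec, Matrix.add_mulVec, ← Matrix.mulVec_mulVec]
    exact add_mem (add_mem (hg k _ (killed_mono N D k (hh k v hv))) (hg k v hv)) (hh k v hv)
  have hpow : ∀ g, P g → ∀ j : ℕ, P (g ^ j) := fun g hg j => by
    induction j with
    | zero => rw [pow_zero]; exact hone
    | succ j ih => rw [pow_succ]; exact hmul _ _ ih hg
  have hall : ∀ g ∈ Subgroup.closure ({x, d} : Set (GL ι F)), P g := by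
    intro g hg
    induction hg using Subgroup.closure_induction with
    | mem y hy =>
      rcases hy with rfl | rfl
      · exact fun k v hv => hv.1
      · exact fun k v hv => hv.2
    | one => exact hone
    | mul a b _ _ ha hb => exact hmul a b ha hb
    | inv a _ ha =>
      rw [show a⁻¹ = a ^ (orderOf a - 1) from inv_eq_of_mul_eq_one_right (by
        rw [← pow_succ', Nat.sub_add_cancel (orderOf_pos a), pow_orderOf_eq_one])]
      exact hpow a ha _
  intro g
  have hg := hall g.1 g.2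
  have hzero : ∀ (j : ℕ) (v : ι → F), v ∈ killed N D j → (((g.1 : GL ι F) : Matrix ι ι F) - 1) ^ j *ᵥ v = 0 := by
    intro j
    induction j with
    | zero => intro v hv; rw [pow_zero, Matrix.one_mulVec]; exact hv
    | succ j ih =>
      intro v hv
      rw [pow_succ, ← Matrix.mulVec_mulVec]
      exact ih _ (hg j v hv)
  have hnil : (((g.1 : GL ι F) : Matrix ι ι F) - 1) ^ (3 * r) = 0 :=
    Matrix.ext_iff_mulVec.mpr fun v => by
      rw [Matrix.zero_mulVec]
      exact hzero _ v (killed_top hN hD r v (by rw [hr, Matrix.zero_mulVec]))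
  refine ⟨3 * r, Subtype.ext (Units.ext ?_)⟩
  rcases isEmpty_or_nonempty ι with hι | hι
  · exact Matrix.ext fun a => isEmptyElim a
  haveI : CharP (Matrix ι ι F) p := Matrix.charP p
  have hle : 3 * r ≤ p ^ (3 * r) := (Nat.lt_pow_self (Fact.out : p.Prime).one_lt).le
  have e := sub_pow_char_pow_of_commute (p := p) (n := 3 * r) (Commute.one_right ((g.1 : GL ι F) : Matrix ι ι F))
  rw [one_pow, ← Nat.add_sub_cancel' hle, pow_add, hnil, zero_mul, Nat.add_sub_cancel' hle] at e
  rw [Subgroup.coe_pow, Units.val_pow_eq_pow_val]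
  exact (sub_eq_zero.1 e.symm)

/-- the representation on an invariant plane -/
theorem even_of_plane (p : ℕ) [Fact p.Prime] [CharP F p] (hp : p ≠ 2) {L : Type*} [Field L] [Fintype L] [CharP L p]
    (f : F →+* L) {NL DL : Matrix ι ι L} (hNL : NL = ((x : Matrix ι ι F) - 1).map f)
    (hDL : DL = ((d : Matrix ι ι F) - 1).map f) {lam : L} (hlam0 : lam ≠ 0) {e₁ : ι → L} (he1 : e₁ ≠ 0)
    (hN1 : NL *ᵥ e₁ = 0) (hNe2 : NL *ᵥ (DL *ᵥ e₁) = lam • e₁) (hDD : DL * DL = 0) :
    2 ∣ Nat.card (Subgroup.closure ({x, d} : Set (GL ι F))) := by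
  classical
  have hmapmul : ∀ A B : Matrix ι ι F, (A * B).map f = A.map f * B.map f := fun A B => Matrix.map_mul
  set e₂ := DL *ᵥ e₁ with he2
  have hD2 : DL *ᵥ e₂ = 0 := by rw [he2, Matrix.mulVec_mulVec, hDD, Matrix.zero_mulVec]
  let T : (Fin 2 → L) → (ι → L) := fun c => c 0 • e₁ + c 1 • e₂
  have hTlin : ∀ c c' : Fin 2 → L, T (c + c') = T c + T c' := fun c c' => by
    simp only [T, Pi.add_apply, add_smul]; abel
  have hTinj : ∀ c, T c = 0 → c = 0 := fun c hc => by
    have h2 := congrArg (NL *ᵥ ·) hc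
    simp only [T, Matrix.mulVec_add, Matrix.mulVec_smul, hN1, hNe2, smul_zero, zero_add, Matrix.mulVec_zero,
      smul_smul] at h2
    have c1 : c 1 = 0 := (mul_eq_zero.1 ((smul_eq_zero.1 h2).resolve_right he1)).resolve_right hlam0
    simp only [T, c1, zero_smul, add_zero] at hc
    have c0 : c 0 = 0 := (smul_eq_zero.1 hc).resolve_right he1
    funext k
    fin_cases k <;> assumption
  let Rep : GL ι F → Matrix (Fin 2) (Fin 2) L → Prop := fun g M => ∀ c, ((g : Matrix ι ι F).map f) *ᵥ T c = T (M *ᵥ c)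
  have hrep1 : Rep 1 1 := fun c => by simp
  have hrepmul : ∀ {g h M M'}, Rep g M → Rep h M' → Rep (g * h) (M * M') := fun {g h M M'} hg hh c => by
    rw [Units.val_mul, hmapmul, ← Matrix.mulVec_mulVec, hh, hg, Matrix.mulVec_mulVec]
  have huniq : ∀ {g M M'}, Rep g M → Rep g M' → M = M' := fun {g M M'} hg hg' => by
    refine Matrix.ext_iff_mulVec.mpr fun c => sub_eq_zero.1 (hTinj _ ?_)
    have h1 := hTlin (M *ᵥ c - M' *ᵥ c) (M' *ᵥ c)
    rw [sub_add_cancel, ← hg, hg'] at h1
    exact left_eq_add.1 (h1.trans (add_comm _ _))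
  have hx' : Rep x !![1, lam; 0, 1] := fun c => by
    rw [show (x : Matrix ι ι F) = 1 + ((x : Matrix ι ι F) - 1) by abel, Matrix.map_add _ (map_add f),
      Matrix.map_one _ (map_zero f) (map_one f), ← hNL, Matrix.add_mulVec, Matrix.one_mulVec]
    simp only [T, Matrix.mulVec_add, Matrix.mulVec_smul, hN1, hNe2, smul_zero, zero_add]
    simp [Matrix.mulVec, dotProduct, Fin.sum_univ_two]
    module
  have hd' : Rep d !![1, 0; 1, 1] := fun c => by
    rw [show (d : Matrix ι ι F) = 1 + ((d : Matrix ι ι F) - 1) by abel, Matrix.map_add _ (map_add f),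
      Matrix.map_one _ (map_zero f) (map_one f), ← hDL, Matrix.add_mulVec, Matrix.one_mulVec]
    simp only [T, Matrix.mulVec_add, Matrix.mulVec_smul, hD2, ← he2, smul_zero, add_zero]
    simp [Matrix.mulVec, dotProduct, Fin.sum_univ_two]
    module
  set K := Subgroup.closure ({x, d} : Set (GL ι F))
  have hex : ∀ g ∈ K, ∃ M, Rep g M := by
    intro g hg
    have hpw : ∀ (a : GL ι F) (M : Matrix (Fin 2) (Fin 2) L), Rep a M → ∀ j : ℕ, Rep (a ^ j) (M ^ j) := fun a M h j => by
      induction j with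
      | zero => rw [pow_zero, pow_zero]; exact hrep1
      | succ j ih => rw [pow_succ, pow_succ]; exact hrepmul ih h
    induction hg using Subgroup.closure_induction with
    | mem y hy =>
      rcases hy with rfl | rfl
      · exact ⟨_, hx'⟩
      · exact ⟨_, hd'⟩
    | one => exact ⟨1, hrep1⟩
    | mul a b _ _ ha hb => obtain ⟨M, hM⟩ := ha; obtain ⟨M', hM'⟩ := hb; exact ⟨_, hrepmul hM hM'⟩
    | inv a _ ha =>
      obtain ⟨M, hM⟩ := ha
      refine ⟨M ^ (orderOf a - 1), ?_⟩
      rw [show a⁻¹ = a ^ (orderOf a - 1) from inv_eq_of_mul_eq_one_right (by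
        rw [← pow_succ', Nat.sub_add_cancel (orderOf_pos a), pow_orderOf_eq_one])]
      exact hpw a M hM _
  choose M hM using fun g : K => hex g.1 g.2
  let ρ₀ : K →* Matrix (Fin 2) (Fin 2) L :=
    { toFun := M
      map_one' := huniq (hM 1) hrep1
      map_mul' := fun g h => huniq (hM (g * h)) (hrepmul (hM g) (hM h)) }
  let ρ : K →* GL (Fin 2) L := ρ₀.toHomUnits
  set E := FiniteField.Extension L p 2
  let e := algebraMap L E
  haveI : CharP E p := charP_of_injective_ringHom e.injective p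
  letI : Fintype (Geom.Moebius.Line E) := Fintype.ofFinite _
  have hE : Geom.Moebius.QuadClosed e := Geom.Moebius.quadClosed_extension p
  let π : K →* PGL(2, E) := ((Geom.Moebius.extHom e).comp Matrix.ProjGenLinGroup.mk).comp ρ
  have hfix : ∀ g ∈ π.range, ∃ P : Geom.Moebius.Line E, g • P = P := by
    rintro _ ⟨g, rfl⟩
    exact Geom.Moebius.exists_fixed e hE (Matrix.ProjGenLinGroup.mk (ρ g))
  have hgt : Geom.Moebius.aff 1 (e lam) ∈ π.range := by
    refine ⟨⟨x, Subgroup.subset_closure (Or.inl rfl)⟩, ?_⟩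
    have : ρ ⟨x, Subgroup.subset_closure (Or.inl rfl)⟩ = Matrix.SpecialLinearGroup.toGL
        (Matrix.SpecialLinearGroup.transvection (show (0 : Fin 2) ≠ 1 by decide) lam) := by
      refine Units.ext ((huniq (hM _) hx').trans ?_)
      show _ = Matrix.transvection (0 : Fin 2) 1 lam
      ext i j; fin_cases i <;> fin_cases j <;> simp [Matrix.transvection]
    show Geom.Moebius.extHom e (Matrix.ProjGenLinGroup.mk (ρ _)) = _
    rw [this, Geom.Moebius.mk_transvection_zero_one, Geom.Moebius.extHom_aff, map_one]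
  have hg1 : Geom.Moebius.low (1 : E) ∈ π.range := by
    refine ⟨⟨d, Subgroup.subset_closure (Or.inr rfl)⟩, ?_⟩
    have : ρ ⟨d, Subgroup.subset_closure (Or.inr rfl)⟩ = Matrix.SpecialLinearGroup.toGL
        (Matrix.SpecialLinearGroup.transvection (show (1 : Fin 2) ≠ 0 by decide) (1 : L)) := by
      refine Units.ext ((huniq (hM _) hd').trans ?_)
      show _ = Matrix.transvection (1 : Fin 2) 0 (1 : L)
      ext i j; fin_cases i <;> fin_cases j <;> simp [Matrix.transvection]
    show Geom.Moebius.extHom e (Matrix.ProjGenLinGroup.mk (ρ _)) = _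
    rw [this, Geom.Moebius.mk_transvection_one_zero, Geom.Moebius.extHom_low, map_one]
  refine Nat.dvd_trans ?_ (Subgroup.card_range_dvd π)
  rcases Geom.Moebius.two_para_cases π.range p hp hfix ((map_ne_zero e).2 hlam0) hgt hg1 with
    ⟨u, k, dd, -, -⟩ | ⟨h60, -, -⟩
  · rw [← dd.mul_eq]
    rcases Nat.even_or_odd u with hu | hu
    · exact Dvd.dvd.mul_left (Dvd.dvd.mul_right hu.two_dvd k) _
    · exact Dvd.dvd.mul_right hu.add_one.two_dvd _
  · rw [h60]; norm_num

/-- non-nilpotent: the group has even order -/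
theorem even_of_not_nilpotent (p : ℕ) [Fact p.Prime] [CharP F p] (hp : p ≠ 2)
    (hN : ((x : Matrix ι ι F) - 1) * ((x : Matrix ι ι F) - 1) = 0)
    (hD : ((d : Matrix ι ι F) - 1) * ((d : Matrix ι ι F) - 1) = 0)
    (hr : ¬ IsNilpotent (((x : Matrix ι ι F) - 1) * ((d : Matrix ι ι F) - 1) +
      ((d : Matrix ι ι F) - 1) * ((x : Matrix ι ι F) - 1))) :
    2 ∣ Nat.card (Subgroup.closure ({x, d} : Set (GL ι F))) := by
  classical
  set C := ((x : Matrix ι ι F) - 1) * ((d : Matrix ι ι F) - 1) + ((d : Matrix ι ι F) - 1) * ((x : Matrix ι ι F) - 1) with hC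
  set L := C.charpoly.SplittingField
  set f := algebraMap F L
  haveI : Finite L := Module.finite_of_finite F
  letI : Fintype L := Fintype.ofFinite L
  haveI : CharP L p := charP_of_injective_ringHom f.injective p
  -- an eigenvalue
  obtain ⟨lam, hlam0, hlam⟩ : ∃ lam : L, lam ≠ 0 ∧ (C.charpoly.map f).eval lam = 0 := by
    by_contra hno
    push Not at hno
    refine hr ⟨Fintype.card ι, ?_⟩
    have hs : (C.charpoly.map f).Splits := Polynomial.SplittingField.splits C.charpoly
    have hmon : (C.charpoly.map f).Monic := C.charpoly_monic.map f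
    have hroots : (C.charpoly.map f).roots = Multiset.replicate (Fintype.card ι) 0 := by
      refine Multiset.eq_replicate.2 ⟨?_, fun b hb => ?_⟩
      · rw [← hs.natDegree_eq_card_roots, Polynomial.natDegree_map, Matrix.charpoly_natDegree_eq_dim]
      · by_contra hb0
        exact hno b hb0 (Polynomial.isRoot_of_mem_roots hb)
    have hX : C.charpoly = X ^ Fintype.card ι := by
      refine Polynomial.map_injective f f.injective ?_
      rw [Polynomial.map_pow, Polynomial.map_X, hs.eq_prod_roots_of_monic hmon, hroots, Multiset.map_replicate,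
        Multiset.prod_replicate, map_zero, sub_zero]
    have := Matrix.aeval_self_charpoly C
    rwa [hX, Polynomial.aeval_X_pow] at this
  set NL := ((x : Matrix ι ι F) - 1).map f with hNL
  set DL := ((d : Matrix ι ι F) - 1).map f with hDL
  have hmapmul : ∀ A B : Matrix ι ι F, (A * B).map f = A.map f * B.map f := fun A B => Matrix.map_mul
  have hNN : NL * NL = 0 := by rw [hNL, ← hmapmul, hN]; simp
  have hDD : DL * DL = 0 := by rw [hDL, ← hmapmul, hD]; simp
  have hCL : C.map f = NL * DL + DL * NL := by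
    show (((x : Matrix ι ι F) - 1) * ((d : Matrix ι ι F) - 1) + ((d : Matrix ι ι F) - 1) * ((x : Matrix ι ι F) - 1)).map f = _
    rw [hNL, hDL, Matrix.map_add _ (map_add f), hmapmul, hmapmul]
  obtain ⟨v, hv0, hv⟩ : ∃ v : ι → L, v ≠ 0 ∧ (NL * DL + DL * NL) *ᵥ v = lam • v := by
    rw [← Matrix.charpoly_map, Matrix.eval_charpoly] at hlam
    obtain ⟨v, hv0, hv⟩ := Matrix.exists_mulVec_eq_zero_iff.2 hlam
    refine ⟨v, hv0, ?_⟩
    rw [Matrix.sub_mulVec, sub_eq_zero, Matrix.scalar_apply] at hv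
    rw [← hCL, ← hv]
    funext a
    simp [Matrix.mulVec_diagonal]
  -- the plane
  obtain ⟨e₁, he1, hN1, hNe2⟩ : ∃ e₁ : ι → L, e₁ ≠ 0 ∧ NL *ᵥ e₁ = 0 ∧ NL *ᵥ (DL *ᵥ e₁) = lam • e₁ := by
    have key : ∀ w, (NL * DL + DL * NL) *ᵥ w = lam • w → NL *ᵥ w ≠ 0 →
        NL *ᵥ (NL *ᵥ w) = 0 ∧ NL *ᵥ (DL *ᵥ (NL *ᵥ w)) = lam • (NL *ᵥ w) := fun w hw _ => by
      refine ⟨by rw [Matrix.mulVec_mulVec, hNN, Matrix.zero_mulVec], ?_⟩
      rw [Matrix.mulVec_mulVec, Matrix.mulVec_mulVec, nd_N hNN, ← ndC_N hNN, ← Matrix.mulVec_mulVec, hw,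
        Matrix.mulVec_smul]
    by_cases hNv : NL *ᵥ v = 0
    · have hDv : NL *ᵥ (DL *ᵥ v) = lam • v := by
        rw [← hv, Matrix.add_mulVec, ← Matrix.mulVec_mulVec v DL NL, hNv, Matrix.mulVec_zero, add_zero,
          Matrix.mulVec_mulVec]
      have hne : NL *ᵥ (DL *ᵥ v) ≠ 0 := by rw [hDv]; exact smul_ne_zero hlam0 hv0
      exact ⟨_, hne, key _ (by rw [Matrix.mulVec_mulVec, ← ndC_D hDD, ← Matrix.mulVec_mulVec, hv, Matrix.mulVec_smul]) hne⟩
    · exact ⟨_, hNv, key v hv hNv⟩
  exact even_of_plane p hp f hNL hDL hlam0 he1 hN1 hNe2 hDD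

/-- a p-group or a central involution -/
theorem pgroup_or_invol (p : ℕ) [Fact p.Prime] [CharP F p] (hp : p ≠ 2)
    (hN : ((x : Matrix ι ι F) - 1) * ((x : Matrix ι ι F) - 1) = 0)
    (hD : ((d : Matrix ι ι F) - 1) * ((d : Matrix ι ι F) - 1) = 0) :
    IsPGroup p (Subgroup.closure ({x, d} : Set (GL ι F))) ∨
      ∃ z ∈ Subgroup.closure ({x, d} : Set (GL ι F)), z ≠ 1 ∧ z * z = 1 ∧ Commute z x ∧ Commute z d ∧
        ∃ Y, (z : Matrix ι ι F) - 1 = (((x : Matrix ι ι F) - 1) * ((d : Matrix ι ι F) - 1) +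
          ((d : Matrix ι ι F) - 1) * ((x : Matrix ι ι F) - 1)) * Y := by
  classical
  by_cases hnil : IsNilpotent (((x : Matrix ι ι F) - 1) * ((d : Matrix ι ι F) - 1) +
      ((d : Matrix ι ι F) - 1) * ((x : Matrix ι ι F) - 1))
  · obtain ⟨r, hr⟩ := hnil
    exact Or.inl (pgroup_of_nilpotent p hN hD hr)
  refine Or.inr ?_
  set K := Subgroup.closure ({x, d} : Set (GL ι F)) with hK
  haveI : Fact (Nat.Prime 2) := ⟨Nat.prime_two⟩
  obtain ⟨z, hz⟩ := exists_prime_orderOf_dvd_card' (G := K) 2 (even_of_not_nilpotent p hp hN hD hnil)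
  obtain ⟨N, hNdef⟩ : ∃ N, N = (x : Matrix ι ι F) - 1 := ⟨_, rfl⟩
  obtain ⟨D, hDdef⟩ : ∃ D, D = (d : Matrix ι ι F) - 1 := ⟨_, rfl⟩
  obtain ⟨C, hC⟩ : ∃ C, C = N * D + D * N := ⟨_, rfl⟩
  rw [← hNdef] at hN
  rw [← hDdef] at hD
  rw [← hNdef, ← hDdef, ← hC]
  set S := Algebra.adjoin F ({C} : Set (Matrix ι ι F))
  have hSN : ∀ s ∈ S, Commute N s := fun s hs => Algebra.commute_of_mem_adjoin_singleton_of_commute hs (hC ▸ ndC_N hN)
  have hSD : ∀ s ∈ S, Commute D s := fun s hs => Algebra.commute_of_mem_adjoin_singleton_of_commute hs (hC ▸ ndC_D hD)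
  have hCS : C ∈ S := Algebra.subset_adjoin rfl
  let P : GL ι F → Prop := fun g => ∃ a ∈ S, ∃ b ∈ S, ∃ c ∈ S, ∃ e ∈ S, (∃ y, a - 1 = C * y) ∧
    (g : Matrix ι ι F) = a + b * N + c * D + e * (N * D) ∧
      ((g⁻¹ : GL ι F) : Matrix ι ι F) = a + e * C - b * N - c * D - e * (N * D)
  have hxi : ((x⁻¹ : GL ι F) : Matrix ι ι F) = 1 - N := Units.inv_eq_of_mul_eq_one_right (by
    rw [show (x : Matrix ι ι F) = 1 + N by rw [hNdef]; abel, add_mul, one_mul, mul_sub, mul_one, hN]; abel)
  have hdi : ((d⁻¹ : GL ι F) : Matrix ι ι F) = 1 - D := Units.inv_eq_of_mul_eq_one_right (by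
    rw [show (d : Matrix ι ι F) = 1 + D by rw [hDdef]; abel, add_mul, one_mul, mul_sub, mul_one, hD]; abel)
  have stepx : ∀ g, P g → P (x * g) := by
    rintro g ⟨a, ha, b, hb, c, hc, e, he, hy, h1, h2⟩
    refine ⟨a, ha, a + b, add_mem ha hb, c, hc, e + c, add_mem he hc, hy, ?_, ?_⟩
    · rw [Units.val_mul, h1, show (x : Matrix ι ι F) = 1 + N by rw [hNdef]; abel]
      have m1 : N * (b * N) = 0 := by rw [← mul_assoc, (hSN b hb).eq, mul_assoc, hN, mul_zero]
      have m2 : N * (e * (N * D)) = 0 := by rw [← mul_assoc, (hSN e he).eq, mul_assoc, ← mul_assoc N, hN, zero_mul, mul_zero]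
      have m3 : N * (c * D) = c * (N * D) := by rw [← mul_assoc, (hSN c hc).eq, mul_assoc]
      simp only [add_mul, mul_add, one_mul, m1, m2, m3, (hSN a ha).eq]
      abel
    · rw [_root_.mul_inv_rev, Units.val_mul, h2, hxi]
      have m0 : N * D * N = C * N := hC ▸ nd_N hN
      have m4 : e * C * N = e * (C * N) := mul_assoc _ _ _
      have m5 : D * N = C - N * D := by rw [hC]; abel
      simp only [sub_mul, add_mul, mul_sub, mul_one, mul_assoc, hN, mul_zero, sub_zero]
      rw [show N * (D * N) = C * N by rw [← mul_assoc, m0], m5, mul_sub]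
      abel
  have stepd : ∀ g, P g → P (d * g) := by
    rintro g ⟨a, ha, b, hb, c, hc, e, he, ⟨y, hy⟩, h1, h2⟩
    refine ⟨a + b * C, add_mem ha (mul_mem hb hCS), b, hb, a + c + e * C, add_mem (add_mem ha hc) (mul_mem he hCS),
      e - b, sub_mem he hb, ⟨y + b, ?_⟩, ?_, ?_⟩
    · have hbC : Commute C b := Commute.symm (by
        rw [hC]
        exact ((hSN b hb).symm.mul_right (hSD b hb).symm).add_right ((hSD b hb).symm.mul_right (hSN b hb).symm))
      rw [mul_add, ← hy, hbC.eq]; abel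
    · rw [Units.val_mul, h1, show (d : Matrix ι ι F) = 1 + D by rw [hDdef]; abel]
      have m5 : D * N = C - N * D := by rw [hC]; abel
      have m1 : D * (c * D) = 0 := by rw [← mul_assoc, (hSD c hc).eq, mul_assoc, hD, mul_zero]
      have m2 : D * (e * (N * D)) = e * (C * D) := by
        rw [← mul_assoc, (hSD e he).eq, mul_assoc, ← mul_assoc D, dn_D hD, ← hC]
      have m3 : D * (b * N) = b * (C - N * D) := by rw [← mul_assoc, (hSD b hb).eq, mul_assoc, m5]
      simp only [add_mul, mul_add, sub_mul, mul_sub, one_mul, m1, m2, m3, (hSD a ha).eq, mul_assoc]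
      abel
    · rw [_root_.mul_inv_rev, Units.val_mul, h2, hdi]
      simp only [sub_mul, add_mul, mul_sub, mul_one, mul_assoc, hD, mul_zero, sub_zero]
      abel
  have hP : ∀ g ∈ K, P g := by
    have hpw : ∀ (a : GL ι F), (∀ g, P g → P (a * g)) → ∀ (j : ℕ) g, P g → P (a ^ j * g) := fun a h j => by
      induction j with
      | zero => intro g hg; rwa [pow_zero, one_mul]
      | succ j ih => intro g hg; rw [pow_succ', mul_assoc]; exact h _ (ih g hg)
    have hinv : ∀ a : GL ι F, (∀ g, P g → P (a * g)) → ∀ g, P g → P (a⁻¹ * g) := fun a h g hg => by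
      rw [show a⁻¹ = a ^ (orderOf a - 1) from inv_eq_of_mul_eq_one_right (by
        rw [← pow_succ', Nat.sub_add_cancel (orderOf_pos a), pow_orderOf_eq_one])]
      exact hpw a h _ g hg
    intro g hg
    induction hg using Subgroup.closure_induction_left with
    | one => exact ⟨1, one_mem _, 0, zero_mem _, 0, zero_mem _, 0, zero_mem _, ⟨0, by simp⟩, by simp, by simp⟩
    | mul_left y hy g _ ih =>
      rcases hy with rfl | rfl
      · exact stepx g ih
      · exact stepd g ih
    | inv_mul_cancel y hy g _ ih =>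
      rcases hy with rfl | rfl
      · exact hinv _ stepx g ih
      · exact hinv _ stepd g ih
  obtain ⟨a, ha, b, hb, c, hc, e, he, ⟨y, hy⟩, h1, h2⟩ := hP z.1 z.2
  have hz2 : z.1 * z.1 = 1 := by
    have := pow_orderOf_eq_one z
    rw [hz, pow_two] at this
    exact congrArg Subtype.val this
  rw [inv_eq_of_mul_eq_one_right hz2] at h2
  have h2F : (2 : F) ≠ 0 := fun h => hp ((Nat.prime_dvd_prime_iff_eq Fact.out Nat.prime_two).1
    ((CharP.cast_eq_zero_iff F p 2).1 (by exact_mod_cast h)))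
  have hzval : ((z.1 : GL ι F) : Matrix ι ι F) = a + (2 : F)⁻¹ • (e * C) := by
    refine smul_right_injective (Matrix ι ι F) h2F ?_
    show (2 : F) • _ = (2 : F) • _
    rw [smul_add, smul_smul, mul_inv_cancel₀ h2F, one_smul, two_smul F, two_smul F]
    nth_rw 1 [h1]
    nth_rw 1 [h2]
    abel
  have hzS : ((z.1 : GL ι F) : Matrix ι ι F) ∈ S := by
    rw [hzval]; exact add_mem ha (S.smul_mem (mul_mem he hCS) _)
  have heC : Commute e C := by
    rw [hC]
    exact ((hSN e he).symm.mul_right (hSD e he).symm).add_right ((hSD e he).symm.mul_right (hSN e he).symm)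
  refine ⟨z.1, z.2, fun h => ?_, hz2, Units.ext ?_, Units.ext ?_, ⟨y + (2 : F)⁻¹ • e, ?_⟩⟩
  · have : z = 1 := Subtype.ext h
    rw [this, orderOf_one] at hz
    omega
  · rw [Units.val_mul, Units.val_mul, show (x : Matrix ι ι F) = 1 + N by rw [hNdef]; abel]
    exact ((Commute.one_right _).add_right (hSN _ hzS).symm).eq
  · rw [Units.val_mul, Units.val_mul, show (d : Matrix ι ι F) = 1 + D by rw [hDdef]; abel]
    exact ((Commute.one_right _).add_right (hSD _ hzS).symm).eq
  · rw [hzval, heC.eq, mul_add, ← hy, mul_smul_comm]; abel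

end CfsgLib.MaxSub.TPowSL
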