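import Cfsg.Agent.Lib.MaxSub.TPowSL.DW
import Cfsg.Agent.Lib.MaxSub.TPowSL.Plane

/-!
Good groups lie in the wreath subgroup: two generators of a p-group, and odd characteristic.
-/

set_option autoImplicit false
set_option linter.unusedSectionVars false
set_option linter.style.haveILetI false

namespace CfsgLib.MaxSub.TPowSL

open Matrix CfsgLib.Aschbacher
open scoped MatrixGroups

variable {m t : ℕ} {F : Type*} [Field F]

/-- roots belong to good groups -/
theorem IsRoot.mem_good [Fintype F] {x : GL (Fin (t + 1) → Fin m) F} (hx : IsRoot x)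
    {H : Subgroup (GL (Fin (t + 1) → Fin m) F)} (hH : Good H) : x ∈ H := by
  obtain ⟨l, S, a, b, h, rfl⟩ := hx.form
  refine hH.sl l _ ?_
  rw [Units.val_mul, Units.val_mul, Matrix.det_mul, Matrix.det_mul, det_el, mul_one, ← Matrix.det_mul,
    ← Units.val_mul, mul_inv_cancel, Units.val_one, Matrix.det_one]

/-- a tensor in one slot and the others -/
def tens (i : Fin (t + 1)) (u : Fin m → F) : ((Fin t → Fin m) → F) →ₗ[F] ((Fin (t + 1) → Fin m) → F) where
  toFun w r := u (r i) * w fun j => r (i.succAbove j)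
  map_add' w w' := by ext r; simp [mul_add]
  map_smul' c w := by ext r; simp [mul_left_comm]

theorem tens_insertNth (i : Fin (t + 1)) (u : Fin m → F) (w : (Fin t → Fin m) → F) (a : Fin m) (p : Fin t → Fin m) :
    tens i u w (Fin.insertNth i a p) = u a * w p := by
  simp [tens]

theorem tens_ext (i : Fin (t + 1)) {v v' : (Fin (t + 1) → Fin m) → F}
    (h : ∀ a p, v (Fin.insertNth i a p) = v' (Fin.insertNth i a p)) : v = v' := by
  funext r
  obtain ⟨⟨a, p⟩, rfl⟩ := (splitEquiv i).surjective r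
  exact h a p

/-- an operator on a tensor, read in blocks -/
theorem kron_mulVec (i : Fin (t + 1)) {X : Op m (t + 1) F} {γ : Matrix (Fin m) (Fin m) F} {δ : Op m t F}
    (h : ∀ a b, blk i X a b = γ a b • δ) (u : Fin m → F) (w : (Fin t → Fin m) → F) :
    X *ᵥ tens i u w = tens i (γ *ᵥ u) (δ *ᵥ w) := by
  refine tens_ext i fun a p => ?_
  rw [tens_insertNth, Matrix.mulVec, dotProduct, ← (splitEquiv i).sum_comp, Fintype.sum_prod_type]
  simp only [splitEquiv_apply, tens_insertNth, Matrix.mulVec, dotProduct]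
  rw [Finset.sum_mul_sum]
  refine Finset.sum_congr rfl fun c _ => Finset.sum_congr rfl fun q _ => ?_
  rw [← blk_apply i X, h, Matrix.smul_apply, smul_eq_mul]
  ring

theorem rank_add_le' {ι κ : Type} [Fintype ι] [Fintype κ] (A B : Matrix ι κ F) : (A + B).rank ≤ A.rank + B.rank := by
  refine le_trans (Submodule.finrank_mono ?_) (Submodule.finrank_add_le_finrank_add_finrank _ _)
  rintro _ ⟨v, rfl⟩
  rw [Matrix.mulVecLin_apply, Matrix.add_mulVec]
  exact Submodule.add_mem_sup ⟨v, rfl⟩ ⟨v, rfl⟩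

theorem eq_zero_of_rank_zero {ι : Type} [Fintype ι] {A : Matrix ι ι F} (h : A.rank = 0) : A = 0 := by
  refine Matrix.ext_iff_mulVec.mpr fun v => ?_
  have h0 := Submodule.finrank_eq_zero.1 h
  rw [Matrix.zero_mulVec]
  exact (Submodule.mem_bot F).1 (h0 ▸ (⟨v, rfl⟩ : A *ᵥ v ∈ LinearMap.range A.mulVecLin))

variable [Fintype F] {H : Subgroup (GL (Fin (t + 2) → Fin m) F)}

/-- a root and a conjugate generating a p-group -/
theorem Good.pgroup_mem (hm : 3 ≤ m) (IH : HP m t F) (hH : Good H) (p : ℕ) [Fact p.Prime]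
    {x d : GL (Fin (t + 2) → Fin m) F} (hx : IsRoot x) (hd : d ∈ H)
    (hK : IsPGroup p (Subgroup.closure ({x, d} : Set (GL (Fin (t + 2) → Fin m) F)))) : d ∈ W m (t + 2) F := by
  classical
  by_contra hdW
  set K := Subgroup.closure ({x, d} : Set (GL (Fin (t + 2) → Fin m) F)) with hKdef
  have hKH : K ≤ H := (Subgroup.closure_le H).2 (by
    rintro y (rfl | rfl)
    · exact hx.mem_good hH
    · exact hd)
  set N := (W m (t + 2) F).subgroupOf K with hN
  have hne : N ≠ ⊤ := fun e => hdW (by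
    have : (⟨d, Subgroup.subset_closure (Or.inr rfl)⟩ : K) ∈ N := e ▸ Subgroup.mem_top _
    exact this)
  haveI : Group.IsNilpotent K := hK.isNilpotent
  obtain ⟨k, hk, hkN⟩ := SetLike.exists_of_lt (normalizerCondition_of_isNilpotent (G := K) N hne.lt_top)
  refine hkN ?_
  have hxN : (⟨x, Subgroup.subset_closure (Or.inl rfl)⟩ : K) ∈ N := hx.mem_W
  have h2 := (Subgroup.mem_normalizer_iff.1 hk _).1 hxN
  exact hH.mapW (g := k.1) hm IH (by rw [cj_self (hKH k.2)]; exact hH) hx h2

/-- odd characteristic -/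
theorem Good.le_W_odd (hm : 3 ≤ m) (IH : HP m t F) (h2 : (2 : F) ≠ 0) (hH : Good H) : H ≤ W m (t + 2) F := by
  classical
  intro g hg
  haveI : NeZero m := ⟨by omega⟩
  haveI : Nonempty (Fin (t + 1) → Fin m) := ⟨fun _ => 0⟩
  let p₀ : Fin m := ⟨0, by omega⟩
  let p₁ : Fin m := ⟨1, by omega⟩
  let p₂ : Fin m := ⟨2, by omega⟩
  have h01 : p₀ ≠ p₁ := by simp [p₀, p₁, Fin.ext_iff]
  let i : Fin (t + 2) := 0
  set x : GL (Fin (t + 2) → Fin m) F := slotGL i (el h01 1) with hxdef
  have hxroot : IsRoot x := isRoot_el i h01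
  have hxH : x ∈ H := hH.el_mem i h01 1
  set d := g * x * g⁻¹ with hd
  have hdH : d ∈ H := mul_mem (mul_mem hg hxH) (inv_mem hg)
  refine hH.mapW hm IH (by rwa [cj_self hg]) hxroot ?_
  obtain ⟨p, hchar⟩ := CharP.exists F
  have hprime : p.Prime := CharP.char_is_prime F p
  haveI := Fact.mk hprime
  have hp2 : p ≠ 2 := fun e => h2 (by subst e; exact_mod_cast CharP.cast_eq_zero F 2)
  obtain ⟨hxe, hxx⟩ := slot_single_sq (F := F) i h01
  rw [← hxdef] at hxe
  rcases pgroup_or_invol p hp2 (x := x) (d := d) (by rw [hxe]; exact hxx) (hxroot.bounds g).1 with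
    hK | ⟨z, hzK, hz1, hzz, hzx, hzd, Y, hY⟩
  · exact hH.pgroup_mem hm IH p hxroot hdH hK
  have hzH : z ∈ H := (Subgroup.closure_le H).2 (by rintro y (rfl | rfl) <;> assumption) hzK
  -- the blocks of `z`
  set Z := blk i (z : Op m (t + 2) F) with hZ
  have hcomm : ∀ a b, (if b = p₁ then Z a p₀ else 0) = (if a = p₀ then Z p₁ b else 0) := fun a b => by
    have e := congrArg (fun u : GL (Fin (t + 2) → Fin m) F => blk i (u : Op m (t + 2) F)) hzx.eq
    simp only [Units.val_mul, blk_mul, hxdef, blk_el, one_smul, mul_add, add_mul, mul_one, one_mul, ← hZ,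
      add_right_inj] at e
    have e' := congrFun (congrFun e a) b
    simp only [Matrix.mul_apply, Matrix.single_apply, mul_ite, mul_one, mul_zero, ite_mul, one_mul, zero_mul] at e'
    rw [Finset.sum_eq_single p₀ (fun c _ hc => by simp [Ne.symm hc]) (by simp),
      Finset.sum_eq_single p₁ (fun c _ hc => by simp [Ne.symm hc]) (by simp)] at e'
    simpa [eq_comm (a := p₁), eq_comm (a := p₀)] using e'
  obtain ⟨γ, δ, hkr⟩ := kron_of_stab (g := blkU i z) hm (hH i) (hH i)
    (fun y hy => by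
      obtain ⟨w, hw, rfl⟩ := hy
      exact ⟨z * w * z⁻¹, mul_mem (mul_mem hzH hw) (inv_mem hzH), by simp⟩)
    (fun y hy => by
      obtain ⟨w, hw, rfl⟩ := hy
      exact ⟨z⁻¹ * w * z, mul_mem (mul_mem (inv_mem hzH) hw) hzH, by simp⟩)
    (T := {p₀}) (Finset.singleton_nonempty _) ⟨p₁, by simp [h01.symm]⟩ (fun a ha c hc => by
      rw [Finset.mem_singleton] at ha hc
      subst ha
      have := hcomm c p₁
      simpa [blkU_val, ← hZ, hc] using this)
  simp only [blkU_val, ← hZ] at hkr
  set γm := (γ : Matrix (Fin m) (Fin m) F) with hγm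
  have hδne : (δ : Op m (t + 1) F) ≠ 0 := δ.ne_zero
  have hinj : ∀ {c c' : F}, c • (δ : Op m (t + 1) F) = c' • (δ : Op m (t + 1) F) → c = c' :=
    fun {c c'} h => sub_eq_zero.1 ((smul_eq_zero.1 (by rw [sub_smul, h, sub_self])).resolve_right hδne)
  have hc0 : ∀ a, a ≠ p₀ → γm a p₀ = 0 := fun a ha => by
    have := hcomm a p₁
    rw [if_pos rfl, if_neg ha, hkr] at this
    exact (smul_eq_zero.1 this).resolve_right hδne
  have hr1 : ∀ b, b ≠ p₁ → γm p₁ b = 0 := fun b hb => by
    have := hcomm p₀ b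
    rw [if_pos rfl, if_neg hb, hkr] at this
    exact (smul_eq_zero.1 this.symm).resolve_right hδne
  have h11 : γm p₀ p₀ = γm p₁ p₁ := by
    have := hcomm p₀ p₁
    rw [if_pos rfl, if_pos rfl, hkr, hkr] at this
    exact hinj this
  have hg00 : γm p₀ p₀ ≠ 0 := fun h0 => by
    have e := congrFun (congrFun (show ((γ⁻¹ : GL (Fin m) F) : Matrix (Fin m) (Fin m) F) * γm = 1 by
      rw [hγm, ← Units.val_mul, inv_mul_cancel, Units.val_one]) p₀) p₀
    rw [Matrix.mul_apply, Finset.sum_eq_zero fun c _ => by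
      rcases eq_or_ne c p₀ with rfl | hc
      · rw [h0, mul_zero]
      · rw [hc0 c hc, mul_zero], Matrix.one_apply_eq] at e
    exact zero_ne_one e
  set G : Matrix (Fin m) (Fin m) F := (γm p₀ p₀)⁻¹ • γm with hG
  set δ₀ : Op m (t + 1) F := γm p₀ p₀ • (δ : Op m (t + 1) F) with hδ₀
  have hblk : ∀ a b, Z a b = G a b • δ₀ := fun a b => by
    rw [hkr, hG, hδ₀, Matrix.smul_apply, smul_smul, smul_eq_mul]
    congr 1
    field_simp
  have hG00 : G p₀ p₀ = 1 := by rw [hG, Matrix.smul_apply, smul_eq_mul, inv_mul_cancel₀ hg00]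
  have hG11 : G p₁ p₁ = 1 := by rw [hG, Matrix.smul_apply, smul_eq_mul, ← h11, inv_mul_cancel₀ hg00]
  have hGc : ∀ a, a ≠ p₀ → G a p₀ = 0 := fun a ha => by rw [hG, Matrix.smul_apply, hc0 a ha, smul_zero]
  have hGr : ∀ b, b ≠ p₁ → G p₁ b = 0 := fun b hb => by rw [hG, Matrix.smul_apply, hr1 b hb, smul_zero]
  have hZZ : ∀ a b, (G * G) a b • (δ₀ * δ₀) = (1 : Matrix (Fin m) (Fin m) (Op m (t + 1) F)) a b := fun a b => by
    have e := congrArg (fun u : GL (Fin (t + 2) → Fin m) F => blk i (u : Op m (t + 2) F)) hzz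
    simp only [Units.val_mul, Units.val_one, blk_mul, blk_one, ← hZ] at e
    rw [← e, Matrix.mul_apply, Matrix.mul_apply, Finset.sum_smul]
    exact Finset.sum_congr rfl fun c _ => by rw [hblk, hblk]; exact (smul_mul_smul_comm _ _ _ _).symm
  have hδ2 : δ₀ * δ₀ = 1 := by
    have e := hZZ p₀ p₀
    rw [Matrix.mul_apply, Finset.sum_eq_single p₀ (fun c _ hc => by rw [hGc c hc, mul_zero]) (by simp), hG00, mul_one,
      one_smul, Matrix.one_apply_eq] at e
    exact e
  have hGG : G * G = 1 := Matrix.ext fun a b => by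
    have e := hZZ a b
    rw [hδ2] at e
    rcases eq_or_ne a b with rfl | hab
    · rw [Matrix.one_apply_eq] at e ⊢
      exact sub_eq_zero.1 ((smul_eq_zero.1 (show ((G * G) a a - 1) • (1 : Op m (t + 1) F) = 0 by
        rw [sub_smul, one_smul, e, sub_self])).resolve_right one_ne_zero)
    · rw [Matrix.one_apply_ne hab] at e ⊢
      exact (smul_eq_zero.1 e).resolve_right one_ne_zero
  -- the upper bound
  set A := δ₀ - 1 with hA
  set N := (x : Op m (t + 2) F) - 1 with hN
  set X := (z : Op m (t + 2) F) - 1 with hX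
  have hXN : (X * N).rank ≤ A.rank := by
    set P : Matrix (Fin (t + 2) → Fin m) (Fin (t + 1) → Fin m) F :=
      Matrix.of fun r p => if r = Fin.insertNth i p₀ p then (1 : F) else 0
    set Q : Matrix (Fin (t + 1) → Fin m) (Fin (t + 2) → Fin m) F :=
      Matrix.of fun p s => if s = Fin.insertNth i p₁ p then (1 : F) else 0
    have hE : up (Op m (t + 1) F) (Matrix.single p₀ p₁ (1 : F)) = Matrix.single p₀ p₁ 1 := Matrix.ext fun u v => by
      rw [up_apply, Matrix.single_apply, Matrix.single_apply]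
      split <;> simp
    have eL : ∀ a b, blk i (X * N) a b = if a = p₀ ∧ b = p₁ then A else 0 := fun a b => by
      rw [blk_mul, hxe, blk_slot_up, hE]
      rcases eq_or_ne b p₁ with rfl | hb
      · rw [Matrix.mul_single_apply_same, mul_one, hX, blk_sub, blk_one, ← hZ, Matrix.sub_apply, hblk]
        rcases eq_or_ne a p₀ with rfl | ha
        · simp [hG00, hA]
        · simp [hGc a ha, ha]
      · rw [Matrix.mul_single_apply_of_ne _ _ _ _ _ hb]
        simp [hb]
    have eR : ∀ a b p q, blk i (P * A * Q) a b p q = if a = p₀ ∧ b = p₁ then A p q else 0 := fun a b p q => by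
      rw [blk_apply, Matrix.mul_apply, Finset.sum_eq_single q, Matrix.mul_apply, Finset.sum_eq_single p]
      · simp only [P, Q, Matrix.of_apply, insertNth_inj, and_true]
        by_cases ha : a = p₀ <;> by_cases hb : b = p₁ <;> simp [ha, hb]
      · intro z _ hz
        simp [P, insertNth_inj, Ne.symm hz]
      · simp
      · intro z _ hz
        simp [Q, insertNth_inj, Ne.symm hz]
      · simp
    have hf : X * N = P * A * Q := by
      refine blk_injective i (Matrix.ext fun a b => Matrix.ext fun p q => ?_)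
      rw [eL, eR]
      split <;> simp
    rw [hf]
    exact (Matrix.rank_mul_le_left _ _).trans (Matrix.rank_mul_le_right _ _)
  have hXrk : X.rank ≤ A.rank + A.rank := by
    set D := (d : Op m (t + 2) F) - 1 with hD
    have hXD : X * D = D * X := by
      have := congrArg (fun u : GL (Fin (t + 2) → Fin m) F => (u : Op m (t + 2) F)) hzd.eq
      simp only [Units.val_mul] at this
      rw [hX, hD]
      simp only [sub_mul, mul_sub, one_mul, mul_one, this]
      abel
    have e : X * X = ((X * N) * D + D * (X * N)) * Y := by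
      conv_lhs => arg 2; rw [hY]
      rw [← mul_assoc]
      congr 1
      rw [mul_add, ← mul_assoc, ← mul_assoc X D N, hXD, mul_assoc D X N]
    have e' : X * X = (-2 : F) • X := by
      have := congrArg (fun u : GL (Fin (t + 2) → Fin m) F => (u : Op m (t + 2) F)) hzz
      simp only [Units.val_mul, Units.val_one] at this
      rw [hX, sub_mul, mul_sub, one_mul, mul_one, this, neg_smul, two_smul]
      abel
    have hle : X.rank ≤ (((X * N) * D + D * (X * N)) * Y).rank := by
      rw [← e]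
      have e3 : X = ((-2 : F)⁻¹ • (1 : Op m (t + 2) F)) * (X * X) := by
        rw [smul_mul_assoc, one_mul, e', smul_smul, inv_mul_cancel₀ (neg_ne_zero.2 h2), one_smul]
      conv_lhs => rw [e3]
      exact Matrix.rank_mul_le_right _ _
    refine hle.trans ((Matrix.rank_mul_le_left _ _).trans ((rank_add_le' _ _).trans (Nat.add_le_add ?_ ?_)))
    · exact (Matrix.rank_mul_le_left _ _).trans hXN
    · exact (Matrix.rank_mul_le_right _ _).trans hXN
  -- three eigenvectors
  set u₀ : Fin m → F := Pi.single p₀ 1 with hu₀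
  set u₁ : Fin m → F := (2 : F)⁻¹ • (Pi.single p₁ 1 + G *ᵥ Pi.single p₁ 1) with hu₁
  have hGu₀ : G *ᵥ u₀ = u₀ := by
    funext a
    rw [hu₀, Matrix.mulVec_single_one, Matrix.col_apply, Pi.single_apply]
    split
    · next h => rw [h, hG00]
    · next h => rw [hGc a h]
  have hGu₁ : G *ᵥ u₁ = u₁ := by
    rw [hu₁, Matrix.mulVec_smul, Matrix.mulVec_add, Matrix.mulVec_mulVec, hGG, Matrix.one_mulVec, add_comm]
  have hu₁p : u₁ p₁ = 1 := by
    rw [hu₁, Pi.smul_apply, Pi.add_apply, Matrix.mulVec_single_one, Matrix.col_apply, hG11, Pi.single_eq_same,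
      smul_eq_mul, show (1 : F) + 1 = 2 by norm_num, inv_mul_cancel₀ h2]
  have hu₀p : u₀ p₁ = 0 := by rw [hu₀, Pi.single_eq_of_ne h01.symm]
  obtain ⟨ε, u₂, hu₂, hε, hind⟩ : ∃ (ε : F) (u₂ : Fin m → F), G *ᵥ u₂ = ε • u₂ ∧
      ((ε = 1 ∧ G = 1) ∨ (ε = -1 ∧ u₂ ≠ 0)) ∧
      ∀ a b c : F, a • u₀ + b • u₁ + c • u₂ = 0 → a = 0 ∧ b = 0 ∧ c = 0 := by
    by_cases hG1 : G = 1
    · refine ⟨1, Pi.single p₂ 1, by rw [hG1, Matrix.one_mulVec, one_smul], Or.inl ⟨rfl, hG1⟩, fun a b c e => ?_⟩
      have h12 : p₁ ≠ p₂ := by simp [p₁, p₂, Fin.ext_iff]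
      have h02 : p₀ ≠ p₂ := by simp [p₀, p₂, Fin.ext_iff]
      have hb : b = 0 := by simpa [hu₁p, hu₀p, h12] using congrFun e p₁
      rw [hb, zero_smul, add_zero] at e
      exact ⟨by simpa [hu₀, h02] using congrFun e p₀, hb, by simpa [hu₀, h02.symm] using congrFun e p₂⟩
    · obtain ⟨k, hk⟩ : ∃ k, (Pi.single k 1 : Fin m → F) - G *ᵥ Pi.single k 1 ≠ 0 := by
        by_contra hno
        push Not at hno
        refine hG1 (Matrix.ext fun a b => ?_)
        have := congrFun (hno b) a
        rw [Pi.sub_apply, Matrix.mulVec_single_one, Matrix.col_apply, Pi.zero_apply, sub_eq_zero, Pi.single_apply] at this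
        rw [← this, Matrix.one_apply]
      set u₂ := (Pi.single k 1 : Fin m → F) - G *ᵥ Pi.single k 1
      have hGu₂ : G *ᵥ u₂ = (-1 : F) • u₂ := by
        rw [Matrix.mulVec_sub, Matrix.mulVec_mulVec, hGG, Matrix.one_mulVec, neg_one_smul, neg_sub]
      refine ⟨-1, u₂, hGu₂, Or.inr ⟨rfl, hk⟩, fun a b c e => ?_⟩
      have e2 := congrArg (G *ᵥ ·) e
      simp only [Matrix.mulVec_add, Matrix.mulVec_smul, hGu₀, hGu₁, hGu₂, Matrix.mulVec_zero] at e2
      have hc : c = 0 := by
        have e3 : ((2 : F) * c) • u₂ = 0 := by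
          calc ((2 : F) * c) • u₂ = (a • u₀ + b • u₁ + c • u₂) - (a • u₀ + b • u₁ + c • (-1 : F) • u₂) := by module
            _ = 0 := by rw [e, e2, sub_zero]
        exact (mul_eq_zero.1 ((smul_eq_zero.1 e3).resolve_right hk)).resolve_left h2
      rw [hc, zero_smul, add_zero] at e
      have hb : b = 0 := by simpa [hu₁p, hu₀p] using congrFun e p₁
      rw [hb, zero_smul, add_zero] at e
      exact ⟨by simpa [hu₀] using congrFun e p₀, hb, hc⟩
  set A' := ε • δ₀ - 1 with hA'
  have himg : ∀ (c : F) (u : Fin m → F), G *ᵥ u = c • u → ∀ w, X *ᵥ tens i u w = tens i u ((c • δ₀ - 1) *ᵥ w) := by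
    intro c u hu w
    refine tens_ext i fun a p => ?_
    rw [hX, Matrix.sub_mulVec, Matrix.one_mulVec, kron_mulVec i hblk, hu, Pi.sub_apply, tens_insertNth,
      tens_insertNth, tens_insertNth, Matrix.sub_mulVec, Matrix.one_mulVec, Matrix.smul_mulVec c δ₀, Pi.sub_apply,
      Pi.smul_apply, Pi.smul_apply, smul_eq_mul, smul_eq_mul]
    ring
  have hlow : A.rank + (A.rank + A'.rank) ≤ X.rank := by
    let RA := LinearMap.range A.mulVecLin
    let RA' := LinearMap.range A'.mulVecLin
    let Φ : RA × RA × RA' →ₗ[F] ((Fin (t + 2) → Fin m) → F) :=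
      (tens i u₀ ∘ₗ RA.subtype).coprod ((tens i u₁ ∘ₗ RA.subtype).coprod (tens i u₂ ∘ₗ RA'.subtype))
    have hΦ : LinearMap.range Φ ≤ LinearMap.range X.mulVecLin := by
      rintro _ ⟨⟨⟨_, a, rfl⟩, ⟨_, b, rfl⟩, ⟨_, c, rfl⟩⟩, rfl⟩
      refine ⟨tens i u₀ a + (tens i u₁ b + tens i u₂ c), ?_⟩
      simp only [Φ, Matrix.mulVecLin_apply, Matrix.mulVec_add, LinearMap.coprod_apply, LinearMap.coe_comp,
        Function.comp_apply, Submodule.coe_subtype]
      rw [himg 1 u₀ (by rw [hGu₀, one_smul]), himg 1 u₁ (by rw [hGu₁, one_smul]), himg ε u₂ hu₂, one_smul]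
    have hinjΦ : Function.Injective Φ := by
      rw [← LinearMap.ker_eq_bot, LinearMap.ker_eq_bot']
      rintro ⟨a, b, c⟩ e
      have key : ∀ p, a.1 p = 0 ∧ b.1 p = 0 ∧ c.1 p = 0 := fun p => hind _ _ _ (funext fun k => by
        have := congrFun e (Fin.insertNth i k p)
        simp only [Φ, LinearMap.coprod_apply, LinearMap.coe_comp, Function.comp_apply, Submodule.coe_subtype,
          Pi.add_apply, tens_insertNth, Pi.zero_apply] at this
        simp only [Pi.add_apply, Pi.smul_apply, smul_eq_mul, Pi.zero_apply]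
        linear_combination this)
      exact Prod.ext (Subtype.ext (funext fun p => (key p).1))
        (Prod.ext (Subtype.ext (funext fun p => (key p).2.1)) (Subtype.ext (funext fun p => (key p).2.2)))
    have h1 := Submodule.finrank_mono hΦ
    rw [LinearMap.finrank_range_of_inj hinjΦ, Module.finrank_prod, Module.finrank_prod] at h1
    exact h1
  have hA'0 : A' = 0 := eq_zero_of_rank_zero (by omega)
  rcases hε with ⟨rfl, hG1⟩ | ⟨rfl, hu₂ne⟩
  · exfalso
    refine hz1 (Units.ext (blk_injective i ?_))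
    rw [Units.val_one, blk_one, ← hZ]
    refine Matrix.ext fun a b => ?_
    rw [hblk, hG1]
    rw [hA', one_smul, sub_eq_zero] at hA'0
    rw [hA'0]
    by_cases hab : a = b <;> simp [Matrix.one_apply, hab]
  have hδ : δ₀ = -1 := by
    rw [hA', neg_one_smul, sub_eq_zero, neg_eq_iff_eq_neg] at hA'0
    exact hA'0
  let v : GL (Fin m) F := ⟨-G, -G, by rw [neg_mul_neg, hGG], by rw [neg_mul_neg, hGG]⟩
  have hzv : z = slotGL i v := Units.ext (blk_injective i (Matrix.ext fun a b => by
    rw [← hZ, hblk, hδ, slotGL_val, blk_slot_up, up_apply]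
    show _ = (-G) a b • _
    rw [Matrix.neg_apply, smul_neg, neg_smul]))
  refine hH.cent_slot hm IH i (v := v) (fun e => ?_) hu₂ne ?_ hdH (hzv ▸ hzd.symm)
  · have := congrFun (congrFun (congrArg (fun u : GL (Fin m) F => (u : Matrix (Fin m) (Fin m) F)) e) p₀) p₀
    rw [Units.val_one, Matrix.one_apply_eq, show ((v : GL (Fin m) F) : Matrix (Fin m) (Fin m) F) = -G from rfl,
      Matrix.neg_apply, hG00] at this
    exact h2 (by linear_combination -this)
  · show (-G) *ᵥ u₂ = u₂
    rw [Matrix.neg_mulVec, hu₂, neg_one_smul, neg_neg]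

end CfsgLib.MaxSub.TPowSL
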