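import Cfsg.Agent.Lib.MaxSub.TPowSL.Model
import Mathlib.GroupTheory.NoncommCoprod

/-!
The projection away from a slot; elements fixing a span of coordinates of one slot.
-/

set_option autoImplicit false
set_option linter.unusedSectionVars false

namespace CfsgLib.MaxSub.TPowSL

open Matrix CfsgLib.Aschbacher
open CfsgLib.Aschbacher.Orth (permMat_one permMat_mul_permMat exists_factorisation)
open scoped MatrixGroups

variable {m t : ℕ} {F : Type*} [Field F]

/-- an operator of the other slots -/
def extA (i : Fin (t + 1)) : Op m t F →* Op m (t + 1) F where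
  toFun X := unblk i (Matrix.diagonal fun _ => X)
  map_one' := blk_injective i (by rw [blk_unblk, blk_one, Matrix.diagonal_one])
  map_mul' X Y := blk_injective i (by rw [blk_unblk, blk_mul, blk_unblk, blk_unblk, Matrix.diagonal_mul_diagonal])

theorem blk_extA (i : Fin (t + 1)) (X : Op m t F) : blk i (extA i X) = Matrix.diagonal fun _ => X := blk_unblk i _

/-- the invertible operators of the other slots -/
def ext (i : Fin (t + 1)) : GL (Fin t → Fin m) F →* GL (Fin (t + 1) → Fin m) F := Units.map (extA i)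

theorem ext_val (i : Fin (t + 1)) (δ : GL (Fin t → Fin m) F) :
    ((ext i δ : GL (Fin (t + 1) → Fin m) F) : Op m (t + 1) F) = extA i (δ : Op m t F) := rfl

theorem extA_slot (i : Fin (t + 1)) (j : Fin t) (x : Matrix (Fin m) (Fin m) F) :
    extA i (slot j x) = slot (i.succAbove j) x :=
  blk_injective i (by rw [blk_extA, blk_slot_other])

theorem ext_slotGL (i : Fin (t + 1)) (j : Fin t) (x : GL (Fin m) F) :
    ext i (slotGL j x) = slotGL (i.succAbove j) x := Units.ext (extA_slot i j _)

theorem extA_comm_slot (i : Fin (t + 1)) (X : Op m t F) (x : Matrix (Fin m) (Fin m) F) :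
    slot i x * extA i X = extA i X * slot i x := by
  refine blk_injective i ?_
  rw [blk_mul, blk_mul, blk_extA, blk_slot_up]
  refine Matrix.ext fun a b => ?_
  rw [Matrix.mul_diagonal, Matrix.diagonal_mul, up_apply, smul_mul_assoc, one_mul, mul_smul_comm, mul_one]

/-- a slot factor and a factor of the other slots -/
def kronHom (i : Fin (t + 1)) : GL (Fin m) F × GL (Fin t → Fin m) F →* GL (Fin (t + 1) → Fin m) F :=
  (slotGL i).noncommCoprod (ext i) fun x δ => Units.ext (extA_comm_slot i (δ : Op m t F) (x : Matrix (Fin m) (Fin m) F))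

theorem kronHom_apply (i : Fin (t + 1)) (x : GL (Fin m) F) (δ : GL (Fin t → Fin m) F) :
    kronHom i (x, δ) = slotGL i x * ext i δ := rfl

theorem blk_kron (i : Fin (t + 1)) (x : GL (Fin m) F) (δ : GL (Fin t → Fin m) F) (a b : Fin m) :
    blk i ((kronHom i (x, δ) : GL (Fin (t + 1) → Fin m) F) : Op m (t + 1) F) a b =
      (x : Matrix (Fin m) (Fin m) F) a b • (δ : Op m t F) := by
  rw [kronHom_apply, Units.val_mul, slotGL_val, ext_val, blk_mul, blk_slot_up, blk_extA, Matrix.mul_diagonal,
    up_apply, smul_mul_assoc, one_mul]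

theorem ext_mem_W (i : Fin (t + 1)) {δ : GL (Fin t → Fin m) F} (hδ : δ ∈ W m t F) : ext i δ ∈ W m (t + 1) F := by
  induction hδ using Subgroup.closure_induction with
  | mem x hx =>
    rcases hx with ⟨gs, hgs⟩ | ⟨σ, hσ⟩
    · have ex : (x : Op m t F) = pureMat fun j => ((gs j : GL (Fin m) F) : Matrix (Fin m) (Fin m) F) :=
        Matrix.ext fun p q => hgs p q
      refine pure_mem_W (f := Fin.insertNth i 1 gs) (blk_injective i ?_)
      refine Matrix.ext fun a b => ?_
      rw [ext_val, blk_extA, blk_pureMat, Fin.insertNth_apply_same, Units.val_one]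
      simp only [Fin.insertNth_apply_succAbove]
      rw [← ex, Matrix.diagonal_apply, Matrix.one_apply]
      split <;> simp
    · set σ' : Equiv.Perm (Fin (t + 1)) := (finSuccEquiv' i).trans ((Equiv.optionCongr σ).trans (finSuccEquiv' i).symm) with hσ'
      have h : ext i x = perm σ' := by
        refine Units.ext (blk_injective i ?_)
        rw [ext_val, blk_extA, perm_val]
        refine Matrix.ext fun a b => Matrix.ext fun p q => ?_
        have hins : (Fin.insertNth i a p : Fin (t + 1) → Fin m) ∘ σ' = Fin.insertNth i a (p ∘ σ) := funext fun z => by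
          rcases eq_or_ne z i with rfl | hz
          · simp [hσ', finSuccEquiv'_at]
          · obtain ⟨l, rfl⟩ := Fin.exists_succAbove_eq hz
            simp [hσ', finSuccEquiv'_succAbove]
        rw [blk_apply, permMat, Matrix.of_apply, hins, Matrix.diagonal_apply]
        simp only [insertNth_inj]
        rcases eq_or_ne a b with rfl | hab
        · simp [hσ p q]
        · simp [hab, Ne.symm hab]
      exact h ▸ perm_mem_W σ'
  | one => rw [map_one]; exact one_mem _
  | mul x y _ _ hx hy => rw [map_mul]; exact mul_mem hx hy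
  | inv x _ hx => rw [map_inv]; exact inv_mem hx

/-- the factors away from a slot -/
def proj (i : Fin (t + 1)) (H : Subgroup (GL (Fin (t + 1) → Fin m) F)) : Subgroup (GL (Fin t → Fin m) F) :=
  (H.comap (kronHom i)).map (MonoidHom.snd _ _)

theorem mem_proj {i : Fin (t + 1)} {H : Subgroup (GL (Fin (t + 1) → Fin m) F)} {δ : GL (Fin t → Fin m) F} :
    δ ∈ proj i H ↔ ∃ x, kronHom i (x, δ) ∈ H := by
  refine ⟨?_, fun ⟨x, hx⟩ => ⟨(x, δ), hx, rfl⟩⟩
  rintro ⟨⟨x, δ'⟩, h, rfl⟩
  exact ⟨x, h⟩

theorem proj_cj (i : Fin (t + 1)) (H : Subgroup (GL (Fin (t + 1) → Fin m) F)) (γ : GL (Fin m) F)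
    (δ : GL (Fin t → Fin m) F) : proj i (cj (kronHom i (γ, δ)) H) = cj δ (proj i H) := by
  ext ε
  rw [mem_proj, mem_cj, mem_proj]
  constructor
  · rintro ⟨x, hx⟩
    rw [mem_cj, ← map_inv, ← map_mul, ← map_mul] at hx
    exact ⟨_, hx⟩
  · rintro ⟨x, hx⟩
    refine ⟨γ * x * γ⁻¹, ?_⟩
    rw [mem_cj, ← map_inv, ← map_mul, ← map_mul]
    simpa [mul_assoc] using hx

theorem Good.proj {t : ℕ} (hm : 3 ≤ m) {H : Subgroup (GL (Fin (t + 2) → Fin m) F)} (hH : Good H) (i : Fin (t + 2)) :
    Good (TPowSL.proj i H) := by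
  intro j
  refine ⟨fun x hx => ?_, fun a b hab β => ?_⟩
  · let y : GL (Fin m) F := Matrix.SpecialLinearGroup.toGL ⟨x, hx⟩
    refine ⟨blkU j (slotGL j y), ⟨_, mem_proj.2 ⟨1, ?_⟩, rfl⟩, ?_⟩
    · rw [kronHom_apply, map_one, one_mul, ext_slotGL]
      exact hH.sl _ y hx
    · rw [blkU_val, slotGL_val, blk_slot_up]; rfl
  rintro _ ⟨δ, hδ, rfl⟩ e
  rw [blkU_val] at e
  obtain ⟨γ, hγ⟩ := mem_proj.1 hδ
  obtain ⟨c, hca, hcb⟩ : ∃ c, c ≠ a ∧ c ≠ b := by
    by_contra hno
    push Not at hno
    have := Finset.card_le_card (s := Finset.univ) (t := {a, b}) fun c _ => by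
      rcases eq_or_ne c a with rfl | hc
      · simp
      · simp [hno c hc]
    have h2 : ({a, b} : Finset (Fin m)).card ≤ 2 := Finset.card_le_two
    simp at this
    omega
  set h := slotGL j (el (Ne.symm hcb) (1 : F)) with hh
  have hh2 : kronHom i (1, h) ∈ H := by
    rw [kronHom_apply, map_one, one_mul, hh, ext_slotGL]
    exact hH.el_mem _ _ _
  set u := δ * h * δ⁻¹ * h⁻¹ with hu
  have hu2 : ext i u ∈ H := by
    have h1 := mul_mem (mul_mem (mul_mem hγ hh2) (inv_mem hγ)) (inv_mem hh2)
    rw [← map_inv, ← map_inv, ← map_mul, ← map_mul, ← map_mul] at h1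
    simpa [kronHom_apply, hu] using h1
  -- the commutator
  set B : Op m (t + 1) F := extA j β with hB
  have eu : (u : Op m (t + 1) F) = 1 + slot j (Matrix.single a c 1) * B := by
    refine blk_injective j ?_
    rw [blk_add, blk_one, blk_mul, blk_slot_up, hB, blk_extA, hu, Units.val_mul, Units.val_mul, Units.val_mul,
      blk_mul, blk_mul, blk_mul, e, blk_inv, hh, ← map_inv (slotGL j), el_inv, blk_el, blk_el, one_smul, neg_smul, one_smul]
    have ei : (((blkU j δ)⁻¹ : (Matrix (Fin m) (Fin m) (Op m t F))ˣ) : Matrix (Fin m) (Fin m) (Op m t F)) =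
        1 + Matrix.single a b (-β) := by
      refine Units.inv_eq_of_mul_eq_one_right ?_
      rw [blkU_val, e, add_mul, one_mul, mul_add, mul_one, Matrix.single_mul_single_of_ne _ _ _ _ (Ne.symm hab)]
      rw [add_zero, add_assoc, ← Matrix.single_add, neg_add_cancel, Matrix.single_zero, add_zero]
    rw [ei]
    have hn : ∀ (p q : Fin m) (y : Op m t F), Matrix.single p q (-y) = -Matrix.single p q y := fun p q y =>
      Matrix.ext fun v w => by
        rw [Matrix.neg_apply, Matrix.single_apply, Matrix.single_apply]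
        split <;> simp
    simp only [hn]
    have eup : up (Op m t F) (Matrix.single a c (1 : F)) * (Matrix.diagonal fun _ => β) = Matrix.single a c β := by
      refine Matrix.ext fun p q => ?_
      rw [Matrix.mul_diagonal, up_apply, Matrix.single_apply, Matrix.single_apply]
      split <;> simp
    rw [eup]
    simp only [add_mul, mul_add, one_mul, mul_one, Matrix.single_mul_single_same,
      Matrix.single_mul_single_of_ne _ _ _ _ (Ne.symm hab), Matrix.single_mul_single_of_ne _ _ _ _ hca,
      Matrix.single_mul_single_of_ne _ _ _ _ hcb, add_zero, zero_add, mul_neg, neg_mul, neg_zero,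
      zero_mul, mul_zero, one_mul, mul_one]
    abel
  -- in the big group
  have hz : extA i (extA j (0 : Op m t F)) = (0 : Op m (t + 2) F) := by
    refine blk_injective i ?_
    rw [blk_extA, blk_zero]
    have : extA j (0 : Op m t F) = (0 : Op m (t + 1) F) := blk_injective j (by rw [blk_extA, blk_zero, Matrix.diagonal_zero])
    rw [this, Matrix.diagonal_zero]
  have hadd : ∀ X Y : Op m (t + 1) F, extA i (X + Y) = extA i X + extA i Y := fun X Y => blk_injective i (by
    rw [blk_add, blk_extA, blk_extA, blk_extA, Matrix.diagonal_add])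
  obtain ⟨r, hr⟩ := hH.scal_op (i.succAbove j) (Ne.symm hca) (Y := extA i B) (fun x y => by
      rw [← extA_slot]
      exact ((show Commute B (slot j (Matrix.single x y (1 : F))) from (extA_comm_slot j β _).symm)).map (extA i))
    hu2 (by rw [ext_val, eu, hadd, map_one, map_mul, extA_slot])
  refine ⟨r, ?_⟩
  have e0 : ∀ (s : ℕ) (k : Fin (s + 1)) (X : Op m s F) (Y : Op m s F) (z : Fin m), extA k X = extA k Y → X = Y :=
    fun s k X Y z he => by
      have := congrFun (congrFun (congrArg (blk k) he) z) z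
      rwa [blk_extA, blk_extA, Matrix.diagonal_apply_eq, Matrix.diagonal_apply_eq] at this
  have hone : ∀ (s : ℕ) (k : Fin (s + 1)) (c : F), extA k (c • (1 : Op m s F)) = c • 1 := fun s k c =>
    blk_injective k (Matrix.ext fun p q => by
      rw [blk_extA, blk_smul, blk_one, Matrix.smul_apply, Matrix.diagonal_apply, Matrix.one_apply]
      split <;> simp)
  exact e0 _ j _ _ a (e0 _ i _ _ a (by rw [← hB, hr, hone, hone]))

/-- the induction hypothesis -/
def HP (m t : ℕ) (F : Type*) [Field F] : Prop :=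
  ∀ (H : Subgroup (GL (Fin (t + 1) → Fin m) F)) (g : GL (Fin (t + 1) → Fin m) F),
    Good H → Good (cj g H) → g ∈ W m (t + 1) F

variable [Fintype F]

theorem Good.stab_coord (hm : 3 ≤ m) (IH : HP m t F) {H : Subgroup (GL (Fin (t + 2) → Fin m) F)} (hH : Good H)
    {g : GL (Fin (t + 2) → Fin m) F} (hH' : Good (cj g H)) (i : Fin (t + 2)) {T : Finset (Fin m)} (hTn : T.Nonempty)
    (hTc : ∃ b, b ∉ T) (hz : ∀ a ∈ T, ∀ c, c ∉ T → blk i (g : Op m (t + 2) F) c a = 0) : g ∈ W m (t + 2) F := by
  classical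
  haveI : NeZero m := ⟨by omega⟩
  haveI : Nonempty (Fin (t + 1) → Fin m) := ⟨fun _ => 0⟩
  obtain ⟨γ, δ, e⟩ := kron_of_stab (g := blkU i g) hm (hH' i) (hH i)
    (fun x hx => by
      obtain ⟨y, hy, rfl⟩ := hx
      exact ⟨g * y * g⁻¹, ⟨y, hy, rfl⟩, by simp⟩)
    (fun x hx => by
      obtain ⟨y, hy, rfl⟩ := hx
      exact ⟨g⁻¹ * y * g, mem_cj.1 hy, by simp⟩) hTn hTc hz
  have eg : g = kronHom i (γ, δ) := Units.ext (blk_injective i (Matrix.ext fun a b => by
    rw [blk_kron, ← e a b, blkU_val]))
  have hδ : δ ∈ W m (t + 1) F := IH (TPowSL.proj i H) δ (hH.proj hm i) (by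
    rw [← proj_cj i H γ δ, ← eg]; exact hH'.proj hm i)
  rw [eg, kronHom_apply]
  exact mul_mem (slotGL_mem_W i γ) (ext_mem_W i hδ)

end CfsgLib.MaxSub.TPowSL
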