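import Cfsg.Agent.Lib.MaxSub.TPowSL.Shape

/-!
Pure tensors conjugate to roots are roots.
-/

set_option autoImplicit false
set_option linter.unusedSectionVars false
set_option linter.style.haveILetI false

namespace CfsgLib.MaxSub.TPowSL

open Matrix CfsgLib.Aschbacher
open CfsgLib.Aschbacher.Orth (scalar_of_pure_scalar pureMat_smul_each)
open scoped MatrixGroups

variable {m t : ℕ} {F : Type*} [Field F]

theorem el_mul {a b : Fin m} (h : a ≠ b) (c c' : F) : el h c * el h c' = el h (c + c') :=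
  Units.ext (Matrix.transvection_mul_transvection_same a b h c c')

theorem el_zero {a b : Fin m} (h : a ≠ b) : el h (0 : F) = 1 := Units.ext (Matrix.transvection_zero a b)

theorem el_pow {a b : Fin m} (h : a ≠ b) (k : ℕ) : el h (1 : F) ^ k = el h (k : F) := by
  induction k with
  | zero => rw [pow_zero, Nat.cast_zero, el_zero]
  | succ k ih => rw [pow_succ, ih, el_mul, Nat.cast_succ]

theorem IsRoot.pow_char {x : GL (Fin t → Fin m) F} (hx : IsRoot x) (p : ℕ) [CharP F p] : x ^ p = 1 := by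
  obtain ⟨i, a, b, h, n, -, rfl⟩ := hx
  rw [conj_pow, ← map_pow, el_pow, CharP.cast_eq_zero, el_zero, map_one, mul_one, mul_inv_cancel]

theorem IsRoot.ne_one [NeZero m] {x : GL (Fin (t + 1) → Fin m) F} (hx : IsRoot x) : x ≠ 1 := by
  obtain ⟨i, a, b, h, n, -, rfl⟩ := hx
  intro e
  have : slotGL i (el (F := F) h 1) = slotGL i 1 := by
    rw [map_one]
    calc slotGL i (el h 1) = n⁻¹ * (n * slotGL i (el h 1) * n⁻¹) * n := by group
      _ = 1 := by rw [e]; group
  have := congrArg (fun u : GL (Fin m) F => (u : Matrix (Fin m) (Fin m) F) a b) (slotGL_inj i this)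
  simp [el_val, Matrix.transvection, h] at this

theorem conj_sub_one {ι : Type} [Fintype ι] [DecidableEq ι] (g r : GL ι F) :
    ((g * r * g⁻¹ : GL ι F) : Matrix ι ι F) - 1 = (g : Matrix ι ι F) * ((r : Matrix ι ι F) - 1) * ((g⁻¹ : GL ι F) : Matrix ι ι F) := by
  rw [Units.val_mul, Units.val_mul, Matrix.mul_sub, Matrix.sub_mul, mul_one, ← Units.val_mul g g⁻¹, mul_inv_cancel, Units.val_one]

theorem slot_single_sq (i : Fin (t + 1)) {a b : Fin m} (h : a ≠ b) :
    ((slotGL i (el (F := F) h 1) : GL (Fin (t + 1) → Fin m) F) : Op m (t + 1) F) - 1 = slot i (Matrix.single a b 1) ∧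
      slot i (Matrix.single a b (1 : F)) * slot i (Matrix.single a b (1 : F)) = 0 := by
  constructor
  · refine blk_injective i ?_
    rw [blk_sub, blk_one, blk_el, add_sub_cancel_left, one_smul, blk_slot_up]
    refine Matrix.ext fun x y => ?_
    rw [up_apply, Matrix.single_apply, Matrix.single_apply]
    split <;> simp
  · rw [← map_mul, Matrix.single_mul_single_of_ne _ _ _ _ (Ne.symm h)]
    refine blk_injective i ?_
    rw [blk_slot_up, map_zero, blk_zero]

/-- square zero and small rank -/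
theorem IsRoot.bounds {x : GL (Fin (t + 1) → Fin m) F} (hx : IsRoot x) (g : GL (Fin (t + 1) → Fin m) F) :
    (((g * x * g⁻¹ : GL (Fin (t + 1) → Fin m) F) : Op m (t + 1) F) - 1) *
        (((g * x * g⁻¹ : GL (Fin (t + 1) → Fin m) F) : Op m (t + 1) F) - 1) = 0 ∧
      (((g * x * g⁻¹ : GL (Fin (t + 1) → Fin m) F) : Op m (t + 1) F) - 1).rank ≤ Fintype.card (Fin t → Fin m) := by
  obtain ⟨i, a, b, h, n, -, rfl⟩ := hx
  set k := g * n with hk
  have e : g * (n * slotGL i (el (F := F) h 1) * n⁻¹) * g⁻¹ = k * slotGL i (el h 1) * k⁻¹ := by rw [hk]; group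
  obtain ⟨e1, e2⟩ := slot_single_sq (F := F) i h
  rw [e, conj_sub_one, e1]
  set E := slot i (Matrix.single a b (1 : F))
  constructor
  · calc (k : Op m (t + 1) F) * E * ((k⁻¹ : GL (Fin (t + 1) → Fin m) F) : Op m (t + 1) F) *
        ((k : Op m (t + 1) F) * E * ((k⁻¹ : GL (Fin (t + 1) → Fin m) F) : Op m (t + 1) F))
        = (k : Op m (t + 1) F) * (E * ((((k⁻¹ : GL (Fin (t + 1) → Fin m) F)) : Op m (t + 1) F) * k) * E) *
          ((k⁻¹ : GL (Fin (t + 1) → Fin m) F) : Op m (t + 1) F) := by simp only [mul_assoc]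
      _ = 0 := by rw [← Units.val_mul, inv_mul_cancel, Units.val_one, mul_one, e2, mul_zero, zero_mul]
  · refine (Matrix.rank_mul_le_left _ _).trans ((Matrix.rank_mul_le_right _ _).trans ?_)
    have hf : E = (Matrix.of fun r p => if r = Fin.insertNth i a p then (1 : F) else 0 : Matrix _ (Fin t → Fin m) F) *
        (Matrix.of fun p s => if s = Fin.insertNth i b p then (1 : F) else 0 : Matrix (Fin t → Fin m) _ F) := by
      refine blk_injective i (Matrix.ext fun x y => Matrix.ext fun p q => ?_)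
      rw [blk_slot_up, up_apply, blk_apply, Matrix.mul_apply, Finset.sum_eq_single p]
      · simp only [Matrix.of_apply, insertNth_inj, Matrix.smul_apply, Matrix.single_apply, Matrix.one_apply,
          and_true, smul_eq_mul]
        rcases eq_or_ne x a with rfl | hx <;> rcases eq_or_ne y b with rfl | hy <;>
          simp [*, eq_comm (a := p), Ne.symm]
      · intro z _ hz
        simp [Matrix.of_apply, insertNth_inj, Ne.symm hz]
      · simp
    rw [hf]
    exact (Matrix.rank_mul_le_left _ _).trans (Matrix.rank_le_card_width _)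

/-- a block diagonal submatrix bounds the rank -/
theorem rank_gt {ι J : Type*} [Fintype ι] [Fintype J] [DecidableEq J] (X : Matrix ι ι F) (r₁ c₁ : J → ι)
    (r₂ c₂ : ι) (B : Matrix J J F) (hB : IsUnit B) (h11 : X.submatrix r₁ c₁ = B) (h12 : ∀ x, X (r₁ x) c₂ = 0)
    (h21 : ∀ y, X r₂ (c₁ y) = 0) (h22 : X r₂ c₂ ≠ 0) : Fintype.card J < X.rank := by
  have hs : X.submatrix (Sum.elim r₁ fun _ : Unit => r₂) (Sum.elim c₁ fun _ : Unit => c₂) =
      Matrix.fromBlocks B 0 0 (Matrix.of fun _ _ => X r₂ c₂) := by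
    refine Matrix.ext fun x y => ?_
    rcases x with x | x <;> rcases y with y | y
    · simp [← h11]
    · simp [h12]
    · simp [h21]
    · simp
  have hu : IsUnit (Matrix.fromBlocks B 0 0 (Matrix.of fun _ _ : Unit => X r₂ c₂)) := by
    rw [Matrix.isUnit_iff_isUnit_det, Matrix.det_fromBlocks_zero₁₂]
    exact ((Matrix.isUnit_iff_isUnit_det B).1 hB).mul (by simpa [Matrix.det_unique] using h22)
  have := Matrix.rank_submatrix_le X (Sum.elim r₁ fun _ : Unit => r₂) (Sum.elim c₁ fun _ : Unit => c₂)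
  rw [hs, Matrix.rank_of_isUnit _ hu, Fintype.card_sum, Fintype.card_unit] at this
  omega

variable [Fintype F]

/-- the pure tensors among the conjugates of roots -/
theorem root_of_pure (hm : 3 ≤ m) {g x d : GL (Fin (t + 1) → Fin m) F} (hx : IsRoot x) (hd : g * x * g⁻¹ = d)
    {a₀ : Fin (t + 1) → GL (Fin m) F}
    (hp₀ : (d : Op m (t + 1) F) = pureMat fun l => ((a₀ l : GL (Fin m) F) : Matrix (Fin m) (Fin m) F)) : IsRoot d := by
  classical
  haveI : NeZero m := ⟨by omega⟩
  haveI : Nonempty (Fin t → Fin m) := ⟨fun _ => 0⟩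
  obtain ⟨p, hchar⟩ := CharP.exists F
  have hprime : p.Prime := CharP.char_is_prime F p
  haveI := Fact.mk hprime
  haveI : ExpChar F p := ExpChar.prime hprime
  obtain ⟨hsq, hrk⟩ := hx.bounds g
  rw [hd] at hsq hrk
  have hdp : d ^ p = 1 := by rw [← hd, conj_pow, hx.pow_char p, mul_one, mul_inv_cancel]
  -- normalise the factors
  have hpow : ∀ k : ℕ, ((d ^ k : GL (Fin (t + 1) → Fin m) F) : Op m (t + 1) F) =
      pureMat fun l => (((a₀ l) ^ k : GL (Fin m) F) : Matrix (Fin m) (Fin m) F) := fun k => by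
    induction k with
    | zero => simp [pureMat_one]
    | succ k ih =>
      rw [pow_succ, Units.val_mul, ih, hp₀, pureMat_mul]
      simp only [pow_succ, Units.val_mul]
  have hscal : ∀ l, ∃ ν : F, ν ≠ 0 ∧ (((a₀ l) ^ p : GL (Fin m) F) : Matrix (Fin m) (Fin m) F) = ν ^ p • 1 := fun l => by
    obtain ⟨μ, hμ⟩ := scalar_of_pure_scalar (one_ne_zero (α := F))
      (b := fun l => (((a₀ l) ^ p : GL (Fin m) F) : Matrix (Fin m) (Fin m) F)) (by rw [← hpow p, hdp, Units.val_one, one_smul]) l
    obtain ⟨ν, hν⟩ := (PerfectRing.bijective_frobenius (R := F) (p := p)).2 μ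
    replace hν : ν ^ p = μ := hν
    refine ⟨ν, fun e => ?_, by rw [hν]; exact hμ⟩
    rw [e, zero_pow hprime.ne_zero] at hν
    exact ((a₀ l) ^ p).ne_zero (by rw [hμ, ← hν, zero_smul])
  choose ν hν0 hν using hscal
  set a : Fin (t + 1) → Matrix (Fin m) (Fin m) F := fun l => (ν l)⁻¹ • ((a₀ l : GL (Fin m) F) : Matrix (Fin m) (Fin m) F)
  have hap : ∀ l, a l ^ p = 1 := fun l => by
    rw [smul_pow, ← Units.val_pow_eq_pow_val, hν, smul_smul, ← mul_pow, inv_mul_cancel₀ (hν0 l), one_pow, one_smul]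
  have hp : (d : Op m (t + 1) F) = pureMat a := by
    have e : (d : Op m (t + 1) F) = (∏ l, ν l) • pureMat a := by
      rw [hp₀, ← pureMat_smul_each]
      congr 1
      funext l
      rw [smul_smul, mul_inv_cancel₀ (hν0 l), one_smul]
    have h1 : (∏ l, ν l) ^ p = 1 := by
      have h2 := congrArg (fun z : GL (Fin (t + 1) → Fin m) F => (z : Op m (t + 1) F)) hdp
      simp only [Units.val_pow_eq_pow_val, Units.val_one] at h2
      have hpa : ∀ k : ℕ, (pureMat a : Op m (t + 1) F) ^ k = pureMat fun l => a l ^ k := fun k => by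
        induction k with
        | zero => simp [pureMat_one]
        | succ k ih => rw [pow_succ, ih, pureMat_mul]; simp only [pow_succ]
      rw [e, smul_pow, hpa, show (fun l => a l ^ p) = fun _ => (1 : Matrix (Fin m) (Fin m) F) from funext hap,
        pureMat_one] at h2
      have h3 := congrFun (congrFun h2 (fun _ => 0)) (fun _ => 0)
      simpa using h3
    have h4 : ∏ l, ν l = 1 := (PerfectRing.bijective_frobenius (R := F) (p := p)).1 (by
      show (∏ l, ν l) ^ p = 1 ^ p
      rw [h1, one_pow])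
    rw [e, h4, one_smul]
  -- a slot with a non-trivial factor
  obtain ⟨i, hi⟩ : ∃ i, a i ≠ 1 := by
    by_contra hno
    push Not at hno
    refine hx.ne_one ?_
    have : d = 1 := Units.ext (by rw [hp, show a = fun _ => 1 from funext hno, pureMat_one, Units.val_one])
    calc x = g⁻¹ * (g * x * g⁻¹) * g := by group
      _ = 1 := by rw [hd, this]; group
  set B : Op m t F := pureMat fun l => a (i.succAbove l)
  have hblk : ∀ b c, blk i (d : Op m (t + 1) F) b c = a i b c • B := fun b c => by rw [hp, blk_pureMat]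
  obtain ⟨w, hw0, hw⟩ : ∃ w, w ≠ 0 ∧ B *ᵥ w = w := by
    have hBp : B ^ p = 1 := by
      have hpa : ∀ k : ℕ, B ^ k = pureMat fun l => a (i.succAbove l) ^ k := fun k => by
        induction k with
        | zero => simp [pureMat_one]
        | succ k ih => rw [pow_succ, ih, pureMat_mul]; simp only [pow_succ]
      rw [hpa, show (fun l => a (i.succAbove l) ^ p) = fun _ => (1 : Matrix (Fin m) (Fin m) F) from
        funext fun l => hap _, pureMat_one]
    have h0 : (B - 1) ^ p = 0 := by rw [sub_pow_char_of_commute _ (Commute.one_right B), hBp, one_pow, sub_self]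
    have hdet : (B - 1).det = 0 := by
      have := congrArg Matrix.det h0
      rw [Matrix.det_pow, Matrix.det_zero] at this
      exact (pow_eq_zero_iff hprime.ne_zero).1 this
    obtain ⟨w, hw0, hw⟩ := Matrix.exists_mulVec_eq_zero_iff.2 hdet
    exact ⟨w, hw0, by rwa [Matrix.sub_mulVec, Matrix.one_mulVec, sub_eq_zero] at hw⟩
  set A : Matrix (Fin m) (Fin m) F := a i - 1 with hA
  have hAA : A * A = 0 := by
    refine Matrix.ext fun b c => ?_
    have e := congrFun (congrFun (congrArg (blk i) hsq) b) c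
    rw [blk_mul, blk_sub, blk_one, blk_zero, Matrix.zero_apply, Matrix.mul_apply] at e
    have hent : ∀ b c, (blk i (d : Op m (t + 1) F) - 1) b c *ᵥ w = A b c • w := fun b c => by
      rw [Matrix.sub_apply, hblk, Matrix.sub_mulVec, Matrix.smul_mulVec, hw, Matrix.one_apply, hA, Matrix.sub_apply,
        Matrix.one_apply, sub_smul]
      split <;> simp
    have e' := congrArg (· *ᵥ w) e
    simp only [Matrix.zero_mulVec, Matrix.sum_mulVec, ← Matrix.mulVec_mulVec, hent, Matrix.mulVec_smul, smul_smul,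
      ← Finset.sum_smul] at e'
    rw [Matrix.mul_apply, Matrix.zero_apply]
    simp only [mul_comm (A _ c) (A b _)] at e'
    exact (smul_eq_zero.1 e').resolve_right hw0
  obtain ⟨u, hu⟩ : ∃ u, A *ᵥ u ≠ 0 := by
    by_contra hno
    push Not at hno
    exact hi (sub_eq_zero.1 (Matrix.ext_iff_mulVec.mpr fun z => by rw [Matrix.zero_mulVec]; exact hno z))
  have hA2 : ∀ z, A *ᵥ (A *ᵥ z) = 0 := fun z => by rw [Matrix.mulVec_mulVec, hAA, Matrix.zero_mulVec]
  -- change of coordinates in the slot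
  have hconj : ∀ (S : GL (Fin m) F),
      (((slotGL i S)⁻¹ * d * slotGL i S : GL (Fin (t + 1) → Fin m) F) : Op m (t + 1) F) - 1 =
        (((slotGL i S)⁻¹ : GL (Fin (t + 1) → Fin m) F) : Op m (t + 1) F) * ((d : Op m (t + 1) F) - 1) *
          (slotGL i S : GL (Fin (t + 1) → Fin m) F) := fun S => by
    have := conj_sub_one (slotGL i S)⁻¹ d
    rwa [inv_inv] at this
  have hent : ∀ (S : GL (Fin m) F) (b c : Fin m),
      blk i (((((slotGL i S)⁻¹ * d * slotGL i S : GL (Fin (t + 1) → Fin m) F) : Op m (t + 1) F)) - 1) b c =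
        (((S⁻¹ : GL (Fin m) F) : Matrix (Fin m) (Fin m) F) * a i * (S : Matrix (Fin m) (Fin m) F)) b c • B -
          (1 : Matrix (Fin m) (Fin m) F) b c • 1 := by
    intro S b c
    have ed : blk i (d : Op m (t + 1) F) = up (Op m t F) (a i) * Matrix.diagonal fun _ => B :=
      Matrix.ext fun b c => by rw [hblk, Matrix.mul_diagonal, up_apply, smul_mul_assoc, one_mul]
    rw [blk_sub, blk_one, Units.val_mul, Units.val_mul, blk_mul, blk_mul, ← map_inv, slotGL_val, slotGL_val,
      blk_slot_up, blk_slot_up, ed, mul_assoc, mul_assoc,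
      show (Matrix.diagonal fun _ => B) * up (Op m t F) (S : Matrix (Fin m) (Fin m) F) =
        up (Op m t F) (S : Matrix (Fin m) (Fin m) F) * Matrix.diagonal fun _ => B from Matrix.ext fun x y => by
          rw [Matrix.mul_diagonal, Matrix.diagonal_mul, up_apply, mul_smul_comm, mul_one, smul_mul_assoc, one_mul],
      ← mul_assoc, ← mul_assoc, ← map_mul, ← map_mul, Matrix.sub_apply, Matrix.mul_diagonal, up_apply, smul_mul_assoc,
      one_mul, Matrix.one_apply, Matrix.one_apply]
    split <;> simp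
  have hrkS : ∀ S : GL (Fin m) F,
      ((((slotGL i S)⁻¹ * d * slotGL i S : GL (Fin (t + 1) → Fin m) F) : Op m (t + 1) F) - 1).rank ≤
        Fintype.card (Fin t → Fin m) := fun S => by
    rw [hconj]
    exact ((Matrix.rank_mul_le_left _ _).trans (Matrix.rank_mul_le_right _ _)).trans hrk
  have hcol : ∀ (S : GL (Fin m) F) (z w : Fin m → F), (S : Matrix (Fin m) (Fin m) F) *ᵥ z = w →
      (((S⁻¹ : GL (Fin m) F) : Matrix (Fin m) (Fin m) F) * a i * (S : Matrix (Fin m) (Fin m) F)) *ᵥ z =
        ((S⁻¹ : GL (Fin m) F) : Matrix (Fin m) (Fin m) F) *ᵥ (w + A *ᵥ w) := fun S z w h => by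
    rw [← Matrix.mulVec_mulVec, ← Matrix.mulVec_mulVec, h, hA, Matrix.sub_mulVec, Matrix.one_mulVec,
      add_sub_cancel]
  have hinv : ∀ (S : GL (Fin m) F) (z w : Fin m → F), (S : Matrix (Fin m) (Fin m) F) *ᵥ z = w →
      ((S⁻¹ : GL (Fin m) F) : Matrix (Fin m) (Fin m) F) *ᵥ w = z := fun S z w h => by
    rw [← h, Matrix.mulVec_mulVec, ← Units.val_mul, inv_mul_cancel, Units.val_one, Matrix.one_mulVec]
  have hBu : IsUnit B := by
    have hne : ∀ l, IsUnit (a l) := fun l =>
      IsUnit.of_mul_eq_one (a l ^ (p - 1)) (by rw [← pow_succ', Nat.sub_add_cancel hprime.one_le, hap])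
    refine IsUnit.of_mul_eq_one (pureMat fun l => ((hne (i.succAbove l)).unit⁻¹ : GL (Fin m) F).1) ?_
    rw [pureMat_mul, ← pureMat_one]
    congr 1
    funext l
    exact (hne _).mul_val_inv
  -- the other factors are trivial
  have hB1 : B = 1 := by
    by_contra hB
    obtain ⟨q₀, q₁, hq⟩ : ∃ q₀ q₁, (B - 1) q₀ q₁ ≠ 0 := by
      by_contra hno
      push Not at hno
      exact hB (sub_eq_zero.1 (Matrix.ext fun x y => hno x y))
    obtain ⟨v, hv0, hv⟩ : ∃ v, A *ᵥ v = 0 ∧ v ∉ Submodule.span F {A *ᵥ u} := by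
      by_contra hno
      push Not at hno
      have hker : LinearMap.ker A.mulVecLin ≤ Submodule.span F {A *ᵥ u} := fun z hz => hno z hz
      have hrange : LinearMap.range A.mulVecLin ≤ LinearMap.ker A.mulVecLin := by
        rintro _ ⟨z, rfl⟩
        exact hA2 z
      have h1 := Submodule.finrank_mono hker
      have h2 := Submodule.finrank_mono hrange
      have h3 := LinearMap.finrank_range_add_finrank_ker A.mulVecLin
      rw [finrank_span_singleton hu] at h1
      rw [Module.finrank_fin_fun] at h3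
      omega
    obtain ⟨S, ι, hι, hS⟩ := exists_frame ![A *ᵥ u, u, v] (by
      rw [Fintype.linearIndependent_iff]
      intro c hc
      simp only [Fin.sum_univ_three, Matrix.cons_val_zero, Matrix.cons_val_one, Matrix.cons_val] at hc
      have hc' := congrArg (A *ᵥ ·) hc
      simp only [Matrix.mulVec_add, Matrix.mulVec_smul, hA2, hv0, smul_zero, zero_add, add_zero, Matrix.mulVec_zero] at hc'
      have c1 : c 1 = 0 := (smul_eq_zero.1 hc').resolve_right hu
      rw [c1, zero_smul, add_zero] at hc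
      have c2 : c 2 = 0 := by
        by_contra c2
        refine hv (Submodule.mem_span_singleton.2 ⟨-(c 2)⁻¹ * c 0, ?_⟩)
        rw [mul_smul, eq_neg_of_add_eq_zero_left hc, neg_smul, smul_neg, neg_neg, smul_smul, inv_mul_cancel₀ c2, one_smul]
      rw [c2, zero_smul, add_zero] at hc
      have c0 : c 0 = 0 := (smul_eq_zero.1 hc).resolve_right hu
      intro l
      fin_cases l <;> assumption)
    have e0 : (S : Matrix (Fin m) (Fin m) F) *ᵥ Pi.single (ι 0) 1 = A *ᵥ u := hS 0
    have e1 : (S : Matrix (Fin m) (Fin m) F) *ᵥ Pi.single (ι 1) 1 = u := hS 1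
    have e2 : (S : Matrix (Fin m) (Fin m) F) *ᵥ Pi.single (ι 2) 1 = v := hS 2
    set a' := ((S⁻¹ : GL (Fin m) F) : Matrix (Fin m) (Fin m) F) * a i * (S : Matrix (Fin m) (Fin m) F) with ha'
    have c1 : ∀ z, a' z (ι 1) = if z = ι 1 ∨ z = ι 0 then 1 else 0 := fun z => by
      have := congrFun (hcol S _ _ e1) z
      rw [Matrix.mulVec_add, hinv S _ _ e1, hinv S _ _ e0, Matrix.mulVec_single_one] at this
      rw [ha', ← Matrix.col_apply (A := _ * a i * _), this, Pi.add_apply, Pi.single_apply, Pi.single_apply]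
      have := hι.ne (show (1 : Fin 3) ≠ 0 by decide)
      by_cases h1 : z = ι 1
      · simp [h1, this]
      · simp [h1]
    have c2 : ∀ z, a' z (ι 2) = if z = ι 2 then 1 else 0 := fun z => by
      have := congrFun (hcol S _ _ e2) z
      rw [hv0, add_zero, hinv S _ _ e2, Matrix.mulVec_single_one] at this
      rw [ha', ← Matrix.col_apply (A := _ * a i * _), this, Pi.single_apply]
    have h01 := hι.ne (show (0 : Fin 3) ≠ 1 by decide)
    have h02 := hι.ne (show (0 : Fin 3) ≠ 2 by decide)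
    have h12 := hι.ne (show (1 : Fin 3) ≠ 2 by decide)
    set X := (((slotGL i S)⁻¹ * d * slotGL i S : GL (Fin (t + 1) → Fin m) F) : Op m (t + 1) F) - 1 with hX
    refine absurd (hrkS S) (not_le.2 (rank_gt X (fun q => Fin.insertNth (α := fun _ => Fin m) i (ι 0) q) (fun q => Fin.insertNth (α := fun _ => Fin m) i (ι 1) q)
      (Fin.insertNth i (ι 2) q₀) (Fin.insertNth i (ι 2) q₁) B hBu ?_ (fun z => ?_) (fun z => ?_) ?_))
    · refine Matrix.ext fun z z' => ?_
      rw [Matrix.submatrix_apply, ← blk_apply i X, hX, hent, ← ha', c1, Matrix.one_apply_ne h01]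
      simp
    · rw [← blk_apply i X, hX, hent, ← ha', c2, Matrix.one_apply_ne h02]
      simp [h02]
    · rw [← blk_apply i X, hX, hent, ← ha', c1, Matrix.one_apply_ne h12.symm]
      simp [h12.symm, h02.symm]
    · rw [← blk_apply i X, hX, hent, ← ha', c2, Matrix.one_apply_eq]
      simpa using hq
  -- rank one
  have hone : ∀ z, ∃ c : F, A *ᵥ z = c • (A *ᵥ u) := by
    intro z
    by_contra hno
    push Not at hno
    obtain ⟨S, ι, hι, hS⟩ := exists_frame ![A *ᵥ u, A *ᵥ z, u, z] (by
      rw [Fintype.linearIndependent_iff]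
      intro c hc
      simp only [Fin.sum_univ_four, Matrix.cons_val_zero, Matrix.cons_val_one, Matrix.cons_val] at hc
      have key : ∀ α β : F, α • (A *ᵥ u) + β • (A *ᵥ z) = 0 → α = 0 ∧ β = 0 := fun α β h => by
        have hβ : β = 0 := by
          by_contra hβ
          refine hno (-(β⁻¹ * α)) ?_
          rw [neg_smul, mul_smul, eq_neg_of_add_eq_zero_left h, smul_neg, neg_neg, smul_smul, inv_mul_cancel₀ hβ, one_smul]
        exact ⟨(smul_eq_zero.1 (by simpa [hβ] using h)).resolve_right hu, hβ⟩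
      have hc' := congrArg (A *ᵥ ·) hc
      simp only [Matrix.mulVec_add, Matrix.mulVec_smul, hA2, smul_zero, zero_add, Matrix.mulVec_zero] at hc'
      obtain ⟨c2, c3⟩ := key _ _ hc'
      rw [c2, c3, zero_smul, zero_smul, add_zero, add_zero] at hc
      obtain ⟨c0, c1⟩ := key _ _ hc
      intro l
      fin_cases l <;> assumption)
    have e0 : (S : Matrix (Fin m) (Fin m) F) *ᵥ Pi.single (ι 0) 1 = A *ᵥ u := hS 0
    have e1 : (S : Matrix (Fin m) (Fin m) F) *ᵥ Pi.single (ι 1) 1 = A *ᵥ z := hS 1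
    have e2 : (S : Matrix (Fin m) (Fin m) F) *ᵥ Pi.single (ι 2) 1 = u := hS 2
    have e3 : (S : Matrix (Fin m) (Fin m) F) *ᵥ Pi.single (ι 3) 1 = z := hS 3
    set a' := ((S⁻¹ : GL (Fin m) F) : Matrix (Fin m) (Fin m) F) * a i * (S : Matrix (Fin m) (Fin m) F) with ha'
    have cc : ∀ (y : Fin m → F) (k l : Fin 4), (S : Matrix (Fin m) (Fin m) F) *ᵥ Pi.single (ι k) 1 = y →
        (S : Matrix (Fin m) (Fin m) F) *ᵥ Pi.single (ι l) 1 = A *ᵥ y → ∀ n, a' (ι n) (ι k) =
        (if n = k then 1 else 0) + if n = l then 1 else 0 := fun y k l hk hl n => by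
      have := congrFun (hcol S _ _ hk) (ι n)
      rw [Matrix.mulVec_add, hinv S _ _ hk, hinv S _ _ hl, Matrix.mulVec_single_one] at this
      rw [ha', ← Matrix.col_apply (A := _ * a i * _), this, Pi.add_apply, Pi.single_apply, Pi.single_apply]
      simp only [hι.eq_iff]
    set X := (((slotGL i S)⁻¹ * d * slotGL i S : GL (Fin (t + 1) → Fin m) F) : Op m (t + 1) F) - 1 with hX
    let q₀ : Fin t → Fin m := fun _ => 0
    refine absurd (hrkS S) (not_le.2 (rank_gt X (fun q => Fin.insertNth (α := fun _ => Fin m) i (ι 0) q) (fun q => Fin.insertNth (α := fun _ => Fin m) i (ι 2) q)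
      (Fin.insertNth i (ι 1) q₀) (Fin.insertNth i (ι 3) q₀) B hBu ?_ (fun w => ?_) (fun w => ?_) ?_))
    · refine Matrix.ext fun w w' => ?_
      rw [Matrix.submatrix_apply, ← blk_apply i X, hX, hent, ← ha', cc u 2 0 e2 e0 0,
        Matrix.one_apply_ne (hι.ne (by decide))]
      simp
    · rw [← blk_apply i X, hX, hent, ← ha', cc z 3 1 e3 e1 0, Matrix.one_apply_ne (hι.ne (by decide))]
      simp
    · rw [← blk_apply i X, hX, hent, ← ha', cc u 2 0 e2 e0 1, Matrix.one_apply_ne (hι.ne (by decide))]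
      simp
    · rw [← blk_apply i X, hX, hent, ← ha', cc z 3 1 e3 e1 1, Matrix.one_apply_ne (hι.ne (by decide)), hB1]
      simp
  -- conjugate to an elementary transvection
  obtain ⟨S, ι, hι, hS⟩ := exists_frame ![A *ᵥ u, u] (by
    rw [Fintype.linearIndependent_iff]
    intro c hc
    simp only [Fin.sum_univ_two, Matrix.cons_val_zero, Matrix.cons_val_one] at hc
    have hc' := congrArg (A *ᵥ ·) hc
    simp only [Matrix.mulVec_add, Matrix.mulVec_smul, hA2, smul_zero, zero_add, Matrix.mulVec_zero] at hc'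
    have c1 : c 1 = 0 := (smul_eq_zero.1 hc').resolve_right hu
    rw [c1, zero_smul, add_zero] at hc
    have c0 : c 0 = 0 := (smul_eq_zero.1 hc).resolve_right hu
    intro l
    fin_cases l <;> assumption)
  have h01 : ι 0 ≠ ι 1 := hι.ne (by decide)
  choose φ hφ using hone
  set ψ : Fin m → F := fun k => φ ((S : Matrix (Fin m) (Fin m) F) *ᵥ Pi.single k 1) with hψ
  have hAS : ∀ k, A *ᵥ ((S : Matrix (Fin m) (Fin m) F) *ᵥ Pi.single k 1) =
      (S : Matrix (Fin m) (Fin m) F) *ᵥ (ψ k • Pi.single (ι 0) 1) := fun k => by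
    rw [Matrix.mulVec_smul, show (S : Matrix (Fin m) (Fin m) F) *ᵥ Pi.single (ι 0) 1 = A *ᵥ u from hS 0, hψ, ← hφ]
  have hψ1 : ψ (ι 1) = 1 := by
    have e := hφ u
    rw [hψ]
    simp only [show (S : Matrix (Fin m) (Fin m) F) *ᵥ Pi.single (ι 1) 1 = u from hS 1]
    exact (sub_eq_zero.1 ((smul_eq_zero.1 (show (1 - φ u) • (A *ᵥ u) = 0 by
      rw [sub_smul, one_smul, ← e, sub_self])).resolve_right hu)).symm
  have hψ0 : ψ (ι 0) = 0 := by
    have e := hφ (A *ᵥ u)
    rw [hA2] at e
    rw [hψ]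
    simp only [show (S : Matrix (Fin m) (Fin m) F) *ᵥ Pi.single (ι 0) 1 = A *ᵥ u from hS 0]
    exact (smul_eq_zero.1 e.symm).resolve_right hu
  set χ : Fin m → F := ψ - Pi.single (ι 1) 1 with hχ
  have hχ0 : χ (ι 0) = 0 := by simp [hχ, hψ0, h01]
  have hχ1 : χ (ι 1) = 0 := by simp [hχ, hψ1]
  have hP : ∀ c : F, (1 + Matrix.vecMulVec (c • Pi.single (ι 1) 1) χ) * (1 + Matrix.vecMulVec ((-c) • Pi.single (ι 1) 1) χ) =
      (1 : Matrix (Fin m) (Fin m) F) := fun c => by
    refine Matrix.ext fun x y => ?_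
    rw [Matrix.mul_add, Matrix.add_mul, Matrix.add_mul, mul_one, mul_one, one_mul]
    simp only [Matrix.add_apply, Matrix.mul_apply, Matrix.vecMulVec_apply, Pi.smul_apply, smul_eq_mul]
    rw [Finset.sum_eq_zero fun z _ => by
      rcases eq_or_ne z (ι 1) with rfl | hz
      · rw [hχ1]; ring
      · rw [Pi.single_eq_of_ne hz]; ring]
    ring
  let P : GL (Fin m) F := ⟨1 + Matrix.vecMulVec ((-1 : F) • Pi.single (ι 1) 1) χ,
    1 + Matrix.vecMulVec ((1 : F) • Pi.single (ι 1) 1) χ, by simpa using hP (-1), by simpa using hP 1⟩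
  have key : a i * ((S * P : GL (Fin m) F) : Matrix (Fin m) (Fin m) F) =
      ((S * P * el h01 1 : GL (Fin m) F) : Matrix (Fin m) (Fin m) F) := by
    rw [show a i = A + 1 by rw [hA]; abel, Matrix.add_mul, one_mul, Units.val_mul (S * P) (el h01 1), el_val,
      Matrix.transvection, Matrix.mul_add, mul_one, add_comm, Units.val_mul]
    congr 1
    refine Matrix.ext_iff_mulVec.mpr fun y => ?_
    -- both sides are a multiple of one vector
    have hy : ∀ y : Fin m → F, A *ᵥ ((S : Matrix (Fin m) (Fin m) F) *ᵥ y) =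
        (ψ ⬝ᵥ y) • ((S : Matrix (Fin m) (Fin m) F) *ᵥ Pi.single (ι 0) 1) := fun y => by
      conv_lhs => rw [pi_eq_sum_univ' y]
      rw [Matrix.mulVec_sum, Matrix.mulVec_sum, dotProduct, Finset.sum_smul]
      refine Finset.sum_congr rfl fun k _ => ?_
      rw [Matrix.mulVec_smul, Matrix.mulVec_smul]
      have e := hAS k
      rw [e, Matrix.mulVec_smul, smul_smul, mul_comm]
    rw [← Matrix.mulVec_mulVec, ← Matrix.mulVec_mulVec, hy, ← Matrix.mulVec_mulVec, ← Matrix.mulVec_mulVec]
    have eP : ∀ z : Fin m → F, (P : Matrix (Fin m) (Fin m) F) *ᵥ z = z - (χ ⬝ᵥ z) • Pi.single (ι 1) 1 := fun z => by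
      show (1 + Matrix.vecMulVec ((-1 : F) • Pi.single (ι 1) 1) χ) *ᵥ z = _
      rw [Matrix.add_mulVec, Matrix.one_mulVec, Matrix.vecMulVec_mulVec]
      funext w; simp; ring
    have esing : Matrix.single (ι 0) (ι 1) (1 : F) *ᵥ y = y (ι 1) • Pi.single (ι 0) 1 := by
      funext w
      simp only [Matrix.mulVec, dotProduct, Matrix.single_apply, Pi.smul_apply, smul_eq_mul, Pi.single_apply]
      rw [Finset.sum_eq_single (ι 1)]
      · by_cases hw : w = ι 0 <;> simp [hw, eq_comm]
      · intro z _ hz; simp [Ne.symm hz]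
      · simp
    have hd1 : χ ⬝ᵥ Pi.single (ι 0) 1 = 0 := by simp [hχ0]
    have hd2 : ψ ⬝ᵥ (y - (χ ⬝ᵥ y) • Pi.single (ι 1) 1) = y (ι 1) := by
      rw [dotProduct_sub, dotProduct_smul, dotProduct_single, hψ1, hχ, sub_dotProduct, single_dotProduct]
      simp
    rw [eP, esing, Matrix.mulVec_smul, eP, hd1, zero_smul, sub_zero, Matrix.mulVec_smul, hd2]
  refine ⟨i, ι 0, ι 1, h01, slotGL i (S * P), slotGL_mem_W i _, ?_⟩
  refine Units.ext (blk_injective i (Matrix.ext fun b c => ?_))
  rw [← map_inv, ← map_mul, ← map_mul, slotGL_val, blk_slot_up, up_apply, hblk, hB1, Units.val_mul, ← key, mul_assoc,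
    ← Units.val_mul, mul_inv_cancel, Units.val_one, mul_one]

end CfsgLib.MaxSub.TPowSL
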