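import Cfsg.Agent.Lib.MaxSub.TPowSL.Proj

/-!
Roots; their centralisers and the centralisers of slot elements with fixed vectors.
-/

set_option autoImplicit false
set_option linter.unusedSectionVars false

namespace CfsgLib.MaxSub.TPowSL

open Matrix CfsgLib.Aschbacher
open scoped MatrixGroups

variable {m t : ℕ} {F : Type*} [Field F]

/-- the conjugates in `W` of the elementary transvections of the slots -/
def IsRoot (x : GL (Fin t → Fin m) F) : Prop :=
  ∃ (i : Fin t) (a b : Fin m) (h : a ≠ b) (n : GL (Fin t → Fin m) F),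
    n ∈ W m t F ∧ n * slotGL i (el h 1) * n⁻¹ = x

theorem isRoot_el (i : Fin t) {a b : Fin m} (h : a ≠ b) : IsRoot (slotGL i (el (F := F) h 1)) :=
  ⟨i, a, b, h, 1, one_mem _, by simp⟩

theorem IsRoot.conj {x : GL (Fin t → Fin m) F} (hx : IsRoot x) {n : GL (Fin t → Fin m) F} (hn : n ∈ W m t F) :
    IsRoot (n * x * n⁻¹) := by
  obtain ⟨i, a, b, h, k, hk, rfl⟩ := hx
  exact ⟨i, a, b, h, n * k, mul_mem hn hk, by group⟩

theorem IsRoot.mem_W {x : GL (Fin t → Fin m) F} (hx : IsRoot x) : x ∈ W m t F := by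
  obtain ⟨i, a, b, h, k, hk, rfl⟩ := hx
  exact mul_mem (mul_mem hk (slotGL_mem_W i _)) (inv_mem hk)

/-- the permutation matrices -/
def permEl (π : Equiv.Perm (Fin m)) : GL (Fin m) F :=
  ⟨Matrix.of fun a b => if π b = a then 1 else 0, Matrix.of fun a b => if π.symm b = a then 1 else 0,
    Matrix.ext fun a b => by simp [Matrix.mul_apply, Matrix.one_apply, eq_comm],
    Matrix.ext fun a b => by simp [Matrix.mul_apply, Matrix.one_apply, eq_comm]⟩

theorem permEl_conj (π : Equiv.Perm (Fin m)) {a b : Fin m} (h : a ≠ b) (c : F) :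
    permEl π * el h c * (permEl π)⁻¹ = el (fun e => h (π.injective e) : π a ≠ π b) c := by
  rw [mul_inv_eq_iff_eq_mul]
  refine Units.ext (Matrix.ext fun x y => ?_)
  rw [Units.val_mul, Units.val_mul, el_val, el_val, Matrix.transvection, Matrix.transvection, Matrix.mul_add,
    Matrix.add_mul, Matrix.mul_one, Matrix.one_mul, Matrix.add_apply, Matrix.add_apply]
  congr 1
  rw [Matrix.mul_apply, Matrix.mul_apply, Finset.sum_eq_single a, Finset.sum_eq_single (π b)]
  · simp only [permEl, Matrix.of_apply, Matrix.single_apply]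
    by_cases hy : b = y <;> by_cases hx : π a = x <;> simp [hx, hy, @eq_comm _ y b]
  · intro z _ hz; simp [Ne.symm hz]
  · simp
  · intro z _ hz; simp [Ne.symm hz]
  · simp

/-- all roots are conjugate -/
theorem IsRoot.exists_conj {x : GL (Fin t → Fin m) F} (hx : IsRoot x) (j : Fin t) {c d : Fin m} (hcd : c ≠ d) :
    ∃ n ∈ W m t F, n * slotGL j (el hcd 1) * n⁻¹ = x := by
  obtain ⟨i, a, b, h, k, hk, rfl⟩ := hx
  obtain ⟨π, hπc, hπd⟩ : ∃ π : Equiv.Perm (Fin m), π c = a ∧ π d = b := by
    refine ⟨(Equiv.swap c a).trans (Equiv.swap (Equiv.swap c a d) b), ?_, ?_⟩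
    · rw [Equiv.trans_apply, Equiv.swap_apply_left, Equiv.swap_apply_of_ne_of_ne ?_ h]
      intro e
      exact hcd ((Equiv.swap c a).injective (by rw [Equiv.swap_apply_left]; exact e))
    · rw [Equiv.trans_apply, Equiv.swap_apply_left]
  subst hπc hπd
  refine ⟨k * (perm (Equiv.swap j i) * slotGL j (permEl π)),
    mul_mem hk (mul_mem (perm_mem_W _) (slotGL_mem_W _ _)), ?_⟩
  have e : perm (Equiv.swap j i) * (slotGL j (permEl π) * slotGL j (el hcd 1) * (slotGL j (permEl π))⁻¹) *
      (perm (Equiv.swap j i))⁻¹ = slotGL i (el (F := F) (fun e => hcd (π.injective e) : π c ≠ π d) 1) := by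
    rw [← map_inv, ← map_mul, ← map_mul, permEl_conj, perm_conj_slot, Equiv.swap_apply_left]
  rw [show slotGL i (el h 1) = slotGL i (el (F := F) (fun e => hcd (π.injective e) : π c ≠ π d) 1) from rfl, ← e]
  group

variable [Fintype F] {H : Subgroup (GL (Fin (t + 2) → Fin m) F)} {g : GL (Fin (t + 2) → Fin m) F}

/-- an element carrying a root to a root -/
theorem Good.mapRoot (hm : 3 ≤ m) (IH : HP m t F) (hH : Good H) (hH' : Good (cj g H))
    {x : GL (Fin (t + 2) → Fin m) F} (hx : IsRoot x) (hx' : IsRoot (g * x * g⁻¹)) : g ∈ W m (t + 2) F := by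
  classical
  obtain ⟨i, a, b, h, n, hn, rfl⟩ := hx
  obtain ⟨n', hn', e⟩ := hx'.exists_conj i h
  set g' := n'⁻¹ * g * n with hg'
  have hc : g' * slotGL i (el h 1) = slotGL i (el h 1) * g' := by
    calc g' * slotGL i (el h 1) = n'⁻¹ * (g * (n * slotGL i (el h 1) * n⁻¹) * g⁻¹) * g * n := by rw [hg']; group
      _ = n'⁻¹ * (n' * slotGL i (el h 1) * n'⁻¹) * g * n := by rw [e]
      _ = _ := by rw [hg']; group
  have hW : g' ∈ W m (t + 2) F := by
    refine Good.stab_coord hm IH (hH.cj_wreath hm (inv_mem hn)) ?_ i (T := {a}) (Finset.singleton_nonempty a)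
      ⟨b, by simp [Ne.symm h]⟩ fun x hx c hc' => ?_
    · rw [cj_mul, hg', show n'⁻¹ * g * n * n⁻¹ = n'⁻¹ * g by group, ← cj_mul]
      exact hH'.cj_wreath hm (inv_mem hn')
    rw [Finset.mem_singleton] at hx hc'
    subst hx
    have e' := congrArg (fun u : GL (Fin (t + 2) → Fin m) F => blk i (u : Op m (t + 2) F)) hc
    simp only [Units.val_mul, blk_mul, blk_el, one_smul, mul_add, add_mul, mul_one, one_mul] at e'
    have e'' := congrFun (congrFun e' c) b
    rw [Matrix.add_apply, Matrix.add_apply, add_right_inj] at e''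
    rwa [Matrix.mul_single_apply_same, Matrix.single_mul_apply_of_ne _ _ _ _ _ hc', mul_one] at e''
  have : g = n' * g' * n⁻¹ := by rw [hg']; group
  rw [this]
  exact mul_mem (mul_mem hn' hW) (inv_mem hn)

theorem Good.cent_root (hm : 3 ≤ m) (IH : HP m t F) (hH : Good H) {x : GL (Fin (t + 2) → Fin m) F} (hx : IsRoot x)
    (hg : g ∈ H) (hc : Commute g x) : g ∈ W m (t + 2) F := by
  refine hH.mapRoot hm IH (by rwa [cj_self hg]) hx ?_
  rwa [hc.eq, mul_inv_cancel_right]

/-- coordinates adapted to a subspace -/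
theorem exists_adapted (K : Submodule F (Fin m → F)) :
    ∃ (S : GL (Fin m) F) (T : Finset (Fin m)), ∀ v : Fin m → F,
      (S : Matrix (Fin m) (Fin m) F) *ᵥ v ∈ K ↔ ∀ a, a ∉ T → v a = 0 := by
  classical
  obtain ⟨K', hK'⟩ := K.exists_isCompl
  let B₀ := ((Module.finBasis F K).prod (Module.finBasis F K')).map (K.prodEquivOfIsCompl K' hK')
  let e : Fin (Module.finrank F K) ⊕ Fin (Module.finrank F K') ≃ Fin m :=
    (Fintype.equivFinOfCardEq (by
      rw [← Module.finrank_eq_card_basis B₀, Module.finrank_fin_fun]))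
  let B := B₀.reindex e
  let L : (Fin m → F) ≃ₗ[F] (Fin m → F) := B.equivFun.symm
  let S : GL (Fin m) F := ⟨LinearMap.toMatrix' L.toLinearMap, LinearMap.toMatrix' L.symm.toLinearMap,
    by rw [← LinearMap.toMatrix'_comp]; simp, by rw [← LinearMap.toMatrix'_comp]; simp⟩
  refine ⟨S, Finset.univ.image fun x => e (Sum.inl x), fun v => ?_⟩
  have eS : (S : Matrix (Fin m) (Fin m) F) *ᵥ v = L v := by
    show LinearMap.toMatrix' L.toLinearMap *ᵥ v = _
    rw [← Matrix.toLin'_apply, Matrix.toLin'_toMatrix']; rfl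
  have ev : L v = ((∑ x, v (e (Sum.inl x)) • Module.finBasis F K x : K) : Fin m → F) +
      ((∑ x, v (e (Sum.inr x)) • Module.finBasis F K' x : K') : Fin m → F) := by
    show B.equivFun.symm v = _
    rw [Module.Basis.equivFun_symm_apply, ← e.sum_comp, Fintype.sum_sum_type]
    simp [B, B₀, Submodule.coe_sum]
  rw [eS, ev, Submodule.add_mem_iff_right _ (SetLike.coe_mem _)]
  set w := ∑ x, v (e (Sum.inr x)) • Module.finBasis F K' x with hw
  constructor
  · intro h a ha
    obtain ⟨x, rfl⟩ : ∃ x, e (Sum.inr x) = a := by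
      obtain ⟨y, rfl⟩ := e.surjective a
      rcases y with x | x
      · exact absurd (Finset.mem_image_of_mem _ (Finset.mem_univ x)) ha
      · exact ⟨x, rfl⟩
    have h0 : w = 0 := Subtype.ext (Submodule.disjoint_def.1 hK'.disjoint _ h w.2)
    exact Fintype.linearIndependent_iff.1 (Module.finBasis F K').linearIndependent _ h0 x
  · intro h
    have : w = 0 := by
      rw [hw]
      exact Finset.sum_eq_zero fun x _ => by
        rw [h _ (fun hx => by
          obtain ⟨y, -, hy⟩ := Finset.mem_image.1 hx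
          exact Sum.inl_ne_inr (e.injective hy)), zero_smul]
    rw [this]
    exact zero_mem _

/-- the centraliser of a slot element with a fixed vector -/
theorem Good.cent_slot (hm : 3 ≤ m) (IH : HP m t F) (hH : Good H) (i : Fin (t + 2)) {v : GL (Fin m) F} (hv : v ≠ 1)
    {u : Fin m → F} (hu : u ≠ 0) (hvu : (v : Matrix (Fin m) (Fin m) F) *ᵥ u = u)
    (hg : g ∈ H) (hc : Commute g (slotGL i v)) : g ∈ W m (t + 2) F := by
  classical
  set K := LinearMap.ker (Matrix.toLin' ((v : Matrix (Fin m) (Fin m) F) - 1)) with hK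
  have memK : ∀ w, w ∈ K ↔ (v : Matrix (Fin m) (Fin m) F) *ᵥ w = w := fun w => by
    rw [hK, LinearMap.mem_ker, Matrix.toLin'_apply, Matrix.sub_mulVec, Matrix.one_mulVec, sub_eq_zero]
  obtain ⟨S, T, hS⟩ := exists_adapted K
  have hSi : ∀ w, (S : Matrix (Fin m) (Fin m) F) *ᵥ (((S⁻¹ : GL (Fin m) F) : Matrix (Fin m) (Fin m) F) *ᵥ w) = w :=
    fun w => by rw [Matrix.mulVec_mulVec, ← Units.val_mul, mul_inv_cancel, Units.val_one, Matrix.one_mulVec]
  set v' : GL (Fin m) F := S⁻¹ * v * S with hv'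
  have hfix : ∀ w, (v' : Matrix (Fin m) (Fin m) F) *ᵥ w = w ↔ ∀ a, a ∉ T → w a = 0 := fun w => by
    rw [← hS, memK, hv', Units.val_mul, Units.val_mul, ← Matrix.mulVec_mulVec, ← Matrix.mulVec_mulVec]
    constructor
    · intro h
      have := congrArg ((S : Matrix (Fin m) (Fin m) F) *ᵥ ·) h
      simpa [hSi] using this
    · intro h
      rw [h, Matrix.mulVec_mulVec, ← Units.val_mul, inv_mul_cancel, Units.val_one, Matrix.one_mulVec]
  have hTn : T.Nonempty := by
    rw [Finset.nonempty_iff_ne_empty]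
    intro hT
    refine hu ?_
    have := (hS _).1 (show (S : Matrix (Fin m) (Fin m) F) *ᵥ (((S⁻¹ : GL (Fin m) F) : Matrix (Fin m) (Fin m) F) *ᵥ u) ∈ K by
      rw [hSi, memK]; exact hvu)
    rw [← hSi u, show ((S⁻¹ : GL (Fin m) F) : Matrix (Fin m) (Fin m) F) *ᵥ u = 0 from
      funext fun a => this a (by simp [hT]), Matrix.mulVec_zero]
  have hTc : ∃ b, b ∉ T := by
    by_contra hno
    push Not at hno
    refine hv (Units.ext (Matrix.ext_iff_mulVec.mpr fun w => ?_))
    rw [Units.val_one, Matrix.one_mulVec, ← memK, ← hSi w, hS]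
    exact fun a ha => absurd (hno a) ha
  set n : GL (Fin (t + 2) → Fin m) F := slotGL i S with hn
  have hnW : n ∈ W m (t + 2) F := slotGL_mem_W i S
  set g' := n⁻¹ * g * n with hg'
  have hc' : g' * slotGL i v' = slotGL i v' * g' := by
    rw [hg', hv', map_mul, map_mul, map_inv, ← hn]
    calc n⁻¹ * g * n * (n⁻¹ * slotGL i v * n) = n⁻¹ * (g * slotGL i v) * n := by group
      _ = n⁻¹ * (slotGL i v * g) * n := by rw [hc.eq]
      _ = _ := by group
  have hW : g' ∈ W m (t + 2) F := by
    have hH2 : Good (cj n⁻¹ H) := hH.cj_wreath hm (inv_mem hnW)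
    refine Good.stab_coord hm IH hH2 ?_ i hTn hTc fun a ha c hc0 => ?_
    · have : g' ∈ cj n⁻¹ H := by rw [mem_cj, hg']; simpa [mul_assoc] using hg
      rwa [cj_self this]
    have e' := congrArg (fun z : GL (Fin (t + 2) → Fin m) F => blk i (z : Op m (t + 2) F)) hc'
    simp only [Units.val_mul, blk_mul, slotGL_val, blk_slot_up] at e'
    ext p q
    -- a vector of scalars fixed by `v'`
    set w : Fin m → F := fun d => blk i (g' : Op m (t + 2) F) d a p q with hw
    have hw' : (v' : Matrix (Fin m) (Fin m) F) *ᵥ w = w := by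
      funext d
      have e'' := congrFun (congrFun (congrFun (congrFun e' d) a) p) q
      rw [Matrix.mul_apply, Matrix.mul_apply, Matrix.sum_apply, Matrix.sum_apply] at e''
      simp only [up_apply, mul_smul_comm, mul_one, smul_mul_assoc, one_mul, Matrix.smul_apply, smul_eq_mul] at e''
      rw [Matrix.mulVec, dotProduct, ← e'']
      have h1 : (v' : Matrix (Fin m) (Fin m) F) *ᵥ Pi.single a 1 = Pi.single a 1 :=
        (hfix _).2 fun b hb => Pi.single_eq_of_ne (by rintro rfl; exact hb ha) _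
      have hcol : ∀ l, (v' : Matrix (Fin m) (Fin m) F) l a = if l = a then 1 else 0 := fun l => by
        have := congrFun h1 l
        simpa [Pi.single_apply] using this
      simp [hcol, hw]
    have := (hfix w).1 hw' c hc0
    simpa [hw] using this
  have : g = n * g' * n⁻¹ := by rw [hg']; group
  rw [this]
  exact mul_mem (mul_mem hnW hW) (inv_mem hnW)

end CfsgLib.MaxSub.TPowSL
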