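import Cfsg.Agent.Lib.MaxSub.TPowSL.Roots
import Mathlib.FieldTheory.Perfect
import Mathlib.Algebra.CharP.Lemmas

/-!
Elements of the wreath subgroup that are conjugate to roots: roots, or for factors of dimension three in
characteristic two the conjugates of the exchange of two slots.
-/

set_option autoImplicit false
set_option linter.unusedSectionVars false

namespace CfsgLib.MaxSub.TPowSL

open Matrix CfsgLib.Aschbacher
open CfsgLib.Aschbacher.Orth (permMat_one permMat_mul_permMat exists_factorisation)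
open scoped MatrixGroups

variable {m t : ℕ} {F : Type*} [Field F]

theorem exists_factor {n : GL (Fin t → Fin m) F} [Fintype F] (hn : n ∈ W m t F) :
    ∃ (σ : Equiv.Perm (Fin t)) (a : Fin t → GL (Fin m) F) (p : GL (Fin t → Fin m) F),
      n = perm σ * p ∧ (p : Op m t F) = pureMat fun l => ((a l : GL (Fin m) F) : Matrix (Fin m) (Fin m) F) := by
  obtain ⟨σ, a, e⟩ := exists_factorisation hn
  refine ⟨σ, a, (perm σ)⁻¹ * n, by group, ?_⟩
  rw [Units.val_mul, e, ← mul_assoc, ← perm_val, ← Units.val_mul, inv_mul_cancel, Units.val_one, one_mul]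

theorem pure_conj_slot {p : GL (Fin t → Fin m) F} {a : Fin t → GL (Fin m) F}
    (hp : (p : Op m t F) = pureMat fun l => ((a l : GL (Fin m) F) : Matrix (Fin m) (Fin m) F)) (i : Fin t)
    (x : GL (Fin m) F) : p * slotGL i x * p⁻¹ = slotGL i (a i * x * (a i)⁻¹) := by
  rw [mul_inv_eq_iff_eq_mul]
  refine Units.ext ?_
  rw [Units.val_mul, Units.val_mul, slotGL_val, slotGL_val, hp, slot_def, slot_def, pureMat_mul, pureMat_mul]
  congr 1
  funext l
  rcases eq_or_ne l i with rfl | h
  · rw [Function.update_self, Function.update_self, ← Units.val_mul, ← Units.val_mul]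
    congr 1
    group
  · rw [Function.update_of_ne h, Function.update_of_ne h, mul_one, one_mul]

theorem wreath_conj_slot {p : GL (Fin t → Fin m) F} {a : Fin t → GL (Fin m) F}
    (hp : (p : Op m t F) = pureMat fun l => ((a l : GL (Fin m) F) : Matrix (Fin m) (Fin m) F))
    (σ : Equiv.Perm (Fin t)) (i : Fin t) (x : GL (Fin m) F) :
    perm σ * p * slotGL i x * (perm σ * p)⁻¹ = slotGL (σ i) (a i * x * (a i)⁻¹) := by
  rw [← perm_conj_slot, ← pure_conj_slot hp]
  group

/-- a root lives in one slot -/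
theorem IsRoot.form [Fintype F] {x : GL (Fin t → Fin m) F} (hx : IsRoot x) :
    ∃ (l : Fin t) (S : GL (Fin m) F) (a b : Fin m) (h : a ≠ b), x = slotGL l (S * el h 1 * S⁻¹) := by
  obtain ⟨i, a, b, h, n, hn, rfl⟩ := hx
  obtain ⟨σ, f, p, rfl, hp⟩ := exists_factor hn
  exact ⟨σ i, f i, a, b, h, wreath_conj_slot hp σ i _⟩

theorem slotGL_inj (i : Fin (t + 1)) [NeZero m] : Function.Injective (slotGL (F := F) (m := m) i) := by
  intro x y h
  refine Units.ext (Matrix.ext fun a b => ?_)
  haveI : Nonempty (Fin t → Fin m) := ⟨fun _ => 0⟩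
  have e := congrFun (congrFun (congrArg (fun u : GL (Fin (t + 1) → Fin m) F => blk i (u : Op m (t + 1) F)) h) a) b
  simp only [slotGL_val, blk_slot_up, up_apply] at e
  exact sub_eq_zero.1 ((smul_eq_zero.1 (show (_ - _) • (1 : Op m t F) = 0 by rw [sub_smul, e, sub_self])).resolve_right one_ne_zero)

theorem slot_scalar_of_eq [NeZero m] {i j : Fin (t + 1)} (hij : i ≠ j) {x y : GL (Fin m) F}
    (h : slotGL i x = slotGL j y) {a b : Fin m} (hab : a ≠ b) : (x : Matrix (Fin m) (Fin m) F) a b = 0 := by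
  haveI : Nonempty (Fin t → Fin m) := ⟨fun _ => 0⟩
  obtain ⟨l, rfl⟩ := Fin.exists_succAbove_eq (Ne.symm hij)
  have e := congrFun (congrFun (congrArg (fun u : GL (Fin (t + 1) → Fin m) F => blk i (u : Op m (t + 1) F)) h) a) b
  simp only [slotGL_val, blk_slot_up, blk_slot_other, up_apply, Matrix.diagonal_apply_ne _ hab] at e
  exact (smul_eq_zero.1 e).resolve_right one_ne_zero

/-- the permutation of a wreath element is unique -/
theorem perm_eq_one [NeZero m] (hm : 3 ≤ m) {σ : Equiv.Perm (Fin (t + 1))} {p : GL (Fin (t + 1) → Fin m) F}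
    {a : Fin (t + 1) → GL (Fin m) F}
    (hp : (p : Op m (t + 1) F) = pureMat fun l => ((a l : GL (Fin m) F) : Matrix (Fin m) (Fin m) F))
    (h : perm σ * p = 1) : σ = 1 := by
  refine Equiv.ext fun i => ?_
  by_contra hne
  rw [Equiv.Perm.one_apply] at hne
  let u : Fin m := ⟨0, by omega⟩
  let v : Fin m := ⟨1, by omega⟩
  have huv : u ≠ v := by simp [u, v, Fin.ext_iff]
  have e := wreath_conj_slot hp σ i (el huv (1 : F))
  rw [h, inv_one, one_mul, mul_one] at e
  have := slot_scalar_of_eq (Ne.symm hne) e huv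
  simp [el_val, Matrix.transvection, huv] at this

/-- coordinates adapted to independent vectors -/
theorem exists_frame {k : ℕ} (v : Fin k → (Fin m → F)) (hv : LinearIndependent F v) :
    ∃ (S : GL (Fin m) F) (ι : Fin k → Fin m), Function.Injective ι ∧
      ∀ l, (S : Matrix (Fin m) (Fin m) F) *ᵥ Pi.single (ι l) 1 = v l := by
  classical
  let B₀ := Module.Basis.extend hv.linearIndepOn_id
  haveI : Fintype ↥(LinearIndepOn.extend hv.linearIndepOn_id (Set.subset_univ (Set.range v))) :=
    Module.Basis.fintypeIndexOfRankLtAleph0 B₀ (Module.rank_lt_aleph0 F _)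
  let e := Fintype.equivFinOfCardEq (n := m)
    (show Fintype.card ↥(LinearIndepOn.extend hv.linearIndepOn_id (Set.subset_univ (Set.range v))) = m by
      rw [← Module.finrank_eq_card_basis B₀, Module.finrank_fin_fun])
  let B := B₀.reindex e
  let L : (Fin m → F) ≃ₗ[F] (Fin m → F) := B.equivFun.symm
  have hin : ∀ l, v l ∈ LinearIndepOn.extend hv.linearIndepOn_id (Set.subset_univ (Set.range v)) := fun l =>
    LinearIndepOn.subset_extend _ _ (Set.mem_range_self l)
  refine ⟨⟨LinearMap.toMatrix' L.toLinearMap, LinearMap.toMatrix' L.symm.toLinearMap,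
      by rw [← LinearMap.toMatrix'_comp]; simp, by rw [← LinearMap.toMatrix'_comp]; simp⟩,
    fun l => e ⟨v l, hin l⟩, fun l l' h => hv.injective (congrArg Subtype.val (e.injective h)), fun l => ?_⟩
  show LinearMap.toMatrix' L.toLinearMap *ᵥ _ = _
  rw [← Matrix.toLin'_apply, Matrix.toLin'_toMatrix']
  show B.equivFun.symm (Pi.single (e ⟨v l, hin l⟩) 1) = v l
  rw [Module.Basis.equivFun_symm_apply, Finset.sum_eq_single (e ⟨v l, hin l⟩)]
  · rw [Pi.single_eq_same, one_smul, Module.Basis.reindex_apply, Equiv.symm_apply_apply]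
    exact Module.Basis.extend_apply_self _ _
  · intro z _ hz
    rw [Pi.single_eq_of_ne hz, zero_smul]
  · simp

end CfsgLib.MaxSub.TPowSL
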