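import Cfsg.Agent.Lib.MaxSub.Transvection

/-!
Matrices over an algebra: a group containing the special linear group of the ground field, with scalar root
coordinates, and an element fixing the span of some of the coordinates.
-/

set_option autoImplicit false
set_option linter.unusedSectionVars false

namespace CfsgLib.MaxSub.TPowSL

open Matrix
open scoped MatrixGroups

variable {m : ℕ} {F R : Type*} [Field F] [Ring R] [Algebra F R]

/-- a scalar of the ground field -/
def IsSc (F : Type*) {R : Type*} [Field F] [Ring R] [Algebra F R] (x : R) : Prop := ∃ c : F, x = c • 1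

/-- matrices over the ground field as matrices over the algebra -/
def up (R : Type*) [Ring R] [Algebra F R] : Matrix (Fin m) (Fin m) F →+* Matrix (Fin m) (Fin m) R :=
  (algebraMap F R).mapMatrix

theorem up_apply (X : Matrix (Fin m) (Fin m) F) (a b : Fin m) : up R X a b = X a b • (1 : R) := by
  simp [up, Algebra.algebraMap_eq_smul_one]

/-- a group containing the special linear group, its root coordinates scalar -/
structure Gd (F : Type*) {R : Type*} [Field F] [Ring R] [Algebra F R]
    (G : Subgroup (Matrix (Fin m) (Fin m) R)ˣ) : Prop where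
  sl : ∀ x : Matrix (Fin m) (Fin m) F, x.det = 1 →
    ∃ g ∈ G, (g : Matrix (Fin m) (Fin m) R) = up R x
  scal : ∀ a b : Fin m, a ≠ b → ∀ β : R, ∀ g ∈ G,
    (g : Matrix (Fin m) (Fin m) R) = 1 + Matrix.single a b β → IsSc F β

namespace Gd

variable {G : Subgroup (Matrix (Fin m) (Fin m) R)ˣ}

theorem exists_el (h : Gd F G) {a b : Fin m} (hab : a ≠ b) :
    ∃ g ∈ G, (g : Matrix (Fin m) (Fin m) R) = 1 + Matrix.single a b 1 ∧
      ((g⁻¹ : (Matrix (Fin m) (Fin m) R)ˣ) : Matrix (Fin m) (Fin m) R) = 1 - Matrix.single a b 1 := by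
  obtain ⟨g, hg, e⟩ := h.sl (Matrix.transvection a b (1 : F)) (Matrix.det_transvection_of_ne a b hab 1)
  have e' : (g : Matrix (Fin m) (Fin m) R) = 1 + Matrix.single a b 1 := by
    rw [e, Matrix.transvection, map_add, map_one]
    congr 1
    ext x y
    rw [up_apply, Matrix.single_apply, Matrix.single_apply]
    split <;> simp
  refine ⟨g, hg, e', Units.inv_eq_of_mul_eq_one_right ?_⟩
  rw [e', add_mul, one_mul, mul_sub, mul_one, Matrix.single_mul_single_of_ne _ _ _ _ (Ne.symm hab)]
  abel

/-- a right column operation on an element of the corner -/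
theorem colMove (h : Gd F G) {u : (Matrix (Fin m) (Fin m) R)ˣ} (hu : u ∈ G) {X : Matrix (Fin m) (Fin m) R}
    (e : (u : Matrix (Fin m) (Fin m) R) = 1 + X) (hXX : X * X = 0) {b c : Fin m} (hbc : b ≠ c)
    (hEX : Matrix.single b c (1 : R) * X = 0) (hX : X c b = 0) :
    ∃ v ∈ G, (v : Matrix (Fin m) (Fin m) R) = 1 + -(X * Matrix.single b c 1) := by
  obtain ⟨k, hk, ek, ek'⟩ := h.exists_el hbc
  have eu : ((u⁻¹ : (Matrix (Fin m) (Fin m) R)ˣ) : Matrix (Fin m) (Fin m) R) = 1 - X :=
    Units.inv_eq_of_mul_eq_one_right (by rw [e, add_mul, one_mul, mul_sub, mul_one, hXX]; abel)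
  refine ⟨k * u * k⁻¹ * u⁻¹, mul_mem (mul_mem (mul_mem hk hu) (inv_mem hk)) (inv_mem hu), ?_⟩
  rw [Units.val_mul, Units.val_mul, Units.val_mul, ek, ek', e, eu]
  have hEE : Matrix.single b c (1 : R) * Matrix.single b c 1 = 0 :=
    Matrix.single_mul_single_of_ne _ _ _ _ (Ne.symm hbc) _
  have hXEX : X * Matrix.single b c (1 : R) * X = 0 := by rw [mul_assoc, hEX, mul_zero]
  have e1 : (1 + Matrix.single b c (1 : R)) * (1 + X) * (1 - Matrix.single b c 1) =
      1 + X - X * Matrix.single b c 1 := by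
    simp only [add_mul, mul_add, mul_sub, one_mul, mul_one, hEX, hEE, add_zero]
    abel
  rw [e1]
  simp only [add_mul, sub_mul, mul_sub, one_mul, mul_one, hXX, hXEX]
  abel

/-- a left row operation on an element of the corner -/
theorem rowMove (h : Gd F G) {u : (Matrix (Fin m) (Fin m) R)ˣ} (hu : u ∈ G) {X : Matrix (Fin m) (Fin m) R}
    (e : (u : Matrix (Fin m) (Fin m) R) = 1 + X) (hXX : X * X = 0) {a b : Fin m} (hab : a ≠ b)
    (hXE : X * Matrix.single a b (1 : R) = 0) :
    ∃ v ∈ G, (v : Matrix (Fin m) (Fin m) R) = 1 + Matrix.single a b 1 * X := by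
  obtain ⟨k, hk, ek, ek'⟩ := h.exists_el hab
  have eu : ((u⁻¹ : (Matrix (Fin m) (Fin m) R)ˣ) : Matrix (Fin m) (Fin m) R) = 1 - X :=
    Units.inv_eq_of_mul_eq_one_right (by rw [e, add_mul, one_mul, mul_sub, mul_one, hXX]; abel)
  refine ⟨k * u * k⁻¹ * u⁻¹, mul_mem (mul_mem (mul_mem hk hu) (inv_mem hk)) (inv_mem hu), ?_⟩
  rw [Units.val_mul, Units.val_mul, Units.val_mul, ek, ek', e, eu]
  have hEE : Matrix.single a b (1 : R) * Matrix.single a b 1 = 0 :=
    Matrix.single_mul_single_of_ne _ _ _ _ (Ne.symm hab) _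
  have hEXE : Matrix.single a b (1 : R) * X * Matrix.single a b 1 = 0 := by rw [mul_assoc, hXE, mul_zero]
  have hEXX : Matrix.single a b (1 : R) * X * X = 0 := by rw [mul_assoc, hXX, mul_zero]
  have e1 : (1 + Matrix.single a b (1 : R)) * (1 + X) * (1 - Matrix.single a b 1) =
      1 + X + Matrix.single a b 1 * X := by
    simp only [add_mul, mul_add, mul_sub, one_mul, mul_one, hXE, hEE, hEXE, add_zero]
    abel
  rw [e1]
  simp only [add_mul, mul_sub, one_mul, mul_one, hXX, hEXX]
  abel

/-- elements of the corner of a proper set of coordinates have scalar entries -/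
theorem corner (h : Gd F G) (hm : 3 ≤ m) {T : Finset (Fin m)} {u : (Matrix (Fin m) (Fin m) R)ˣ} (hu : u ∈ G)
    {X : Matrix (Fin m) (Fin m) R} (e : (u : Matrix (Fin m) (Fin m) R) = 1 + X)
    (hsup : ∀ a b, X a b ≠ 0 → a ∈ T ∧ b ∉ T) (a b : Fin m) : IsSc F (X a b) := by
  by_cases hab : a ∈ T ∧ b ∉ T
  swap
  · exact ⟨0, by rw [zero_smul]; exact not_not.1 fun h0 => hab (hsup a b h0)⟩
  obtain ⟨ha, hb⟩ := hab
  have hrow : ∀ x y, x ∉ T → X x y = 0 := fun x y hx => not_not.1 fun h0 => hx (hsup x y h0).1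
  have hcol : ∀ x y, y ∈ T → X x y = 0 := fun x y hy => not_not.1 fun h0 => (hsup x y h0).2 hy
  have hXX : X * X = 0 := Matrix.ext fun x y => by
    rw [Matrix.mul_apply]
    refine Finset.sum_eq_zero fun z _ => ?_
    by_cases hz : z ∈ T
    · rw [hcol x z hz, zero_mul]
    · rw [hrow z y hz, mul_zero]
  have hne : a ≠ b := fun e0 => hb (e0 ▸ ha)
  by_cases hT : ∀ a' ∈ T, a' = a
  · -- one row
    obtain ⟨c, hcb, hca⟩ : ∃ c, c ≠ b ∧ c ≠ a := by
      by_contra hno
      push Not at hno
      have := Finset.card_le_card (s := Finset.univ) (t := {b, a}) fun c _ => by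
        rcases eq_or_ne c b with rfl | hc
        · simp
        · simp [hno c hc]
      have h2 : ({b, a} : Finset (Fin m)).card ≤ 2 := Finset.card_le_two
      simp at this
      omega
    have hc : c ∉ T := fun hc => hca (hT c hc)
    obtain ⟨v, hv, ev⟩ := h.colMove hu e hXX hcb.symm (Matrix.ext fun x y => by
      rcases eq_or_ne x b with rfl | hx
      · simp [hrow c y hc]
      · simp [hx]) (hrow c b hc)
    obtain ⟨r, hr⟩ := h.scal a c (Ne.symm hca) (-X a b) v hv (ev.trans (by
      congr 1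
      ext x y
      rcases eq_or_ne y c with rfl | hy
      · rcases eq_or_ne x a with rfl | hx
        · simp
        · simp [hx, hrow x b fun hx' => hx (hT x hx'), Ne.symm hx]
      · simp [hy, Ne.symm hy]))
    exact ⟨-r, by rw [neg_smul, ← hr, neg_neg]⟩
  push Not at hT
  obtain ⟨a', ha', hne'⟩ := hT
  by_cases hC : ∀ c, c ∉ T → c = b
  · -- one column
    obtain ⟨v, hv, ev⟩ := h.rowMove hu e hXX hne' (Matrix.ext fun x y => by
      rcases eq_or_ne y a with rfl | hy
      · simp [hcol x a' ha']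
      · simp [hy])
    exact h.scal a' b (fun e0 => hb (e0 ▸ ha')) (X a b) v hv (ev.trans (by
      congr 1
      ext x y
      rcases eq_or_ne x a' with rfl | hx
      · rcases eq_or_ne y b with rfl | hy
        · simp
        · simp [hcol a y (not_not.1 fun hy' => hy (hC y hy')), Ne.symm hy]
      · simp [hx, Ne.symm hx]))
  push Not at hC
  obtain ⟨c, hc, hcb⟩ := hC
  obtain ⟨v, hv, ev⟩ := h.colMove hu e hXX hcb.symm (Matrix.ext fun x y => by
    rcases eq_or_ne x b with rfl | hx
    · simp [hrow c y hc]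
    · simp [hx]) (hrow c b hc)
  set Y := -(X * Matrix.single b c (1 : R)) with hY
  have hYc : ∀ x y, y ≠ c → Y x y = 0 := fun x y hy => by simp [hY, hy]
  have hYv : ∀ x, Y x c = -X x b := fun x => by simp [hY]
  have hYY : Y * Y = 0 := Matrix.ext fun x y => by
    rw [Matrix.mul_apply]
    refine Finset.sum_eq_zero fun z _ => ?_
    rcases eq_or_ne z c with rfl | hz
    · rcases eq_or_ne y z with rfl | hy
      · rw [hYv y, hrow y b hc, neg_zero, mul_zero]
      · rw [hYc z y hy, mul_zero]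
    · rw [hYc x z hz, zero_mul]
  obtain ⟨w, hw, ew⟩ := h.rowMove hv ev hYY hne' (Matrix.ext fun x y => by
    rcases eq_or_ne y a with rfl | hy
    · simp [hYc x a' (fun e0 => hc (e0 ▸ ha'))]
    · simp [hy])
  obtain ⟨r, hr⟩ := h.scal a' c (fun e0 => hc (e0 ▸ ha')) (-X a b) w hw (ew.trans (by
    congr 1
    ext x y
    rcases eq_or_ne x a' with rfl | hx
    · rcases eq_or_ne y c with rfl | hy
      · simp [hYv a]
      · simp [hYc a y hy, Ne.symm hy]
    · simp [hx, Ne.symm hx]))
  exact ⟨-r, by rw [neg_smul, ← hr, neg_neg]⟩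

end Gd

end CfsgLib.MaxSub.TPowSL
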