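import Cfsg.Agent.Lib.MaxSub.TPowSL.Pure

/-!
Elements of the wreath subgroup conjugate to roots and moving slots: exchanges of two slots, for factors of
dimension three in characteristic two.
-/

set_option autoImplicit false
set_option linter.unusedSectionVars false
set_option linter.style.haveILetI false

namespace CfsgLib.MaxSub.TPowSL

open Matrix CfsgLib.Aschbacher
open CfsgLib.Aschbacher.Orth (permMat_one permMat_mul_permMat)
open scoped MatrixGroups

variable {m t : ℕ} {F : Type*} [Field F]

theorem slot_sub_one (i : Fin (t + 1)) (X : Matrix (Fin m) (Fin m) F) : slot i X - 1 = slot i (X - 1) := by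
  refine blk_injective i ?_
  rw [blk_sub, blk_one, blk_slot_up, blk_slot_up, map_sub, map_one]

theorem slot_comm {i j : Fin t} (h : i ≠ j) (X Y : Matrix (Fin m) (Fin m) F) :
    slot i X * slot j Y = slot j Y * slot i X := by
  rw [slot_def, slot_def, pureMat_mul, pureMat_mul]
  congr 1
  funext l
  rcases eq_or_ne l i with rfl | hl
  · simp [Function.update_of_ne h]
  · simp [Function.update_of_ne hl]

theorem pureMat_ne_zero {f : Fin t → Matrix (Fin m) (Fin m) F} (hf : ∀ l, f l ≠ 0) : (pureMat f : Op m t F) ≠ 0 := by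
  have : ∀ l, ∃ a b, f l a b ≠ 0 := fun l => by
    by_contra hno
    push Not at hno
    exact hf l (Matrix.ext hno)
  choose a b hab using this
  intro h
  have e := congrFun (congrFun h a) b
  simp only [pureMat, Matrix.of_apply, Matrix.zero_apply] at e
  obtain ⟨l, -, hl⟩ := Finset.prod_eq_zero_iff.1 e
  exact hab l hl

theorem slot_three_ne_zero [NeZero m] {i j k : Fin t} (hij : i ≠ j) (hik : i ≠ k) (hjk : j ≠ k)
    {X Y Z : Matrix (Fin m) (Fin m) F} (hX : X ≠ 0) (hY : Y ≠ 0) (hZ : Z ≠ 0) :
    slot i X * (slot j Y * slot k Z) ≠ 0 := by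
  rw [slot_def, slot_def, slot_def, pureMat_mul, pureMat_mul]
  refine pureMat_ne_zero fun l => ?_
  rcases eq_or_ne l i with rfl | hi
  · simpa [Function.update_of_ne hij, Function.update_of_ne hik] using hX
  · rcases eq_or_ne l j with rfl | hj
    · simpa [Function.update_of_ne hi, Function.update_of_ne hjk] using hY
    · rcases eq_or_ne l k with rfl | hk
      · simpa [Function.update_of_ne hi, Function.update_of_ne hj] using hZ
      · simp [Function.update_of_ne hi, Function.update_of_ne hj, Function.update_of_ne hk]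

/-- the permutation of a wreath element of finite order -/
theorem perm_pow_eq_one [NeZero m] (hm : 3 ≤ m) {σ : Equiv.Perm (Fin (t + 1))} {p : GL (Fin (t + 1) → Fin m) F}
    {a : Fin (t + 1) → GL (Fin m) F}
    (hp : (p : Op m (t + 1) F) = pureMat fun l => ((a l : GL (Fin m) F) : Matrix (Fin m) (Fin m) F)) (k : ℕ)
    (h : (perm σ * p) ^ k = 1) : σ ^ k = 1 := by
  have key : ∀ (k : ℕ) (i : Fin (t + 1)), ∃ y : GL (Fin m) F, ∀ x,
      (perm σ * p) ^ k * slotGL i x * ((perm σ * p) ^ k)⁻¹ = slotGL ((σ ^ k) i) (y * x * y⁻¹) := by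
    intro k
    induction k with
    | zero => exact fun i => ⟨1, fun x => by simp⟩
    | succ k ih =>
      intro i
      obtain ⟨y, hy⟩ := ih i
      refine ⟨a ((σ ^ k) i) * y, fun x => ?_⟩
      rw [pow_succ' σ, Equiv.Perm.mul_apply, pow_succ' (perm σ * p),
        show a ((σ ^ k) i) * y * x * (a ((σ ^ k) i) * y)⁻¹ =
          a ((σ ^ k) i) * (y * x * y⁻¹) * (a ((σ ^ k) i))⁻¹ by group,
        ← wreath_conj_slot hp σ, ← hy]
      generalize perm σ * p = D
      group
  refine Equiv.ext fun i => ?_
  by_contra hne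
  rw [Equiv.Perm.one_apply] at hne
  let u : Fin m := ⟨0, by omega⟩
  let v : Fin m := ⟨1, by omega⟩
  have huv : u ≠ v := by simp [u, v, Fin.ext_iff]
  obtain ⟨y, hy⟩ := key k i
  have e := hy (el huv (1 : F))
  rw [h, inv_one, one_mul, mul_one] at e
  have := slot_scalar_of_eq (Ne.symm hne) e huv
  simp [el_val, Matrix.transvection, huv] at this

/-- the entries of a wreath element -/
theorem wreath_apply (σ : Equiv.Perm (Fin t)) {p : GL (Fin t → Fin m) F} {f : Fin t → Matrix (Fin m) (Fin m) F}
    (hp : (p : Op m t F) = pureMat f) (r s : Fin t → Fin m) :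
    ((perm σ * p : GL (Fin t → Fin m) F) : Op m t F) r s = ∏ l, f l (r (σ l)) (s l) := by
  rw [Units.val_mul, perm_val, permMat_mul_apply, hp]
  rfl

/-- the coordinates with equal entries in two slots -/
theorem card_diag {i j : Fin (t + 1)} (hij : i ≠ j) :
    Fintype.card {s : Fin (t + 1) → Fin m // s i = s j} = Fintype.card (Fin t → Fin m) := by
  obtain ⟨l, rfl⟩ := Fin.exists_succAbove_eq hij
  refine Fintype.card_congr
    { toFun := fun s q => s.1 (j.succAbove q)
      invFun := fun q => ⟨Fin.insertNth (α := fun _ => Fin m) j (q l) q, by simp⟩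
      left_inv := fun s => Subtype.ext ?_
      right_inv := fun q => by funext z; simp }
  funext z
  rcases eq_or_ne z j with rfl | hz
  · simp [s.2]
  · obtain ⟨z', rfl⟩ := Fin.exists_succAbove_eq hz
    simp

theorem card_lt {i j : Fin (t + 1)} (hij : i ≠ j) :
    2 * Fintype.card {s : Fin (t + 1) → Fin m // s j < s i} + Fintype.card (Fin t → Fin m) =
      m * Fintype.card (Fin t → Fin m) := by
  have h1 : Fintype.card {s : Fin (t + 1) → Fin m // s j < s i} =
      Fintype.card {s : Fin (t + 1) → Fin m // s i < s j} :=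
    Fintype.card_congr
      { toFun := fun s => ⟨s.1 ∘ Equiv.swap i j, by simpa using s.2⟩
        invFun := fun s => ⟨s.1 ∘ Equiv.swap i j, by simpa using s.2⟩
        left_inv := fun s => Subtype.ext (funext fun z => by simp)
        right_inv := fun s => Subtype.ext (funext fun z => by simp) }
  have h2 := Fintype.card_subtype_compl (fun s : Fin (t + 1) → Fin m => s i = s j)
  have h3 : Fintype.card {s : Fin (t + 1) → Fin m // ¬ s i = s j} =
      Fintype.card {s : Fin (t + 1) → Fin m // s j < s i} + Fintype.card {s : Fin (t + 1) → Fin m // s i < s j} := by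
    rw [Fintype.card_subtype, Fintype.card_subtype, Fintype.card_subtype, ← Finset.card_union_of_disjoint]
    · congr 1
      ext s
      simp only [Finset.mem_union, Finset.mem_filter, Finset.mem_univ, true_and]
      omega
    · rw [Finset.disjoint_filter]
      intro s _ ha hb
      omega
  have h4 : Fintype.card (Fin (t + 1) → Fin m) = m * Fintype.card (Fin t → Fin m) := by
    simp [pow_succ']
  have h5 := Fintype.card_subtype_le (fun s : Fin (t + 1) → Fin m => s i = s j)
  rw [card_diag hij] at h2 h5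
  omega

variable [Fintype F]

/-- an element of the wreath subgroup conjugate to a root -/
theorem shape (hm : 3 ≤ m) {g x d : GL (Fin (t + 1) → Fin m) F} (hx : IsRoot x) (hd : g * x * g⁻¹ = d)
    (hW : d ∈ W m (t + 1) F) :
    IsRoot d ∨ ((2 : F) = 0 ∧ m = 3 ∧ ∃ n ∈ W m (t + 1) F, ∃ i j : Fin (t + 1),
      i ≠ j ∧ d = n * perm (Equiv.swap i j) * n⁻¹) := by
  haveI : NeZero m := ⟨by omega⟩
  obtain ⟨σ, a, p, hfac, hp⟩ := exists_factor hW
  by_cases hσ : σ = 1
  · refine Or.inl (root_of_pure hm hx hd (a₀ := a) ?_)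
    rw [hfac, hσ, Units.val_mul, perm_val, permMat_one, one_mul, hp]
  right
  obtain ⟨hsq, -⟩ := hx.bounds g
  rw [hd] at hsq
  obtain ⟨q, hchar⟩ := CharP.exists F
  have hprime : q.Prime := CharP.char_is_prime F q
  let u₀ : Fin m := ⟨0, by omega⟩
  let v₀ : Fin m := ⟨1, by omega⟩
  have huv : u₀ ≠ v₀ := by simp [u₀, v₀, Fin.ext_iff]
  have h2 : (2 : F) = 0 := by
    by_contra h2
    have hdq : σ ^ q = 1 := by
      refine perm_pow_eq_one hm hp q ?_
      rw [← hfac, ← hd, conj_pow, hx.pow_char q, mul_one, mul_inv_cancel]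
    obtain ⟨i, hi⟩ : ∃ i, σ (σ i) ≠ i := by
      by_contra hno
      push Not at hno
      refine hσ ?_
      have hsq' : σ ^ 2 = 1 := Equiv.ext fun i => by rw [pow_two, Equiv.Perm.mul_apply, hno]; rfl
      obtain ⟨r, hr⟩ : Odd q := hprime.odd_of_ne_two fun e => h2 (by subst e; exact_mod_cast CharP.cast_eq_zero F 2)
      rw [hr, pow_succ, pow_mul, hsq', one_pow, one_mul] at hdq
      exact hdq
    have hil : i ≠ σ i := fun e => hi (by rw [← e, ← e])
    have hlk : σ i ≠ σ (σ i) := fun e => hil (σ.injective e)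
    set N : Op m (t + 1) F := (d : Op m (t + 1) F) - 1 with hN
    have hdv : (d : Op m (t + 1) F) = 1 + N := by rw [hN]; abel
    have hdi : ((d⁻¹ : GL (Fin (t + 1) → Fin m) F) : Op m (t + 1) F) = 1 - N :=
      Units.inv_eq_of_mul_eq_one_right (by rw [hdv, add_mul, one_mul, mul_sub, mul_one, hsq]; abel)
    set X₀ : Matrix (Fin m) (Fin m) F := ((el huv (1 : F) : GL (Fin m) F) : Matrix (Fin m) (Fin m) F) - 1 with hX₀
    set y₁ : GL (Fin m) F := a i * el huv 1 * (a i)⁻¹ with hy₁
    set y₂ : GL (Fin m) F := a (σ i) * y₁ * (a (σ i))⁻¹ with hy₂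
    set S₀ := slot i X₀ with hS₀
    set S₁ := slot (σ i) ((y₁ : Matrix (Fin m) (Fin m) F) - 1) with hS₁
    set S₂ := slot (σ (σ i)) ((y₂ : Matrix (Fin m) (Fin m) F) - 1) with hS₂
    have e1 : S₁ = (1 + N) * S₀ * (1 - N) := by
      rw [hS₁, ← slot_sub_one, ← slotGL_val, hy₁, ← wreath_conj_slot hp σ i, ← hfac, conj_sub_one, hdv, hdi,
        slotGL_val, slot_sub_one, ← hX₀]
    have e2 : S₂ = (1 + N) * S₁ * (1 - N) := by
      rw [hS₂, ← slot_sub_one, ← slotGL_val, hy₂, ← wreath_conj_slot hp σ (σ i), ← hfac, conj_sub_one, hdv, hdi,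
        slotGL_val, slot_sub_one, ← hS₁]
    set Q := S₀ - (S₁ + S₁) + S₂ with hQ
    have hQQ : Q * Q = 0 := by
      have eQ : Q = -(N * S₀ * N + N * S₀ * N) := by
        have e22 : S₂ = S₀ + (N * S₀ + N * S₀) - (S₀ * N + S₀ * N) -
            (N * S₀ * N + N * S₀ * N + (N * S₀ * N + N * S₀ * N)) := by
          rw [e2, e1]
          have z1 : ∀ z, N * (N * z) = 0 := fun z => by rw [← mul_assoc, hsq, zero_mul]
          simp only [add_mul, mul_add, sub_mul, mul_sub, one_mul, mul_one, mul_assoc, z1, hsq, mul_zero]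
          abel
        rw [hQ, e22, e1]
        simp only [add_mul, mul_sub, one_mul, mul_one]
        abel
      have z : N * S₀ * N * (N * S₀ * N) = 0 := by
        rw [mul_assoc (N * S₀), ← mul_assoc N, ← mul_assoc N, hsq, zero_mul, zero_mul, mul_zero]
      rw [eQ, neg_mul_neg, add_mul, mul_add, z]
      simp
    have hX₀sq : X₀ * X₀ = 0 := by
      rw [hX₀, el_val, Matrix.transvection, add_sub_cancel_left, Matrix.single_mul_single_of_ne _ _ _ _ (Ne.symm huv)]
    have hcj : ∀ (y x : GL (Fin m) F), ((x : Matrix (Fin m) (Fin m) F) - 1) * ((x : Matrix (Fin m) (Fin m) F) - 1) = 0 →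
        (((y * x * y⁻¹ : GL (Fin m) F) : Matrix (Fin m) (Fin m) F) - 1) *
          (((y * x * y⁻¹ : GL (Fin m) F) : Matrix (Fin m) (Fin m) F) - 1) = 0 := fun y x h => by
      rw [conj_sub_one]
      calc (y : Matrix (Fin m) (Fin m) F) * ((x : Matrix (Fin m) (Fin m) F) - 1) *
              ((y⁻¹ : GL (Fin m) F) : Matrix (Fin m) (Fin m) F) * ((y : Matrix (Fin m) (Fin m) F) *
              ((x : Matrix (Fin m) (Fin m) F) - 1) * ((y⁻¹ : GL (Fin m) F) : Matrix (Fin m) (Fin m) F))
          = (y : Matrix (Fin m) (Fin m) F) * (((x : Matrix (Fin m) (Fin m) F) - 1) *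
              (((y⁻¹ : GL (Fin m) F) : Matrix (Fin m) (Fin m) F) * (y : Matrix (Fin m) (Fin m) F)) *
              ((x : Matrix (Fin m) (Fin m) F) - 1)) * ((y⁻¹ : GL (Fin m) F) : Matrix (Fin m) (Fin m) F) := by
            simp only [mul_assoc]
        _ = 0 := by rw [← Units.val_mul, inv_mul_cancel, Units.val_one, mul_one, h, mul_zero, zero_mul]
    have hy₁sq : ((y₁ : Matrix (Fin m) (Fin m) F) - 1) * ((y₁ : Matrix (Fin m) (Fin m) F) - 1) = 0 := hcj _ _ hX₀sq
    have hy₂sq : ((y₂ : Matrix (Fin m) (Fin m) F) - 1) * ((y₂ : Matrix (Fin m) (Fin m) F) - 1) = 0 := hcj _ _ hy₁sq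
    have h00 : ∀ z, S₀ * (S₀ * z) = 0 := fun z => by
      rw [← mul_assoc, hS₀, ← map_mul, hX₀sq, show slot i (0 : Matrix (Fin m) (Fin m) F) = 0 from
        blk_injective i (by rw [blk_slot_up, map_zero, blk_zero]), zero_mul]
    have h11 : ∀ z, S₁ * (S₁ * z) = 0 := fun z => by
      rw [← mul_assoc, hS₁, ← map_mul, hy₁sq, show slot (σ i) (0 : Matrix (Fin m) (Fin m) F) = 0 from
        blk_injective (σ i) (by rw [blk_slot_up, map_zero, blk_zero]), zero_mul]
    have h22 : S₂ * S₂ = 0 := by
      rw [hS₂, ← map_mul, hy₂sq]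
      exact blk_injective (σ (σ i)) (by rw [blk_slot_up, map_zero, blk_zero])
    have c10 : ∀ z, S₁ * (S₀ * z) = S₀ * (S₁ * z) := fun z => by
      rw [← mul_assoc, ← mul_assoc, hS₀, hS₁, slot_comm hil.symm]
    have c20 : ∀ z, S₂ * (S₀ * z) = S₀ * (S₂ * z) := fun z => by
      rw [← mul_assoc, ← mul_assoc, hS₀, hS₂, slot_comm hi]
    have c21 : ∀ z, S₂ * (S₁ * z) = S₁ * (S₂ * z) := fun z => by
      rw [← mul_assoc, ← mul_assoc, hS₁, hS₂, slot_comm hlk.symm]
    have e : Q * Q * S₂ = -((4 : F) • (S₀ * (S₁ * S₂))) := by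
      rw [hQ, show (4 : F) = 1 + 1 + 1 + 1 by norm_num]
      simp only [mul_add, add_mul, mul_sub, sub_mul, mul_assoc, h00, h11, c10, c20, c21, h22, mul_zero, zero_mul, add_zero, zero_add, add_smul,
        one_smul]
      abel
    rw [hQQ, zero_mul] at e
    have h4 : (4 : F) ≠ 0 := by
      rw [show (4 : F) = 2 * 2 by norm_num]
      exact mul_ne_zero h2 h2
    have hne : ∀ (y x : GL (Fin m) F), (x : Matrix (Fin m) (Fin m) F) - 1 ≠ 0 →
        ((y * x * y⁻¹ : GL (Fin m) F) : Matrix (Fin m) (Fin m) F) - 1 ≠ 0 := fun y x h h' => h (by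
      have : y * x * y⁻¹ = 1 := Units.ext (by rw [Units.val_one]; exact sub_eq_zero.1 h')
      rw [show x = y⁻¹ * (y * x * y⁻¹) * y by group, this, mul_one, inv_mul_cancel, Units.val_one, sub_self])
    have hX₀ne : X₀ ≠ 0 := fun h0 => by
      have := congrFun (congrFun h0 u₀) v₀
      simp [hX₀, el_val, Matrix.transvection, huv] at this
    exact slot_three_ne_zero hil (Ne.symm hi) hlk hX₀ne (hne _ _ hX₀ne) (hne _ _ (hne _ _ hX₀ne))
      ((smul_eq_zero.1 (neg_eq_zero.1 e.symm)).resolve_left h4)
  -- characteristic two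
  have hdd : d * d = 1 := Units.ext (by
    have e := hsq
    rw [sub_mul, mul_sub, one_mul, mul_one] at e
    rw [Units.val_mul, Units.val_one]
    have h2' : (d : Op m (t + 1) F) + (d : Op m (t + 1) F) = 0 := by
      rw [← two_smul F, h2, zero_smul]
    have h1' : (1 : Op m (t + 1) F) + 1 = 0 := by
      rw [← two_smul F, h2, zero_smul]
    calc (d : Op m (t + 1) F) * d = ((d : Op m (t + 1) F) * d - d - (d - 1)) + ((d : Op m (t + 1) F) + d) - (1 + 1) + 1 := by abel
      _ = 1 := by rw [e, h2', h1']; simp)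
  have hσσ : ∀ z, σ (σ z) = z := fun z => by
    have := perm_pow_eq_one hm hp 2 (by rw [← hfac, pow_two, hdd])
    have := congrArg (fun τ : Equiv.Perm (Fin (t + 1)) => τ z) this
    simpa [pow_two] using this
  obtain ⟨i, hi⟩ : ∃ i, σ i ≠ i := by
    by_contra hno
    push Not at hno
    exact hσ (Equiv.ext hno)
  set j := σ i with hj
  have hji : σ j = i := hσσ i
  have hij : i ≠ j := Ne.symm hi
  -- move the factor at `i` to `j`
  set s : GL (Fin (t + 1) → Fin m) F := slotGL j (a i)⁻¹ with hs
  set d' := s * d * s⁻¹ with hd'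
  set a' : Fin (t + 1) → GL (Fin m) F :=
    Function.update (Function.update a i 1) j (a j * a i) with ha'
  have hd'f : d' = perm σ * (slotGL i (a i)⁻¹ * p * slotGL j (a i)) := by
    have e := perm_conj_slot (F := F) σ i (a i)⁻¹
    rw [← hj, ← hs] at e
    rw [hd', hfac, show slotGL j (a i) = s⁻¹ by rw [hs, map_inv, inv_inv], ← e]
    group
  have hp' : ((slotGL i (a i)⁻¹ * p * slotGL j (a i) : GL (Fin (t + 1) → Fin m) F) : Op m (t + 1) F) =
      pureMat fun l => ((a' l : GL (Fin m) F) : Matrix (Fin m) (Fin m) F) := by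
    rw [Units.val_mul, Units.val_mul, slotGL_val, slotGL_val, hp, slot_def, slot_def, pureMat_mul, pureMat_mul]
    congr 1
    funext l
    rcases eq_or_ne l j with rfl | hlj
    · simp [ha', Function.update_of_ne hij.symm]
    · rcases eq_or_ne l i with rfl | hli
      · simp [ha', Function.update_of_ne hlj]
      · simp [ha', Function.update_of_ne hlj, Function.update_of_ne hli]
  set b := a' j with hb
  have hbsc : ∀ x : GL (Fin m) F, b * x * b⁻¹ = x := by
    intro x
    have e1 : ∀ (l : Fin (t + 1)) (x : GL (Fin m) F), d' * slotGL l x * d'⁻¹ = slotGL (σ l) (a' l * x * (a' l)⁻¹) :=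
      fun l x => by rw [hd'f]; exact wreath_conj_slot hp' σ l x
    have hai : a' i = 1 := by rw [ha', Function.update_of_ne hij, Function.update_self]
    have e2 := e1 i x
    rw [hai, one_mul, inv_one, mul_one, ← hj] at e2
    have e3 := e1 j x
    rw [hji, ← hb] at e3
    have e4 := e1 i (b * x * b⁻¹)
    rw [hai, one_mul, inv_one, mul_one, ← hj, ← e3] at e4
    have hdd' : d' * d' = 1 := by
      rw [hd', show s * d * s⁻¹ * (s * d * s⁻¹) = s * (d * d) * s⁻¹ by group, hdd, mul_one, mul_inv_cancel]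
    have hinv : d'⁻¹ = d' := inv_eq_of_mul_eq_one_right hdd'
    refine slotGL_inj j ?_
    rw [← e4, hinv, show d' * (d' * slotGL j x * d') * d' = (d' * d') * slotGL j x * (d' * d') by group, hdd',
      one_mul, mul_one]
  have hb0 : ∀ u v : Fin m, u ≠ v → (b : Matrix (Fin m) (Fin m) F) u v = 0 ∧
      (b : Matrix (Fin m) (Fin m) F) u u = (b : Matrix (Fin m) (Fin m) F) v v := by
    intro u v huv'
    have e := congrArg (fun z : GL (Fin m) F => (z : Matrix (Fin m) (Fin m) F)) (mul_inv_eq_iff_eq_mul.1 (hbsc (el huv'.symm 1)))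
    simp only [Units.val_mul, el_val, Matrix.transvection, Matrix.mul_add, Matrix.add_mul, Matrix.mul_one,
      Matrix.one_mul, add_right_inj] at e
    constructor
    · have := congrFun (congrFun e u) u
      rw [Matrix.mul_single_apply_same, Matrix.single_mul_apply_of_ne _ _ _ _ _ huv', mul_one] at this
      exact this
    · have := congrFun (congrFun e v) u
      rw [Matrix.mul_single_apply_same, Matrix.single_mul_apply_same, mul_one, one_mul] at this
      exact this.symm
  have hentry : ∀ r c : Fin (t + 1) → Fin m, (d' : Op m (t + 1) F) r c = (1 : Matrix (Fin m) (Fin m) F) (r j) (c i) *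
      ((b : Matrix (Fin m) (Fin m) F) (r i) (c j) *
        ∏ l ∈ (Finset.univ.erase i).erase j, (a' l : Matrix (Fin m) (Fin m) F) (r (σ l)) (c l)) := by
    intro r c
    rw [hd'f, wreath_apply σ hp', ← Finset.mul_prod_erase _ _ (Finset.mem_univ i),
      ← Finset.mul_prod_erase _ _ (show j ∈ Finset.univ.erase i by simp [hij.symm]), hji, ← hj, hb]
    congr 2
    rw [ha', Function.update_of_ne hij, Function.update_self, Units.val_one]
  have hrank : ((d' : Op m (t + 1) F) - 1).rank ≤ Fintype.card (Fin t → Fin m) := by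
    have := (hx.bounds (s * g)).2
    rwa [show s * g * x * (s * g)⁻¹ = d' by rw [hd', ← hd]; group] at this
  set J := {c : Fin (t + 1) → Fin m // c j < c i}
  set X := (d' : Op m (t + 1) F) - 1 with hX
  have hoff : ∀ r c : Fin (t + 1) → Fin m, (d' : Op m (t + 1) F) r c ≠ 0 → r j = c i ∧ r i = c j := by
    intro r c h
    rw [hentry] at h
    constructor
    · by_contra hne
      rw [Matrix.one_apply_ne hne, zero_mul] at h
      exact h rfl
    · by_contra hne
      rw [(hb0 _ _ hne).1, zero_mul, mul_zero] at h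
      exact h rfl
  have h11 : X.submatrix (fun c : J => c.1) (fun c : J => c.1) = -1 := by
    refine Matrix.ext fun r c => ?_
    have hz : (d' : Op m (t + 1) F) r.1 c.1 = 0 := by
      by_contra h
      obtain ⟨h1, h2⟩ := hoff _ _ h
      have := r.2; have := c.2; rw [h1, h2] at *; omega
    rw [Matrix.submatrix_apply, hX, Matrix.sub_apply, hz, zero_sub, Matrix.neg_apply]
    congr 1
    simp only [Matrix.one_apply]
    exact if_congr Subtype.ext_iff.symm rfl rfl
  have hcard : Fintype.card J ≤ Fintype.card (Fin t → Fin m) := by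
    refine le_trans ?_ hrank
    have := Matrix.rank_submatrix_le X (fun c : J => c.1) (fun c : J => c.1)
    rw [h11] at this
    rwa [Matrix.rank_of_isUnit _ (isUnit_one (M := Matrix J J F)).neg] at this
  have hcJ : Fintype.card J = Fintype.card {c : Fin (t + 1) → Fin m // c j < c i} := Fintype.card_congr (Equiv.refl _)
  have hc := card_lt (m := m) hij
  have hm3 : m = 3 := by
    by_contra hne
    have h4 : 4 * Fintype.card (Fin t → Fin m) ≤ m * Fintype.card (Fin t → Fin m) := Nat.mul_le_mul_right _ (by omega)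
    have hpos : 0 < Fintype.card (Fin t → Fin m) := Fintype.card_pos_iff.2 ⟨fun _ => u₀⟩
    omega
  refine ⟨h2, hm3, s⁻¹, inv_mem (slotGL_mem_W _ _), i, j, hij, ?_⟩
  suffices hperm : d' = perm (Equiv.swap i j) by rw [← hperm, hd']; group
  have hdiag : ∀ r c : Fin (t + 1) → Fin m, r i = r j → c i = c j → (d' : Op m (t + 1) F) r c = (1 : Op m (t + 1) F) r c := by
    intro r c hr hc'
    by_contra hne
    have hlt := rank_gt X (fun z : J => z.1) (fun z : J => z.1) r c (-1) (isUnit_one (M := Matrix J J F)).neg h11 (fun z => ?_) (fun z => ?_)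
      (by rwa [hX, Matrix.sub_apply, sub_ne_zero])
    · have h3 : m * Fintype.card (Fin t → Fin m) = 3 * Fintype.card (Fin t → Fin m) := by rw [hm3]
      omega
    · rw [hX, Matrix.sub_apply, Matrix.one_apply_ne (fun h => by have := z.2; rw [h, hc'] at this; omega), sub_zero]
      by_contra h
      obtain ⟨e1, e2⟩ := hoff _ _ h
      have := z.2; rw [e1, e2, hc'] at this; omega
    · rw [hX, Matrix.sub_apply, Matrix.one_apply_ne (fun h => by have := z.2; rw [← h, hr] at this; omega), sub_zero]
      by_contra h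
      obtain ⟨e1, e2⟩ := hoff _ _ h
      have := z.2; rw [← e1, ← e2, hr] at this; omega
  refine Units.ext (Matrix.ext fun r c => ?_)
  rw [perm_val, permMat, Matrix.of_apply]
  by_cases h : r j = c i ∧ r i = c j
  · set r' := Function.update (Function.update r i u₀) j u₀
    set c' := Function.update (Function.update c i u₀) j u₀
    have er : r' i = u₀ ∧ r' j = u₀ := by simp [r', hij]
    have ec : c' i = u₀ ∧ c' j = u₀ := by simp [c', hij]
    have e : (d' : Op m (t + 1) F) r c = (d' : Op m (t + 1) F) r' c' := by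
      rw [hentry, hentry, h.1, h.2, er.1, er.2, ec.1, ec.2, Matrix.one_apply_eq, Matrix.one_apply_eq]
      congr 1
      congr 1
      · rcases eq_or_ne (c j) u₀ with e | e
        · rw [e]
        · exact (hb0 _ _ e).2
      · refine Finset.prod_congr rfl fun l hl => ?_
        simp only [Finset.mem_erase, Finset.mem_univ, and_true] at hl
        have hl1 : σ l ≠ i := fun e => hl.1 (σ.injective (e.trans hji.symm))
        have hl2 : σ l ≠ j := fun e => hl.2 (σ.injective (e.trans hj))
        simp [r', c', hl1, hl2, hl.1, hl.2]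
    rw [e, hdiag r' c' (er.1.trans er.2.symm) (ec.1.trans ec.2.symm), Matrix.one_apply]
    refine if_congr ⟨fun hrc => funext fun z => ?_, fun hrc => funext fun z => ?_⟩ rfl rfl
    · rcases eq_or_ne z i with rfl | hzi
      · simp [h.1]
      · rcases eq_or_ne z j with rfl | hzj
        · simp [h.2]
        · have := congrFun hrc z
          simp [r', c', hzi, hzj] at this
          simp [Equiv.swap_apply_of_ne_of_ne hzi hzj, this]
    · subst hrc
      rcases eq_or_ne z i with rfl | hzi
      · rw [er.1, ec.1]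
      · rcases eq_or_ne z j with rfl | hzj
        · rw [er.2, ec.2]
        · simp [r', c', hzi, hzj, Equiv.swap_apply_of_ne_of_ne hzi hzj]
  · rw [not_ne_iff.1 fun h' => h (hoff r c h'), if_neg]
    intro e
    exact h ⟨by rw [e]; simp, by rw [e]; simp⟩

end CfsgLib.MaxSub.TPowSL
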