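import Cfsg.Agent.Lib.MaxSub.TPowSL.Odd

/-!
The transvections of a slot; the slots touched by an element.
-/

set_option autoImplicit false
set_option linter.unusedSectionVars false
set_option linter.style.haveILetI false

namespace CfsgLib.MaxSub.TPowSL

open Matrix CfsgLib.Aschbacher
open scoped MatrixGroups

variable {m t : ℕ} {F : Type*} [Field F]

/-- transvections -/
def Transv (X : GL (Fin m) F) : Prop :=
  ∃ (S : GL (Fin m) F) (a b : Fin m) (h : a ≠ b), X = S * el h 1 * S⁻¹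

theorem isRoot_slot (l : Fin t) {X : GL (Fin m) F} (hX : Transv X) : IsRoot (slotGL l X) := by
  obtain ⟨S, a, b, h, rfl⟩ := hX
  exact ⟨l, a, b, h, slotGL l S, slotGL_mem_W l S, by rw [← map_inv, ← map_mul, ← map_mul]⟩

theorem IsRoot.slot_form [Fintype F] {x : GL (Fin t → Fin m) F} (hx : IsRoot x) :
    ∃ (l : Fin t) (X : GL (Fin m) F), Transv X ∧ x = slotGL l X := by
  obtain ⟨l, S, a, b, h, rfl⟩ := hx.form
  exact ⟨l, _, ⟨S, a, b, h, rfl⟩, rfl⟩

theorem el_ne_one {a b : Fin m} (h : a ≠ b) : el (F := F) h 1 ≠ 1 := fun e => by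
  have := congrFun (congrFun (congrArg (fun u : GL (Fin m) F => (u : Matrix (Fin m) (Fin m) F)) e) a) b
  simp [el_val, Matrix.transvection, h] at this

theorem Transv.ne_one {X : GL (Fin m) F} (hX : Transv X) : X ≠ 1 := by
  obtain ⟨S, a, b, h, rfl⟩ := hX
  intro e
  exact el_ne_one h (by simpa using conj_eq_one_iff.1 e)

theorem Transv.sq {X : GL (Fin m) F} (h2 : (2 : F) = 0) (hX : Transv X) : X * X = 1 := by
  obtain ⟨S, a, b, h, rfl⟩ := hX
  calc S * el h 1 * S⁻¹ * (S * el h 1 * S⁻¹) = S * (el h 1 * el h 1) * S⁻¹ := by group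
    _ = 1 := by rw [el_mul, show (1 : F) + 1 = 0 by linear_combination h2, el_zero, mul_one, mul_inv_cancel]

/-- two transvections with a given commutator, and one not commuting with it -/
theorem Transv.frame (hm : 3 ≤ m) {X : GL (Fin m) F} (hX : Transv X) :
    ∃ A B C : GL (Fin m) F, Transv A ∧ Transv B ∧ Transv C ∧ A * B * A⁻¹ * B⁻¹ = X ∧ Commute A X ∧ Commute B X ∧
      ¬ Commute X C := by
  obtain ⟨S, a, b, h, rfl⟩ := hX
  obtain ⟨c, hca, hcb⟩ : ∃ c, c ≠ a ∧ c ≠ b := by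
    by_contra hno
    push Not at hno
    have := Finset.card_le_card (s := Finset.univ) (t := {a, b}) fun c _ => by
      rcases eq_or_ne c a with rfl | hc
      · simp
      · simp [hno c hc]
    have h2 : ({a, b} : Finset (Fin m)).card ≤ 2 := Finset.card_le_two
    simp at this
    omega
  have hcomm : ∀ {u v : GL (Fin m) F}, u * v = v * u → Commute (S * u * S⁻¹) (S * v * S⁻¹) := fun {u v} e => by
    rw [commute_iff_eq, show S * u * S⁻¹ * (S * v * S⁻¹) = S * (u * v) * S⁻¹ by group,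
      show S * v * S⁻¹ * (S * u * S⁻¹) = S * (v * u) * S⁻¹ by group, e]
  have hel : ∀ {p q r s : Fin m} (hpq : p ≠ q) (hrs : r ≠ s), q ≠ r → s ≠ p →
      el (F := F) hpq 1 * el hrs 1 = el hrs 1 * el hpq 1 := fun {p q r s} hpq hrs h1 h2 => Units.ext (by
    simp only [Units.val_mul, el_val, Matrix.transvection, mul_add, add_mul, mul_one, one_mul,
      Matrix.single_mul_single_of_ne _ _ _ _ h1, Matrix.single_mul_single_of_ne _ _ _ _ h2]
    abel)
  refine ⟨S * el hca.symm 1 * S⁻¹, S * el hcb 1 * S⁻¹, S * el (Ne.symm hcb) 1 * S⁻¹, ⟨S, a, c, _, rfl⟩,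
    ⟨S, c, b, _, rfl⟩, ⟨S, b, c, _, rfl⟩, ?_, hcomm (hel _ _ hca (Ne.symm h)), hcomm (hel _ _ (Ne.symm h) (Ne.symm hcb)), ?_⟩
  · rw [← el_comm (F := F) hca.symm hcb h]
    group
  · intro hc
    have e : el (F := F) h 1 * el (Ne.symm hcb) 1 = el (Ne.symm hcb) 1 * el h 1 := by
      calc el h 1 * el (Ne.symm hcb) 1
          = S⁻¹ * ((S * el h 1 * S⁻¹) * (S * el (Ne.symm hcb) 1 * S⁻¹)) * S := by group
        _ = _ := by rw [hc.eq]; group
    refine el_ne_one (F := F) hca.symm ?_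
    rw [← el_comm (F := F) h (Ne.symm hcb) hca.symm, e]
    group

/-- a transvection given by a vector and a functional -/
theorem transv_of_vec {T : GL (Fin m) F} {u φ : Fin m → F} (hu : u ≠ 0) (hφ : φ ≠ 0) (hφu : φ ⬝ᵥ u = 0)
    (hT : (T : Matrix (Fin m) (Fin m) F) = 1 + Matrix.vecMulVec u φ) : Transv T := by
  obtain ⟨k, hk⟩ : ∃ k, φ k ≠ 0 := Function.ne_iff.1 hφ
  set v : Fin m → F := Pi.single k (φ k)⁻¹ with hv
  have hφv : φ ⬝ᵥ v = 1 := by rw [hv, dotProduct_single, mul_inv_cancel₀ hk]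
  obtain ⟨S, ι, hι, hS⟩ := exists_frame ![u, v] (by
    rw [Fintype.linearIndependent_iff]
    intro c hc
    simp only [Fin.sum_univ_two, Matrix.cons_val_zero, Matrix.cons_val_one] at hc
    have e := congrArg (φ ⬝ᵥ ·) hc
    simp only [dotProduct_add, dotProduct_smul, hφu, hφv, dotProduct_zero, smul_eq_mul, mul_zero, zero_add,
      mul_one] at e
    rw [e, zero_smul, add_zero] at hc
    intro l
    fin_cases l
    · exact (smul_eq_zero.1 hc).resolve_right hu
    · exact e)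
  have h01 : ι 0 ≠ ι 1 := hι.ne (by decide)
  set ψ : Fin m → F := φ ᵥ* (S : Matrix (Fin m) (Fin m) F) with hψ
  have hψe : ∀ l, ψ l = φ ⬝ᵥ ((S : Matrix (Fin m) (Fin m) F) *ᵥ Pi.single l 1) := fun l => by
    rw [Matrix.dotProduct_mulVec, ← hψ, dotProduct_single, mul_one]
  have hψ0 : ψ (ι 0) = 0 := by rw [hψe, hS]; exact hφu
  have hψ1 : ψ (ι 1) = 1 := by rw [hψe, hS]; exact hφv
  set χ : Fin m → F := ψ - Pi.single (ι 1) 1 with hχ
  have hχ0 : χ (ι 0) = 0 := by simp [hχ, hψ0, h01]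
  have hχ1 : χ (ι 1) = 0 := by simp [hχ, hψ1]
  set e₁ : Fin m → F := Pi.single (ι 1) 1 with he₁
  have hd : χ ⬝ᵥ e₁ = 0 := by rw [he₁, dotProduct_single, hχ1, zero_mul]
  have hP : ∀ c : F, (1 + Matrix.vecMulVec (c • e₁) χ) * (1 + Matrix.vecMulVec ((-c) • e₁) χ) =
      (1 : Matrix (Fin m) (Fin m) F) := fun c => by
    rw [mul_add, add_mul, add_mul, mul_one, mul_one, one_mul, Matrix.vecMulVec_mul_vecMulVec, dotProduct_smul, hd,
      smul_zero, zero_smul, Matrix.vecMulVec_zero, add_zero, neg_smul, Matrix.neg_vecMulVec]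
    abel
  let P : GL (Fin m) F := ⟨1 + Matrix.vecMulVec ((-1 : F) • e₁) χ, 1 + Matrix.vecMulVec ((1 : F) • e₁) χ,
    by simpa using hP (-1), by simpa using hP 1⟩
  refine ⟨S * P, ι 0, ι 1, h01, eq_mul_inv_of_mul_eq (Units.ext ?_)⟩
  have hPv : (P : Matrix (Fin m) (Fin m) F) = 1 + Matrix.vecMulVec ((-1 : F) • e₁) χ := rfl
  have e0 : (S : Matrix (Fin m) (Fin m) F) *ᵥ Pi.single (ι 0) 1 = u := hS 0
  have hsingle : Matrix.single (ι 0) (ι 1) (1 : F) = Matrix.vecMulVec (Pi.single (ι 0) 1) e₁ := by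
    refine Matrix.ext fun a b => ?_
    rw [Matrix.single_apply, Matrix.vecMulVec_apply, he₁, Pi.single_apply, Pi.single_apply]
    by_cases ha : a = ι 0 <;> by_cases hb : b = ι 1 <;> simp [ha, hb, eq_comm]
  have hPe : (P : Matrix (Fin m) (Fin m) F) *ᵥ Pi.single (ι 0) 1 = Pi.single (ι 0) 1 := by
    rw [hPv, Matrix.add_mulVec, Matrix.one_mulVec, Matrix.vecMulVec_mulVec, dotProduct_single, hχ0]
    simp
  have hψP : ψ ᵥ* (P : Matrix (Fin m) (Fin m) F) = e₁ := by
    rw [hPv, Matrix.vecMul_add, Matrix.vecMul_one, Matrix.vecMul_vecMulVec, dotProduct_smul, he₁, dotProduct_single,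
      hψ1, hχ]
    simp [he₁]
  rw [Units.val_mul, Units.val_mul, Units.val_mul, Units.val_mul]
  clear hPv
  generalize (P : Matrix (Fin m) (Fin m) F) = P₀ at hPe hψP ⊢
  rw [hT, el_val, Matrix.transvection, hsingle, add_mul,
    mul_add, one_mul, mul_one, mul_assoc (S : Matrix (Fin m) (Fin m) F), Matrix.mul_vecMulVec, hPe, Matrix.mul_vecMulVec,
    e0, Matrix.vecMulVec_mul, ← Matrix.vecMul_vecMul, ← hψ, hψP]

theorem scalar_of_el {A : GL (Fin m) F} (hm : 0 < m) (h : ∀ {a b : Fin m} (hab : a ≠ b), Commute A (el hab 1)) :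
    ∃ c : F, (A : Matrix (Fin m) (Fin m) F) = c • 1 := by
  have h0 : ∀ u v : Fin m, u ≠ v → (A : Matrix (Fin m) (Fin m) F) u v = 0 ∧
      (A : Matrix (Fin m) (Fin m) F) u u = (A : Matrix (Fin m) (Fin m) F) v v := by
    intro u v huv
    have e := congrArg (fun z : GL (Fin m) F => (z : Matrix (Fin m) (Fin m) F)) (h huv.symm).eq
    simp only [Units.val_mul, el_val, Matrix.transvection, Matrix.mul_add, Matrix.add_mul, Matrix.mul_one,
      Matrix.one_mul, add_right_inj] at e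
    constructor
    · have := congrFun (congrFun e u) u
      rw [Matrix.mul_single_apply_same, Matrix.single_mul_apply_of_ne _ _ _ _ _ huv, mul_one] at this
      exact this
    · have := congrFun (congrFun e v) u
      rw [Matrix.mul_single_apply_same, Matrix.single_mul_apply_same, mul_one, one_mul] at this
      exact this.symm
  refine ⟨(A : Matrix (Fin m) (Fin m) F) ⟨0, hm⟩ ⟨0, hm⟩, Matrix.ext fun u v => ?_⟩
  rcases eq_or_ne u v with rfl | huv
  · rw [Matrix.smul_apply, Matrix.one_apply_eq, smul_eq_mul, mul_one]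
    rcases eq_or_ne u ⟨0, hm⟩ with e | e
    · rw [e]
    · exact (h0 _ _ e).2
  · rw [Matrix.smul_apply, Matrix.one_apply_ne huv, smul_zero]
    exact (h0 _ _ huv).1

theorem val_two_eq_zero (h2 : (2 : F) = 0) {ι : Type} [DecidableEq ι] (A : Matrix ι ι F) : A + A = 0 := by
  rw [← two_smul F, h2, zero_smul]

/-- an involution has a fixed vector -/
theorem exists_fixed_of_sq (hm : 0 < m) (h2 : (2 : F) = 0) {v : GL (Fin m) F} (hv : v * v = 1) :
    ∃ u : Fin m → F, u ≠ 0 ∧ (v : Matrix (Fin m) (Fin m) F) *ᵥ u = u := by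
  haveI : Nonempty (Fin m) := ⟨⟨0, hm⟩⟩
  have e := congrArg (fun z : GL (Fin m) F => (z : Matrix (Fin m) (Fin m) F)) hv
  simp only [Units.val_mul, Units.val_one] at e
  have hsq : ((v : Matrix (Fin m) (Fin m) F) - 1) * ((v : Matrix (Fin m) (Fin m) F) - 1) = 0 := by
    calc ((v : Matrix (Fin m) (Fin m) F) - 1) * ((v : Matrix (Fin m) (Fin m) F) - 1)
        = ((v : Matrix (Fin m) (Fin m) F) * v + 1) - ((v : Matrix (Fin m) (Fin m) F) + v) := by noncomm_ring
      _ = 0 := by rw [e, val_two_eq_zero h2, val_two_eq_zero h2, sub_zero]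
  have hd := congrArg Matrix.det hsq
  rw [Matrix.det_mul, Matrix.det_zero, mul_self_eq_zero] at hd
  obtain ⟨u, hu, e'⟩ := Matrix.exists_mulVec_eq_zero_iff.2 hd
  exact ⟨u, hu, by rwa [Matrix.sub_mulVec, Matrix.one_mulVec, sub_eq_zero] at e'⟩

/-- transvections have a common fixed vector -/
theorem Transv.common_fix (hm : 3 ≤ m) {X Y : GL (Fin m) F} (hX : Transv X) (hY : Transv Y) :
    ∃ u : Fin m → F, u ≠ 0 ∧ (X : Matrix (Fin m) (Fin m) F) *ᵥ u = u ∧ (Y : Matrix (Fin m) (Fin m) F) *ᵥ u = u := by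
  obtain ⟨S, a, b, h, rfl⟩ := hX
  obtain ⟨R, c, d, h', rfl⟩ := hY
  have key : ∀ (S : GL (Fin m) F) {a b : Fin m} (h : a ≠ b) (u : Fin m → F),
      (((S⁻¹ : GL (Fin m) F) : Matrix (Fin m) (Fin m) F) *ᵥ u) b = 0 →
      ((S * el h 1 * S⁻¹ : GL (Fin m) F) : Matrix (Fin m) (Fin m) F) *ᵥ u = u := by
    intro S a b h u hb
    rw [Units.val_mul, Units.val_mul, ← Matrix.mulVec_mulVec, ← Matrix.mulVec_mulVec, el_val, Matrix.transvection,
      Matrix.add_mulVec, Matrix.one_mulVec, Matrix.mulVec_add, Matrix.mulVec_mulVec, ← Units.val_mul, mul_inv_cancel,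
      Units.val_one, Matrix.one_mulVec]
    have : Matrix.single a b (1 : F) *ᵥ (((S⁻¹ : GL (Fin m) F) : Matrix (Fin m) (Fin m) F) *ᵥ u) = 0 := by
      funext k
      rw [Pi.zero_apply, Matrix.mulVec, dotProduct, Finset.sum_eq_single b (fun z _ hz => by
        simp [Matrix.single_apply, Ne.symm hz]) (by simp), hb, mul_zero]
    rw [this, Matrix.mulVec_zero, add_zero]
  let L : (Fin m → F) →ₗ[F] (Fin 2 → F) := LinearMap.pi ![
    (LinearMap.proj b).comp (Matrix.mulVecLin ((S⁻¹ : GL (Fin m) F) : Matrix (Fin m) (Fin m) F)),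
    (LinearMap.proj d).comp (Matrix.mulVecLin ((R⁻¹ : GL (Fin m) F) : Matrix (Fin m) (Fin m) F))]
  obtain ⟨u, hu, hu0⟩ : ∃ u ∈ LinearMap.ker L, u ≠ 0 := by
    refine Submodule.exists_mem_ne_zero_of_ne_bot fun e => ?_
    have := L.finrank_range_add_finrank_ker
    rw [e, finrank_bot, Module.finrank_fin_fun] at this
    have h2 := Submodule.finrank_le (LinearMap.range L)
    rw [Module.finrank_fin_fun] at h2
    omega
  exact ⟨u, hu0, key S h u (by simpa [L] using congrFun (LinearMap.mem_ker.1 hu) 0),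
    key R h' u (by simpa [L] using congrFun (LinearMap.mem_ker.1 hu) 1)⟩

/-- a transvection centralised by an element with central square -/
theorem exists_cent_transv [Fintype F] (hm : 3 ≤ m) (h2 : (2 : F) = 0) {A : GL (Fin m) F}
    (hA : ∀ x, Commute (A * A) x) : ∃ T, Transv T ∧ Commute A T := by
  obtain ⟨c, hc⟩ := scalar_of_el (A := A * A) (by omega) fun {a b} h => hA _
  rw [Units.val_mul] at hc
  haveI : CharP F 2 := CharTwo.of_one_ne_zero_of_two_eq_zero one_ne_zero h2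
  haveI : ExpChar F 2 := ExpChar.prime Nat.prime_two
  obtain ⟨ν, hν⟩ := (PerfectRing.bijective_frobenius (R := F) (p := 2)).2 c
  replace hν : ν ^ 2 = c := hν
  set M := (A : Matrix (Fin m) (Fin m) F) - ν • 1 with hM
  have hMM : M * M = 0 := by
    rw [hM, sub_mul, mul_sub, mul_sub, smul_mul_assoc, one_mul, mul_smul_comm, mul_one, smul_mul_smul_comm, mul_one,
      hc, ← pow_two, hν]
    calc c • (1 : Matrix (Fin m) (Fin m) F) - ν • (A : Matrix (Fin m) (Fin m) F) - (ν • (A : Matrix (Fin m) (Fin m) F) - c • 1)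
        = (c • (1 : Matrix (Fin m) (Fin m) F) + c • 1) - (ν • (A : Matrix (Fin m) (Fin m) F) + ν • (A : Matrix (Fin m) (Fin m) F)) := by abel
      _ = 0 := by rw [val_two_eq_zero h2, val_two_eq_zero h2, sub_zero]
  have hrk : 2 * M.rank ≤ m := by
    have := Matrix.rank_add_rank_le_card_of_mul_eq_zero hMM
    rw [Fintype.card_fin] at this
    omega
  have h3 := M.mulVecLin.finrank_range_add_finrank_ker
  rw [Module.finrank_fin_fun] at h3
  change M.rank + _ = m at h3
  obtain ⟨u, hu, hu0⟩ : ∃ u ∈ LinearMap.ker M.mulVecLin, u ≠ 0 :=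
    Submodule.exists_mem_ne_zero_of_ne_bot fun e => by rw [e, finrank_bot] at h3; omega
  let L : (Fin m → F) →ₗ[F] (Fin m → F) × F :=
    (Mᵀ).mulVecLin.prod ((Matrix.replicateRow (Fin 1) u).mulVecLin.comp LinearMap.id |> (LinearMap.proj (0 : Fin 1)).comp)
  obtain ⟨φ, hφ, hφ0⟩ : ∃ φ ∈ LinearMap.ker L, φ ≠ 0 := by
    refine Submodule.exists_mem_ne_zero_of_ne_bot fun e => ?_
    have h4 := L.finrank_range_add_finrank_ker
    rw [e, finrank_bot, Module.finrank_fin_fun, add_zero] at h4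
    let Φ : LinearMap.range L →ₗ[F] LinearMap.range (Mᵀ).mulVecLin × F :=
      { toFun := fun x => (⟨x.1.1, by obtain ⟨w, hw⟩ := x.2; exact ⟨w, by rw [← hw]; rfl⟩⟩, x.1.2)
        map_add' := fun x y => rfl
        map_smul' := fun c x => rfl }
    have h6 := LinearMap.finrank_le_finrank_of_injective (f := Φ) (fun x y h =>
      Subtype.ext (Prod.ext (congrArg (fun z => z.1.1) h) (congrArg (fun z => z.2) h)))
    rw [Module.finrank_prod, Module.finrank_self] at h6
    change _ ≤ Mᵀ.rank + 1 at h6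
    rw [Matrix.rank_transpose] at h6
    omega
  rw [LinearMap.mem_ker] at hu hφ
  rw [Matrix.mulVecLin_apply] at hu
  have hMφ : φ ᵥ* M = 0 := by
    have := congrArg Prod.fst hφ
    change Mᵀ *ᵥ φ = 0 at this
    rwa [Matrix.mulVec_transpose] at this
  have hφu : φ ⬝ᵥ u = 0 := by
    have := congrArg Prod.snd hφ
    change u ⬝ᵥ φ = 0 at this
    rw [dotProduct_comm]
    exact this
  have hTT : (1 + Matrix.vecMulVec u φ) * (1 + Matrix.vecMulVec u φ) = (1 : Matrix (Fin m) (Fin m) F) := by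
    rw [add_mul, mul_add, mul_add, mul_one, mul_one, one_mul, Matrix.vecMulVec_mul_vecMulVec, hφu, zero_smul,
      Matrix.vecMulVec_zero, add_zero, add_assoc, val_two_eq_zero h2, add_zero]
  let T : GL (Fin m) F := ⟨1 + Matrix.vecMulVec u φ, 1 + Matrix.vecMulVec u φ, hTT, hTT⟩
  refine ⟨T, transv_of_vec hu0 hφ0 hφu rfl, Units.ext ?_⟩
  show (A : Matrix (Fin m) (Fin m) F) * (1 + Matrix.vecMulVec u φ) = (1 + Matrix.vecMulVec u φ) * A
  rw [mul_add, add_mul, mul_one, one_mul, Matrix.mul_vecMulVec, Matrix.vecMulVec_mul,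
    show (A : Matrix (Fin m) (Fin m) F) = M + ν • 1 by rw [hM, sub_add_cancel], Matrix.add_mulVec, hu, zero_add,
    Matrix.smul_mulVec, Matrix.one_mulVec, Matrix.vecMul_add, hMφ, zero_add, Matrix.vecMul_smul, Matrix.vecMul_one,
    Matrix.smul_vecMulVec, Matrix.vecMulVec_smul]

/-- the slots touched by an element -/
def Touch (q : GL (Fin t → Fin m) F) (l : Fin t) : Prop := ∃ x : GL (Fin m) F, ¬ Commute q (slotGL l x)

/-- the set of touched slots -/
noncomputable def supp (q : GL (Fin t → Fin m) F) : Finset (Fin t) :=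
  @Finset.filter _ (fun l => Touch q l) (Classical.decPred _) Finset.univ

theorem mem_supp {q : GL (Fin t → Fin m) F} {l : Fin t} : l ∈ supp q ↔ Touch q l := by simp [supp]

theorem Moves.touch {n : GL (Fin t → Fin m) F} {σ : Equiv.Perm (Fin t)} (hn : Moves n σ) (q : GL (Fin t → Fin m) F)
    (l : Fin t) (h : Touch q l) : Touch (n * q * n⁻¹) (σ l) := by
  obtain ⟨a, ha⟩ := hn
  obtain ⟨x, hx⟩ := h
  refine ⟨a l * x * (a l)⁻¹, fun hc => hx ?_⟩
  rw [← ha] at hc
  rw [commute_iff_eq]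
  calc q * slotGL l x = n⁻¹ * ((n * q * n⁻¹) * (n * slotGL l x * n⁻¹)) * n := by group
    _ = n⁻¹ * ((n * slotGL l x * n⁻¹) * (n * q * n⁻¹)) * n := by rw [hc.eq]
    _ = _ := by group

theorem Moves.card_supp {n : GL (Fin t → Fin m) F} {σ : Equiv.Perm (Fin t)} (hn : Moves n σ)
    (q : GL (Fin t → Fin m) F) : (supp (n * q * n⁻¹)).card = (supp q).card := by
  refine le_antisymm ?_ ?_
  · refine Finset.card_le_card_of_injOn (fun l => σ⁻¹ l) (fun l hl => ?_) σ⁻¹.injective.injOn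
    rw [Finset.mem_coe, mem_supp] at hl ⊢
    have := hn.inv.touch _ l hl
    rwa [show n⁻¹ * (n * q * n⁻¹) * n⁻¹⁻¹ = q by group] at this
  · refine Finset.card_le_card_of_injOn (fun l => σ l) (fun l hl => ?_) σ.injective.injOn
    rw [Finset.mem_coe, mem_supp] at hl ⊢
    exact hn.touch _ l hl

/-- commutes with all elements of the slot -/
def Off (q : GL (Fin t → Fin m) F) (l : Fin t) : Prop := ∀ x : GL (Fin m) F, Commute q (slotGL l x)

theorem not_touch {q : GL (Fin t → Fin m) F} {l : Fin t} : ¬ Touch q l ↔ Off q l := by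
  simp [Touch, Off]

theorem off_slot {i l : Fin t} (h : i ≠ l) (X : GL (Fin m) F) : Off (slotGL i X) l := fun x => slotGL_comm h X x

theorem Off.mul {q q' : GL (Fin t → Fin m) F} {l : Fin t} (h : Off q l) (h' : Off q' l) : Off (q * q') l :=
  fun x => (h x).mul_left (h' x)

theorem off_one (l : Fin t) : Off (1 : GL (Fin t → Fin m) F) l := fun x => Commute.one_left _

theorem touch_mul [NeZero m] {q : GL (Fin (t + 1) → Fin m) F} {l : Fin (t + 1)} {X y : GL (Fin m) F} (hq : Off q l)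
    (hX : ¬ Commute X y) : Touch (slotGL l X * q) l ∧ Touch (q * slotGL l X) l := by
  have key : ¬ Commute (slotGL l X) (slotGL (t := t + 1) l y) := fun h => hX (slotGL_inj l (by
    rw [map_mul, map_mul]; exact h.eq))
  constructor <;> refine ⟨y, fun h => key ?_⟩
  · have := h.mul_left (hq y).inv_left
    rwa [mul_inv_cancel_right] at this
  · have := (hq y).inv_left.mul_left h
    rwa [inv_mul_cancel_left] at this

end CfsgLib.MaxSub.TPowSL
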